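import Mathlib
import Cfsg.Prelude.Def_Solvable

set_option autoImplicit false
set_option linter.style.haveILetI false

namespace Cfsg.Agent.Helper70

open Subgroup

theorem relIndex_dvd_index_of_normal_right {G : Type*} [Group G] [Finite G] (H N : Subgroup G)
    [N.Normal] : H.relIndex N ∣ H.index := by
  have e1 : (H ⊓ N).relIndex H * H.relIndex (H ⊔ N) = (H ⊓ N).relIndex (H ⊔ N) :=
    relIndex_mul_relIndex _ _ _ inf_le_left le_sup_left
  have e2 : (H ⊓ N).relIndex N * N.relIndex (H ⊔ N) = (H ⊓ N).relIndex (H ⊔ N) :=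
    relIndex_mul_relIndex _ _ _ inf_le_right le_sup_right
  rw [inf_relIndex_left] at e1
  rw [inf_relIndex_right, relIndex_sup_right] at e2
  have hne : N.relIndex H ≠ 0 := by
    show (N.subgroupOf H).index ≠ 0
    exact Subgroup.index_ne_zero_of_finite
  have e3 : H.relIndex (H ⊔ N) = H.relIndex N := by
    have : N.relIndex H * H.relIndex (H ⊔ N) = N.relIndex H * H.relIndex N := by
      rw [e1, ← e2, mul_comm]
    exact Nat.eq_of_mul_eq_mul_left (Nat.pos_of_ne_zero hne) this
  rw [← e3]
  exact relIndex_dvd_index_of_le le_sup_left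

/-- In a finite nilpotent group, `y ^ [N : K] ∈ K` for every subgroup `K`. -/
theorem pow_index_mem_of_isNilpotent {N : Type*} [Group N] [Finite N] [Group.IsNilpotent N]
    (K : Subgroup N) (y : N) : y ^ K.index ∈ K := by
  have hnc : NormalizerCondition N := Group.normalizerCondition_of_isNilpotent
  suffices h : ∀ n : ℕ, ∀ K : Subgroup N, K.index = n → ∀ y : N, y ^ K.index ∈ K from
    h _ K rfl y
  intro n
  induction n using Nat.strong_induction_on with
  | _ n ih =>
    intro K hK y
    by_cases htop : K = ⊤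
    · subst htop; simp
    · have hlt : K < normalizer (K : Set N) := hnc K (lt_top_iff_ne_top.mpr htop)
      set M := normalizer (K : Set N) with hM
      have h1 : K.relIndex M * M.index = K.index := relIndex_mul_index hlt.le
      have hidx : M.index < K.index := by
        have h2 : 1 < K.relIndex M := by
          rcases Nat.lt_or_ge 1 (K.relIndex M) with h | h
          · exact h
          · exfalso
            have hne : K.relIndex M ≠ 0 := by
              show (K.subgroupOf M).index ≠ 0
              exact Subgroup.index_ne_zero_of_finite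
            have : K.relIndex M = 1 := by omega
            rw [relIndex_eq_one] at this
            exact (not_le_of_gt hlt) this
        have h3 : 0 < M.index := Nat.pos_of_ne_zero Subgroup.index_ne_zero_of_finite
        nlinarith
      have hyM : y ^ M.index ∈ M := ih M.index (hK ▸ hidx) M rfl y
      have hn : (K.subgroupOf M).Normal := Subgroup.normal_in_normalizer
      have := Subgroup.pow_index_mem (K.subgroupOf M) ⟨y ^ M.index, hyM⟩
      rw [Subgroup.mem_subgroupOf] at this
      rw [← h1, mul_comm, pow_mul]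
      exact this

/-- If `N` is a normal nilpotent subgroup of the finite group `G`, `y ∈ N`, then `y ^ [G : H] ∈ H`
for every subgroup `H`. -/
theorem pow_index_mem_of_mem_normal_nilpotent {G : Type*} [Group G] [Finite G] (N : Subgroup G)
    [N.Normal] [Group.IsNilpotent N] (H : Subgroup G) {y : G} (hy : y ∈ N) : y ^ H.index ∈ H := by
  have h1 := pow_index_mem_of_isNilpotent (H.subgroupOf N) ⟨y, hy⟩
  rw [Subgroup.mem_subgroupOf] at h1
  obtain ⟨k, hk⟩ := relIndex_dvd_index_of_normal_right H N
  rw [hk, pow_mul]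
  exact H.pow_mem h1 k

/-- A subgroup containing a Sylow `p`-subgroup for every prime `p` is everything. -/
theorem eq_top_of_forall_sylow_le {G : Type*} [Group G] [Finite G] (K : Subgroup G)
    (h : ∀ (p : ℕ) [Fact p.Prime], ∃ P : Sylow p G, (P : Subgroup G) ≤ K) : K = ⊤ := by
  apply Subgroup.eq_top_of_le_card
  apply Nat.le_of_dvd Nat.card_pos
  rw [← Nat.factorization_prime_le_iff_dvd Nat.card_pos.ne' Nat.card_pos.ne']
  intro p hp
  have : Fact p.Prime := ⟨hp⟩
  obtain ⟨P, hP⟩ := h p
  have h1 : Nat.card P ∣ Nat.card K := Subgroup.card_dvd_of_le hP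
  rw [P.card_eq_multiplicity] at h1
  exact (hp.pow_dvd_iff_le_factorization Nat.card_pos.ne').mp h1

/-- A normal `p`-subgroup lies in every Sylow `p`-subgroup. -/
theorem le_sylow_of_normal_isPGroup {G : Type*} [Group G] [Finite G] {p : ℕ} [Fact p.Prime]
    (N : Subgroup G) [N.Normal] (hN : IsPGroup p N) (P : Sylow p G) : N ≤ P := by
  obtain ⟨Q, hQ⟩ := hN.exists_le_sylow
  obtain ⟨g, rfl⟩ := MulAction.exists_smul_eq G Q P
  intro x hx
  rw [Sylow.coe_subgroup_smul, Subgroup.mem_pointwise_smul_iff_inv_smul_mem]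
  apply hQ
  have h1 := (inferInstance : N.Normal).conj_mem x hx g⁻¹
  simpa using h1


theorem pCore_normal (p : ℕ) (G : Type*) [Group G] : (Cfsg.pCore p G).Normal :=
  Subgroup.sSup_normal _ fun _ h => h.1

theorem pCore_le_sylow {G : Type*} [Group G] [Finite G] {p : ℕ} [Fact p.Prime] (P : Sylow p G) :
    Cfsg.pCore p G ≤ P := by
  apply sSup_le
  rintro N ⟨hN1, hN2⟩
  exact le_sylow_of_normal_isPGroup N hN2 P

theorem pCore_isPGroup {G : Type*} [Group G] [Finite G] {p : ℕ} [Fact p.Prime] :
    IsPGroup p (Cfsg.pCore p G) :=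
  (default : Sylow p G).isPGroup'.to_le (pCore_le_sylow _)

theorem le_pCore {G : Type*} [Group G] {p : ℕ} (N : Subgroup G) [hN : N.Normal]
    (h : IsPGroup p N) : N ≤ Cfsg.pCore p G :=
  le_sSup ⟨hN, h⟩

theorem pCore_le_fittingSubgroup {G : Type*} [Group G] [Finite G] {p : ℕ} [Fact p.Prime] :
    Cfsg.pCore p G ≤ Cfsg.fittingSubgroup G :=
  le_sSup ⟨pCore_normal p G, pCore_isPGroup.isNilpotent⟩

/-- The join of the `p`-cores over the prime divisors of the order. -/
noncomputable def coreJoin (G : Type*) [Group G] : Subgroup G :=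
  ⨆ p : (Nat.card G).primeFactors, Cfsg.pCore (p : ℕ) G

theorem coreJoin_normal (G : Type*) [Group G] : (coreJoin G).Normal := by
  haveI : ∀ p : (Nat.card G).primeFactors, (Cfsg.pCore (p : ℕ) G).Normal :=
    fun p => pCore_normal _ _
  exact Subgroup.iSup_normal _

theorem coreJoin_isNilpotent (G : Type*) [Group G] [Finite G] :
    Group.IsNilpotent (coreJoin G) := by
  classical
  have hprime : ∀ p : (Nat.card G).primeFactors, Fact (p : ℕ).Prime :=
    fun p => ⟨Nat.prime_of_mem_primeFactors p.2⟩
  have hcomm : Pairwise fun i j : (Nat.card G).primeFactors =>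
      ∀ x y : G, x ∈ Cfsg.pCore (i : ℕ) G → y ∈ Cfsg.pCore (j : ℕ) G → Commute x y := by
    intro i j hij x y hx hy
    haveI := hprime i
    haveI := hprime j
    have hne : (i : ℕ) ≠ (j : ℕ) := fun h => hij (Subtype.ext h)
    have hdisj : Disjoint (Cfsg.pCore (i : ℕ) G) (Cfsg.pCore (j : ℕ) G) :=
      IsPGroup.disjoint_of_ne _ _ hne _ _ pCore_isPGroup pCore_isPGroup
    exact Subgroup.commute_of_normal_of_disjoint _ _ (pCore_normal _ _) (pCore_normal _ _) hdisj
      x y hx hy
  haveI : ∀ i : (Nat.card G).primeFactors, Group.IsNilpotent (Cfsg.pCore (i : ℕ) G) := by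
    intro i
    haveI := hprime i
    exact pCore_isPGroup.isNilpotent
  have hrange : (Subgroup.noncommPiCoprod hcomm).range = coreJoin G :=
    Subgroup.noncommPiCoprod_range
  rw [← hrange]
  exact Group.nilpotent_of_surjective _ (Subgroup.noncommPiCoprod hcomm).rangeRestrict_surjective

theorem le_coreJoin_of_normal_nilpotent {G : Type*} [Group G] [Finite G] (N : Subgroup G)
    [hN : N.Normal] [hnil : Group.IsNilpotent N] : N ≤ coreJoin G := by
  rw [← Subgroup.subgroupOf_eq_top]
  apply eq_top_of_forall_sylow_le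
  intro p hp
  refine ⟨default, ?_⟩
  set Q : Sylow p N := default with hQ
  by_cases hpG : p ∣ Nat.card G
  · haveI : (Q : Subgroup N).Characteristic := Sylow.characteristic_of_normal Q inferInstance
    haveI : ((Q : Subgroup N).map N.subtype).Normal := inferInstance
    have hpg : IsPGroup p ((Q : Subgroup N).map N.subtype) := Q.isPGroup'.map _
    have h1 : (Q : Subgroup N).map N.subtype ≤ Cfsg.pCore p G := le_pCore _ hpg
    have hmem : p ∈ (Nat.card G).primeFactors :=
      Nat.mem_primeFactors.mpr ⟨hp.out, hpG, Nat.card_pos.ne'⟩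
    have h2 : Cfsg.pCore p G ≤ coreJoin G :=
      le_iSup (fun q : (Nat.card G).primeFactors => Cfsg.pCore (q : ℕ) G) ⟨p, hmem⟩
    intro x hx
    rw [Subgroup.mem_subgroupOf]
    exact h2 (h1 (Subgroup.mem_map_of_mem _ hx))
  · have hpN : ¬ p ∣ Nat.card N := fun h => hpG (h.trans (Subgroup.card_subgroup_dvd_card N))
    have hcard : Nat.card Q = 1 := by
      rw [Q.card_eq_multiplicity, Nat.factorization_eq_zero_of_not_dvd hpN, pow_zero]
    have : (Q : Subgroup N) = ⊥ := (Subgroup.card_eq_one).mp hcard
    rw [this]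
    exact bot_le

theorem fittingSubgroup_eq_coreJoin (G : Type*) [Group G] [Finite G] :
    Cfsg.fittingSubgroup G = coreJoin G := by
  apply le_antisymm
  · apply sSup_le
    rintro N ⟨hN1, hN2⟩
    exact le_coreJoin_of_normal_nilpotent N
  · apply iSup_le
    intro p
    haveI : Fact (p : ℕ).Prime := ⟨Nat.prime_of_mem_primeFactors p.2⟩
    exact pCore_le_fittingSubgroup

theorem fittingSubgroup_normal (G : Type*) [Group G] : (Cfsg.fittingSubgroup G).Normal :=
  Subgroup.sSup_normal _ fun _ h => h.1

theorem fittingSubgroup_isNilpotent (G : Type*) [Group G] [Finite G] :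
    Group.IsNilpotent (Cfsg.fittingSubgroup G) := by
  rw [fittingSubgroup_eq_coreJoin]
  exact coreJoin_isNilpotent G

end Cfsg.Agent.Helper70
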