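import Mathlib

set_option autoImplicit false
set_option linter.style.haveILetI false
set_option linter.unusedSectionVars false

namespace Cfsg.Agent.Helper70

open scoped IsMulCommutative

section
variable {G : Type*} [Group G] (A : Subgroup G) [A.Normal] [IsMulCommutative A]

/-- A crossed homomorphism `ψ : G → A` on the subgroup `P` (a total function, the cocycle
condition being required on `P` only), restricting to the `n`-th power map on `A`. -/
structure IsCrossedOn (P : Subgroup G) (n : ℤ) (ψ : G → A) : Prop where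
  mul : ∀ x ∈ P, ∀ y ∈ P, ψ (x * y) = ψ x * MulAut.conjNormal x (ψ y)
  onA : ∀ a : A, ψ (a : G) = a ^ n

variable {A}

theorem conjNormal_of_mem (a : A) (b : A) : MulAut.conjNormal (a : G) b = b := by
  apply Subtype.ext
  rw [MulAut.conjNormal_apply]
  have : (a * b * a⁻¹ : A) = b := by rw [mul_comm a b, mul_inv_cancel_right]
  exact congrArg Subtype.val this

theorem IsCrossedOn.map_one {n : ℤ} {ψ : G → A} (h : IsCrossedOn A ⊤ n ψ) : ψ 1 = 1 := by
  have := h.mul 1 trivial 1 trivial
  simpa using this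

/-- Pointwise product of crossed homomorphisms. -/
theorem IsCrossedOn.mul' {P : Subgroup G} {n m : ℤ} {ψ χ : G → A} (h1 : IsCrossedOn A P n ψ)
    (h2 : IsCrossedOn A P m χ) : IsCrossedOn A P (n + m) (fun g => ψ g * χ g) := by
  refine ⟨?_, ?_⟩
  · intro x hx y hy
    rw [h1.mul x hx y hy, h2.mul x hx y hy, map_mul]
    exact mul_mul_mul_comm _ _ _ _
  · intro a
    rw [h1.onA, h2.onA, zpow_add]

theorem IsCrossedOn.zpow' {P : Subgroup G} {n : ℤ} {ψ : G → A} (h1 : IsCrossedOn A P n ψ)
    (u : ℤ) : IsCrossedOn A P (n * u) (fun g => ψ g ^ u) := by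
  refine ⟨?_, ?_⟩
  · intro x hx y hy
    rw [h1.mul x hx y hy, mul_zpow, map_zpow]
  · intro a
    rw [h1.onA, zpow_mul]

/-- A crossed homomorphism on all of `G` which is the identity on `A` yields a complement. -/
theorem exists_complement_of_crossed {ψ : G → A} (h : IsCrossedOn A ⊤ 1 ψ) :
    ∃ K : Subgroup G, K.IsComplement' A := by
  let K : Subgroup G :=
    { carrier := {g | ψ g = 1}
      one_mem' := h.map_one
      mul_mem' := by
        intro x y hx hy
        show ψ (x * y) = 1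
        rw [h.mul x trivial y trivial, show ψ x = 1 from hx, show ψ y = 1 from hy]
        simp
      inv_mem' := by
        intro x hx
        show ψ x⁻¹ = 1
        have h1 := h.mul x trivial x⁻¹ trivial
        rw [mul_inv_cancel, h.map_one, show ψ x = 1 from hx, one_mul] at h1
        have h2 : MulAut.conjNormal x (ψ x⁻¹) = MulAut.conjNormal x 1 := by
          rw [← h1, map_one]
        exact (MulAut.conjNormal x).injective h2 }
  refine ⟨K, ?_⟩
  apply Subgroup.IsComplement'.symm
  apply Subgroup.isComplement'_of_disjoint_and_mul_eq_univ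
  · rw [Subgroup.disjoint_def]
    intro x hxA hxK
    have h1 : ψ x = 1 := hxK
    have h2 := h.onA ⟨x, hxA⟩
    rw [zpow_one] at h2
    simp only at h2
    rw [h1] at h2
    exact (congrArg Subtype.val h2).symm
  · rw [Set.eq_univ_iff_forall]
    intro g
    refine ⟨(ψ g : G), (ψ g).2, (ψ g : G)⁻¹ * g, ?_, by group⟩
    show ψ ((ψ g : G)⁻¹ * g) = 1
    rw [h.mul _ trivial _ trivial]
    have e1 : ψ ((ψ g : G)⁻¹) = (ψ g)⁻¹ := by
      have := h.onA (ψ g)⁻¹
      rw [zpow_one] at this
      simpa using this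
    have e2 : MulAut.conjNormal ((ψ g : G)⁻¹) (ψ g) = ψ g := by
      have := conjNormal_of_mem (ψ g)⁻¹ (ψ g)
      simpa using this
    rw [e1, e2, inv_mul_cancel]


open Classical in
/-- the `A`-component of an element of `A * K` -/
noncomputable def compA (K : Subgroup G) (x : G) : A :=
  if h : ∃ a : A, ∃ k ∈ K, x = (a : G) * k then Classical.choose h else 1

theorem compA_eq (K : Subgroup G) (hK : K ⊓ A = ⊥) (a : A) {k : G} (hk : k ∈ K) :
    compA (A := A) K ((a : G) * k) = a := by
  have h : ∃ a' : A, ∃ k' ∈ K, (a : G) * k = (a' : G) * k' := ⟨a, k, hk, rfl⟩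
  unfold compA
  rw [dif_pos h]
  obtain ⟨k', hk', heq⟩ := Classical.choose_spec h
  set a' := Classical.choose h
  -- a'⁻¹ a = k' k⁻¹
  have h1 : ((a' : G))⁻¹ * (a : G) = k' * k⁻¹ := by
    have : (a : G) = (a' : G) * k' * k⁻¹ := by rw [← heq]; group
    rw [this]; group
  have h2 : ((a' : G))⁻¹ * (a : G) ∈ K ⊓ A := by
    refine ⟨?_, A.mul_mem (A.inv_mem a'.2) a.2⟩
    rw [SetLike.mem_coe, h1]
    exact K.mul_mem hk' (K.inv_mem hk)
  rw [hK, Subgroup.mem_bot] at h2
  apply Subtype.ext
  have : (a : G) = (a' : G) := by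
    have := congrArg (fun z => (a' : G) * z) h2
    simpa using this
  exact this.symm

theorem isCrossedOn_of_complement (K P : Subgroup G) (hK : K ⊓ A = ⊥) (hP : K ⊔ A = P) :
    IsCrossedOn A P 1 (compA (A := A) K) := by
  have hdecomp : ∀ x ∈ P, ∃ a : A, ∃ k ∈ K, x = (a : G) * k := by
    intro x hx
    have hx' : x ∈ ((A ⊔ K : Subgroup G) : Set G) := by rw [sup_comm, hP]; exact hx
    rw [Subgroup.normal_mul] at hx'
    obtain ⟨a, ha, k, hk, rfl⟩ := hx'
    exact ⟨⟨a, ha⟩, k, hk, rfl⟩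
  refine ⟨?_, ?_⟩
  · intro x hx y hy
    obtain ⟨a, k, hk, rfl⟩ := hdecomp x hx
    obtain ⟨a', k', hk', rfl⟩ := hdecomp y hy
    have e : (a : G) * k * ((a' : G) * k') =
        ((a * MulAut.conjNormal k a' : A) : G) * (k * k') := by
      rw [Subgroup.coe_mul, MulAut.conjNormal_apply]; group
    rw [e, compA_eq K hK _ (K.mul_mem hk hk'), compA_eq K hK _ hk, compA_eq K hK _ hk', map_mul,
      MulAut.mul_apply, conjNormal_of_mem]
  · intro a
    have := compA_eq K hK a K.one_mem
    rw [mul_one] at this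
    rw [this, zpow_one]


section Transfer

variable (P : Subgroup G)

/-- coset representative -/
noncomputable def rp (q : G ⧸ P) : G := Quotient.out q

theorem rp_spec (q : G ⧸ P) : ((rp P q : G) : G ⧸ P) = q := QuotientGroup.out_eq' q

/-- the `P`-part of `g * rp q` -/
noncomputable def tt (g : G) (q : G ⧸ P) : G := (rp P (g • q))⁻¹ * g * rp P q

theorem tt_mem (g : G) (q : G ⧸ P) : tt P g q ∈ P := by
  rw [tt, mul_assoc, ← QuotientGroup.eq, rp_spec]
  conv_lhs => rw [← rp_spec P q]
  rfl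

theorem tt_mul (g h : G) (q : G ⧸ P) : tt P (g * h) q = tt P g (h • q) * tt P h q := by
  unfold tt
  rw [mul_smul]
  group

theorem rp_mul_tt (g : G) (q : G ⧸ P) : rp P (g • q) * tt P g q = g * rp P q := by
  unfold tt
  group

variable [Fintype (G ⧸ P)]

/-- transfer of a crossed homomorphism -/
noncomputable def transferCrossed (ψ : G → A) (g : G) : A :=
  ∏ q : G ⧸ P, MulAut.conjNormal (rp P (g • q)) (ψ (tt P g q))

theorem smul_of_mem (hAP : A ≤ P) (a : A) (q : G ⧸ P) : (a : G) • q = q := by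
  conv_lhs => rw [← rp_spec P q]
  conv_rhs => rw [← rp_spec P q]
  rw [MulAction.Quotient.smul_mk, QuotientGroup.eq]
  apply hAP
  have := (inferInstance : A.Normal).conj_mem (a : G)⁻¹ (A.inv_mem a.2) (rp P q)⁻¹
  simpa [smul_eq_mul, mul_assoc] using this

theorem isCrossedOn_transfer (hAP : A ≤ P) {ψ : G → A} (h : IsCrossedOn A P 1 ψ) :
    IsCrossedOn A ⊤ (P.index : ℤ) (transferCrossed (A := A) P ψ) := by
  refine ⟨?_, ?_⟩
  · intro g _ k _
    unfold transferCrossed
    have hterm : ∀ q : G ⧸ P,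
        MulAut.conjNormal (rp P ((g * k) • q)) (ψ (tt P (g * k) q)) =
          MulAut.conjNormal (rp P (g • (k • q))) (ψ (tt P g (k • q))) *
            MulAut.conjNormal g (MulAut.conjNormal (rp P (k • q)) (ψ (tt P k q))) := by
      intro q
      rw [tt_mul, h.mul _ (tt_mem P g (k • q)) _ (tt_mem P k q), map_mul, mul_smul]
      congr 1
      rw [← MulAut.mul_apply, ← map_mul, rp_mul_tt, map_mul, MulAut.mul_apply]
    rw [Finset.prod_congr rfl (fun q _ => hterm q), Finset.prod_mul_distrib, map_prod]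
    congr 1
    exact Equiv.prod_comp (MulAction.toPerm k)
      (fun q => MulAut.conjNormal (rp P (g • q)) (ψ (tt P g q)))
  · intro a
    unfold transferCrossed
    have hterm : ∀ q : G ⧸ P,
        MulAut.conjNormal (rp P ((a : G) • q)) (ψ (tt P (a : G) q)) = a := by
      intro q
      have e : tt P (a : G) q = ((MulAut.conjNormal (rp P q)⁻¹ a : A) : G) := by
        unfold tt
        rw [smul_of_mem P hAP, MulAut.conjNormal_apply, inv_inv]
      rw [e, h.onA, zpow_one, smul_of_mem P hAP, ← MulAut.mul_apply, ← map_mul, mul_inv_cancel,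
        map_one, MulAut.one_apply]
    rw [Finset.prod_congr rfl (fun q _ => hterm q), Finset.prod_const, Finset.card_univ,
      zpow_natCast, Subgroup.index, Nat.card_eq_fintype_card]

end Transfer


/-- Bezout combination of crossed homomorphisms. -/
theorem exists_crossed_gcd {k n : ℕ} (hk : ∃ ψ : G → A, IsCrossedOn A ⊤ (k : ℤ) ψ)
    (hn : ∃ ψ : G → A, IsCrossedOn A ⊤ (n : ℤ) ψ) :
    ∃ ψ : G → A, IsCrossedOn A ⊤ ((Nat.gcd k n : ℕ) : ℤ) ψ := by
  obtain ⟨ψ1, h1⟩ := hk
  obtain ⟨ψ2, h2⟩ := hn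
  refine ⟨fun g => ψ1 g ^ (Nat.gcdA k n) * ψ2 g ^ (Nat.gcdB k n), ?_⟩
  have := (h1.zpow' (Nat.gcdA k n)).mul' (h2.zpow' (Nat.gcdB k n))
  rwa [← Nat.gcd_eq_gcd_ab] at this

theorem exists_crossed_one (m : ℕ)
    (hprime : ∀ p : ℕ, p.Prime → p ∣ m →
      ∃ n : ℕ, ¬ p ∣ n ∧ ∃ ψ : G → A, IsCrossedOn A ⊤ (n : ℤ) ψ) :
    ∀ k : ℕ, 0 < k → k ∣ m → (∃ ψ : G → A, IsCrossedOn A ⊤ (k : ℤ) ψ) →
      ∃ ψ : G → A, IsCrossedOn A ⊤ 1 ψ := by
  intro k
  induction k using Nat.strong_induction_on with
  | _ k ih =>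
    intro hk hkm hψ
    by_cases h1 : k = 1
    · subst h1
      simpa using hψ
    · have hp : (Nat.minFac k).Prime := Nat.minFac_prime h1
      obtain ⟨n, hpn, hn⟩ := hprime _ hp ((Nat.minFac_dvd k).trans hkm)
      have hg := exists_crossed_gcd hψ hn
      have hgpos : 0 < Nat.gcd k n := Nat.gcd_pos_of_pos_left _ hk
      have hgdvd : Nat.gcd k n ∣ m := (Nat.gcd_dvd_left k n).trans hkm
      have hglt : Nat.gcd k n < k := by
        have hle : Nat.gcd k n ≤ k := Nat.le_of_dvd hk (Nat.gcd_dvd_left k n)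
        rcases Nat.lt_or_ge (Nat.gcd k n) k with hlt | hge
        · exact hlt
        · exfalso
          have heq : Nat.gcd k n = k := le_antisymm hle hge
          exact hpn ((Nat.minFac_dvd k).trans (heq ▸ Nat.gcd_dvd_right k n))
      exact ih _ hglt hgpos hgdvd hg

end

/-- **Gaschütz**: an abelian normal subgroup `A` of a finite group has a complement as soon as it
has one in the preimage of some Sylow `p`-subgroup of `G ⧸ A` for every prime `p ∣ [G : A]`. -/
theorem gaschutz {G : Type*} [Group G] [Finite G] (A : Subgroup G) [A.Normal]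
    (hA : IsMulCommutative A)
    (h : ∀ p : ℕ, p.Prime → p ∣ A.index → ∃ (S : Sylow p (G ⧸ A)) (K : Subgroup G),
      K ⊓ A = ⊥ ∧ K ⊔ A = (S : Subgroup (G ⧸ A)).comap (QuotientGroup.mk' A)) :
    ∃ K : Subgroup G, K.IsComplement' A := by
  classical
  by_cases hm : A.index = 1
  · rw [Subgroup.index_eq_one] at hm
    subst hm
    exact ⟨⊥, Subgroup.isComplement'_bot_top⟩
  · have hprime : ∀ p : ℕ, p.Prime → p ∣ A.index →
        ∃ n : ℕ, (¬ p ∣ n ∧ ∃ ψ : G → A, IsCrossedOn A ⊤ (n : ℤ) ψ) ∧ 0 < n ∧ n ∣ A.index := by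
      intro p hp hpm
      haveI : Fact p.Prime := ⟨hp⟩
      obtain ⟨S, K, hK1, hK2⟩ := h p hp hpm
      set P := (S : Subgroup (G ⧸ A)).comap (QuotientGroup.mk' A) with hP
      have hAP : A ≤ P := by
        intro a ha
        rw [hP, Subgroup.mem_comap]
        have : QuotientGroup.mk' A a = 1 := (QuotientGroup.eq_one_iff a).mpr ha
        rw [this]; exact Subgroup.one_mem _
      have hidx : P.index = (S : Subgroup (G ⧸ A)).index :=
        Subgroup.index_comap_of_surjective _ (QuotientGroup.mk'_surjective A)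
      haveI : Fintype (G ⧸ P) := Fintype.ofFinite _
      have hc := isCrossedOn_transfer P hAP (isCrossedOn_of_complement K P hK1 hK2)
      refine ⟨P.index, ⟨?_, _, hc⟩, Nat.pos_of_ne_zero Subgroup.index_ne_zero_of_finite,
        Subgroup.index_dvd_of_le hAP⟩
      rw [hidx]
      exact S.not_dvd_index
    have hp0 : (Nat.minFac A.index).Prime := Nat.minFac_prime hm
    obtain ⟨n0, ⟨-, hn0⟩, hn0pos, hn0dvd⟩ := hprime _ hp0 (Nat.minFac_dvd _)
    obtain ⟨ψ, hψ⟩ := exists_crossed_one A.index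
      (fun p hp hpm => by
        obtain ⟨n, hn, -, -⟩ := hprime p hp hpm
        exact ⟨n, hn⟩) n0 hn0pos hn0dvd hn0
    exact exists_complement_of_crossed hψ

end Cfsg.Agent.Helper70
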