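import Mathlib
import Cfsg.Prelude.Def_PLocal

set_option autoImplicit false
set_option linter.style.haveILetI false

namespace Cfsg.Agent.Helper70

open Subgroup
open scoped commutatorElement

universe u

theorem powerClosure_map {G H : Type*} [Group G] [Group H] (f : G →* H) (p n : ℕ)
    (K : Subgroup G) :
    Cfsg.powerClosure p n (K.map f) = (Cfsg.powerClosure p n K).map f := by
  unfold Cfsg.powerClosure
  rw [MonoidHom.map_closure]
  congr 1
  ext y
  constructor
  · rintro ⟨x, ⟨x0, hx0, rfl⟩, rfl⟩
    exact ⟨x0 ^ (p ^ n), ⟨x0, hx0, rfl⟩, by simp⟩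
  · rintro ⟨_, ⟨x0, hx0, rfl⟩, rfl⟩
    exact ⟨f x0, ⟨x0, hx0, rfl⟩, by simp⟩

theorem powerClosure_mono {G : Type*} [Group G] (p n : ℕ) {K L : Subgroup G} (h : K ≤ L) :
    Cfsg.powerClosure p n K ≤ Cfsg.powerClosure p n L := by
  unfold Cfsg.powerClosure
  apply Subgroup.closure_mono
  rintro y ⟨x, hx, rfl⟩
  exact ⟨x, h hx, rfl⟩

theorem powerClosure_eq_bot {G : Type*} [Group G] (p n : ℕ) {K : Subgroup G}
    (h : ∀ x ∈ K, x ^ (p ^ n) = 1) : Cfsg.powerClosure p n K = ⊥ := by
  unfold Cfsg.powerClosure
  rw [Subgroup.closure_eq_bot_iff]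
  rintro y ⟨x, hx, rfl⟩
  exact h x hx

theorem IsRegularPGroup.subgroup {p : ℕ} {G : Type*} [Group G] (hG : Cfsg.IsRegularPGroup p G)
    (H : Subgroup G) : Cfsg.IsRegularPGroup p H := by
  refine ⟨hG.1.to_subgroup H, ?_⟩
  intro a b n
  obtain ⟨c, hc, hceq⟩ := hG.2 (a : G) (b : G) n
  have himg : Subgroup.closure ({(a : G), (b : G)} : Set G) =
      (Subgroup.closure ({a, b} : Set H)).map H.subtype := by
    rw [MonoidHom.map_closure, Set.image_pair]
    rfl
  rw [himg, ← Subgroup.map_commutator, powerClosure_map] at hc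
  obtain ⟨c', hc', rfl⟩ := hc
  refine ⟨c', hc', ?_⟩
  apply Subtype.ext
  simpa using hceq

/-- If the generators `u, v` of `G` commute modulo the normal subgroup `N`, then `G' ≤ N`. -/
theorem commutator_le_of_closure_pair {G : Type*} [Group G] (N : Subgroup G) [N.Normal] (u v : G)
    (htop : Subgroup.closure ({u, v} : Set G) = ⊤) (huv : ⁅u, v⁆ ∈ N) :
    commutator G ≤ N := by
  rw [← Subgroup.Normal.quotient_commutative_iff_commutator_le]
  have hgen : Subgroup.closure ({(QuotientGroup.mk' N u), (QuotientGroup.mk' N v)} : Set (G ⧸ N))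
      = ⊤ := by
    rw [← Set.image_pair, ← MonoidHom.map_closure, htop, ← MonoidHom.range_eq_map,
      MonoidHom.range_eq_top]
    exact QuotientGroup.mk'_surjective N
  have hcomm : QuotientGroup.mk' N u * QuotientGroup.mk' N v =
      QuotientGroup.mk' N v * QuotientGroup.mk' N u := by
    have h1 : QuotientGroup.mk' N ⁅u, v⁆ = 1 := (QuotientGroup.eq_one_iff _).mpr huv
    rw [map_commutatorElement, commutatorElement_eq_one_iff_mul_comm] at h1
    exact h1
  refine ⟨⟨fun x y => ?_⟩⟩
  have hx : x ∈ Subgroup.closure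
      ({(QuotientGroup.mk' N u), (QuotientGroup.mk' N v)} : Set (G ⧸ N)) := hgen ▸ mem_top x
  have hy : y ∈ Subgroup.closure
      ({(QuotientGroup.mk' N u), (QuotientGroup.mk' N v)} : Set (G ⧸ N)) := hgen ▸ mem_top y
  have hc : ∀ s ∈ ({(QuotientGroup.mk' N u), (QuotientGroup.mk' N v)} : Set (G ⧸ N)),
      ∀ t ∈ ({(QuotientGroup.mk' N u), (QuotientGroup.mk' N v)} : Set (G ⧸ N)), s * t = t * s := by
    intro s hs t ht
    rcases hs with rfl | rfl <;> rcases ht with rfl | rfl
    · rfl
    · exact hcomm
    · exact hcomm.symm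
    · rfl
  have hI := Subgroup.isMulCommutative_closure hc
  have := hI.is_comm.comm (⟨x, hx⟩ : Subgroup.closure
      ({(QuotientGroup.mk' N u), (QuotientGroup.mk' N v)} : Set (G ⧸ N))) ⟨y, hy⟩
  exact congrArg Subtype.val this


/-- The property proved by induction. -/
def PowEqIff (p : ℕ) (G : Type*) [Group G] : Prop :=
  ∀ (a b : G) (k : ℕ), a ^ p ^ k = b ^ p ^ k ↔ (a * b⁻¹) ^ p ^ k = 1

/-- If `PowEqIff` holds in the subgroup `N`, then a subgroup of `N` generated by elements of order
dividing `p ^ k` has exponent dividing `p ^ k`. -/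
theorem pow_eq_one_of_mem_closure {p : ℕ} {G : Type*} [Group G] (N : Subgroup G)
    (hN : PowEqIff p N) (k : ℕ) (S : Set G) (hS : Subgroup.closure S ≤ N)
    (hS1 : ∀ s ∈ S, s ^ p ^ k = 1) : ∀ x ∈ Subgroup.closure S, x ^ p ^ k = 1 := by
  intro x hx
  induction hx using Subgroup.closure_induction with
  | mem s hs => exact hS1 s hs
  | one => simp
  | mul x y hx hy ihx ihy =>
    have h1 := (hN ⟨x, hS hx⟩ ⟨y⁻¹, N.inv_mem (hS hy)⟩ k).mp (by
      apply Subtype.ext
      simp [ihx, ihy])
    have h2 := congrArg Subtype.val h1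
    simpa using h2
  | inv x hx ih => simp [ih]

theorem step {p : ℕ} [Fact p.Prime] {G : Type*} [Group G] [Finite G]
    (hG : Cfsg.IsRegularPGroup p G)
    (ih : ∀ K : Subgroup G, K ≠ ⊤ → PowEqIff p K)
    (u v : G) (k : ℕ) (htop : Subgroup.closure ({u, v} : Set G) = ⊤) (hnc : ¬ Commute u v)
    (huv : u ^ p ^ k = (v * u * v⁻¹) ^ p ^ k) :
    ∀ a b : G, (a * b) ^ p ^ k = a ^ p ^ k * b ^ p ^ k := by
  haveI : Group.IsNilpotent G := hG.1.isNilpotent
  have hnorm : NormalizerCondition G := Group.normalizerCondition_of_isNilpotent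
  -- a maximal subgroup containing `u`
  have hu : Subgroup.zpowers u ≠ ⊤ := by
    intro h
    apply hnc
    have hv : v ∈ Subgroup.zpowers u := h ▸ mem_top v
    obtain ⟨i, rfl⟩ := Subgroup.mem_zpowers_iff.mp hv
    exact (Commute.refl u).zpow_right i
  obtain ⟨M, hM, huM⟩ := (eq_top_or_exists_le_coatom (Subgroup.zpowers u)).resolve_left hu
  haveI hMn : M.Normal := hnorm.normal_of_coatom M hM
  have huM' : u ∈ M := huM (Subgroup.mem_zpowers u)
  have hvuM : v * u * v⁻¹ ∈ M := hMn.conj_mem u huM' v
  have hw : ⁅u, v⁆ ^ p ^ k = 1 := by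
    have h1 := (ih M hM.1 ⟨u, huM'⟩ ⟨v * u * v⁻¹, hvuM⟩ k).mp (Subtype.ext (by simpa using huv))
    have h2 := congrArg Subtype.val h1
    have e : ⁅u, v⁆ = u * (v * u * v⁻¹)⁻¹ := by
      rw [commutatorElement_def]; group
    rw [e]
    simpa using h2
  have hwM : ⁅u, v⁆ ∈ M := by
    have e : ⁅u, v⁆ = u * (v * u * v⁻¹)⁻¹ := by
      rw [commutatorElement_def]; group
    rw [e]
    exact M.mul_mem huM' (M.inv_mem hvuM)
  set N := Subgroup.normalClosure ({⁅u, v⁆} : Set G) with hN
  have hNM : N ≤ M := Subgroup.normalClosure_le_normal (by simpa using hwM)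
  have hNtop : N ≠ ⊤ := fun h => hM.1 (top_le_iff.mp (h ▸ hNM))
  have hNexp : ∀ x ∈ N, x ^ p ^ k = 1 := by
    apply pow_eq_one_of_mem_closure N (ih N hNtop) k (Group.conjugatesOfSet {⁅u, v⁆}) le_rfl
    intro s hs
    rw [Group.mem_conjugatesOfSet_iff] at hs
    obtain ⟨a, ha, hconj⟩ := hs
    rw [Set.mem_singleton_iff] at ha
    subst ha
    obtain ⟨c, rfl⟩ := isConj_iff.mp hconj
    rw [conj_pow, hw]; simp
  have hcomm : commutator G ≤ N :=
    commutator_le_of_closure_pair N u v htop (Subgroup.subset_normalClosure (by simp))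
  intro a b
  obtain ⟨c, hc, hceq⟩ := hG.2 a b k
  have hbot : Cfsg.powerClosure p k
      ⁅Subgroup.closure ({a, b} : Set G), Subgroup.closure ({a, b} : Set G)⁆ = ⊥ := by
    apply powerClosure_eq_bot
    intro x hx
    apply hNexp
    apply hcomm
    exact Subgroup.commutator_mono le_top le_top hx
  rw [hbot, Subgroup.mem_bot] at hc
  rw [hceq, hc, mul_one]


theorem powEqIff_of_regular_aux (p : ℕ) [Fact p.Prime] :
    ∀ (n : ℕ) (G : Type u) [Group G] [Finite G], Nat.card G = n →
      Cfsg.IsRegularPGroup p G → PowEqIff p G := by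
  intro n
  induction n using Nat.strong_induction_on with
  | _ n IH =>
    intro G _ _ hcard hG
    have ih : ∀ K : Subgroup G, K ≠ ⊤ → PowEqIff p K := by
      intro K hK
      have hlt : Nat.card K < n := by
        rw [← hcard]
        exact lt_of_le_of_ne (Subgroup.card_le_card_group K)
          (fun h => hK (Subgroup.eq_top_of_card_eq K h))
      exact IH _ hlt K rfl (IsRegularPGroup.subgroup hG K)
    intro a b k
    by_cases htop : Subgroup.closure ({a, b} : Set G) = ⊤
    · by_cases hab : Commute a b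
      · have : (a * b⁻¹) ^ (p ^ k) = a ^ (p ^ k) * (b ^ (p ^ k))⁻¹ := by
          rw [hab.inv_right.mul_pow, inv_pow]
        rw [this, mul_inv_eq_one]
      · constructor
        · intro h
          have huv : a ^ p ^ k = (b * a * b⁻¹) ^ p ^ k := by
            rw [conj_pow, h]; group
          have hs := step hG ih a b k htop hab huv a b⁻¹
          rw [hs, inv_pow, h, mul_inv_cancel]
        · intro h
          have htop' : Subgroup.closure ({a * b⁻¹, b} : Set G) = ⊤ := by
            rw [eq_top_iff, ← htop, Subgroup.closure_le]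
            intro x hx
            rcases hx with rfl | rfl
            · have h1 : x * b⁻¹ ∈ Subgroup.closure ({x * b⁻¹, b} : Set G) :=
                Subgroup.subset_closure (by simp)
              have h2 : b ∈ Subgroup.closure ({x * b⁻¹, b} : Set G) :=
                Subgroup.subset_closure (by simp)
              have := Subgroup.mul_mem _ h1 h2
              simpa using this
            · exact Subgroup.subset_closure (by simp)
          have hnc : ¬ Commute (a * b⁻¹) b := by
            intro hc
            apply hab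
            have : a = (a * b⁻¹) * b := by group
            rw [this]
            exact hc.mul_left (Commute.refl b)
          have huv : (a * b⁻¹) ^ p ^ k = (b * (a * b⁻¹) * b⁻¹) ^ p ^ k := by
            rw [conj_pow, h]; simp
          have hs := step hG ih (a * b⁻¹) b k htop' hnc huv (a * b⁻¹) b
          have e : a * b⁻¹ * b = a := by group
          rw [e, h, one_mul] at hs
          exact hs
    · have ha : a ∈ Subgroup.closure ({a, b} : Set G) := Subgroup.subset_closure (by simp)
      have hb : b ∈ Subgroup.closure ({a, b} : Set G) := Subgroup.subset_closure (by simp)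
      have key := ih _ htop ⟨a, ha⟩ ⟨b, hb⟩ k
      constructor
      · intro h
        have h1 := key.mp (Subtype.ext (by simpa using h))
        simpa using congrArg Subtype.val h1
      · intro h
        have h1 := key.mpr (Subtype.ext (by simpa using h))
        simpa using congrArg Subtype.val h1

theorem powEqIff_of_regular {p : ℕ} [Fact p.Prime] {G : Type u} [Group G] [Finite G]
    (hG : Cfsg.IsRegularPGroup p G) : PowEqIff p G :=
  powEqIff_of_regular_aux p (Nat.card G) G rfl hG

end Cfsg.Agent.Helper70
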