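import Mathlib
import Cfsg.Prelude.Def_PLocal
import Cfsg.Agent.Lib.Helper70.Regular

set_option autoImplicit false
set_option linter.style.haveILetI false
set_option linter.unusedSectionVars false

/-!
# Regular `p`-groups: the `p ^ n`-th powers form a subgroup
-/

open scoped commutatorElement

universe u

namespace Cfsg.Agent.Helper70

/-- Regularity passes to homomorphic images. -/
theorem IsRegularPGroup.of_surjective {p : ℕ} {G Q : Type*} [Group G] [Group Q]
    (hG : Cfsg.IsRegularPGroup p G) (f : G →* Q) (hf : Function.Surjective f) :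
    Cfsg.IsRegularPGroup p Q := by
  refine ⟨hG.1.of_surjective f hf, ?_⟩
  intro a' b' n
  obtain ⟨a, rfl⟩ := hf a'
  obtain ⟨b, rfl⟩ := hf b'
  obtain ⟨c, hc, hceq⟩ := hG.2 a b n
  refine ⟨f c, ?_, ?_⟩
  · have h1 : Subgroup.closure ({f a, f b} : Set Q) =
        (Subgroup.closure ({a, b} : Set G)).map f := by
      rw [MonoidHom.map_closure, Set.image_pair]
    rw [h1, ← Subgroup.map_commutator, powerClosure_map]
    exact Subgroup.mem_map_of_mem f hc
  · rw [← map_mul, ← map_pow, hceq]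
    simp only [map_mul, map_pow]

/-- If products of `p ^ n`-th powers of elements of `K` are again such powers, then every element
of `powerClosure p n K` is such a power. -/
theorem exists_pow_eq_of_mem_powerClosure {p n : ℕ} {G : Type*} [Group G] (K : Subgroup G)
    (hK : ∀ x ∈ K, ∀ y ∈ K, ∃ z ∈ K, x ^ p ^ n * y ^ p ^ n = z ^ p ^ n) :
    ∀ c ∈ Cfsg.powerClosure p n K, ∃ d ∈ K, c = d ^ p ^ n := by
  intro c hc
  unfold Cfsg.powerClosure at hc
  induction hc using Subgroup.closure_induction with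
  | mem y hy =>
    obtain ⟨x, hx, rfl⟩ := hy
    exact ⟨x, hx, rfl⟩
  | one => exact ⟨1, one_mem _, (one_pow _).symm⟩
  | mul a b _ _ ha hb =>
    obtain ⟨d1, hd1, rfl⟩ := ha
    obtain ⟨d2, hd2, rfl⟩ := hb
    exact hK d1 hd1 d2 hd2
  | inv a _ ha =>
    obtain ⟨d, hd, rfl⟩ := ha
    exact ⟨d⁻¹, inv_mem hd, by rw [inv_pow]⟩

/-- A normal maximal subgroup contains the derived subgroup. -/
theorem commutator_le_of_isCoatom_normal {G : Type*} [Group G] (M : Subgroup G) [M.Normal]
    (hM : IsCoatom M) : commutator G ≤ M := by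
  rw [← Subgroup.Normal.quotient_commutative_iff_commutator_le]
  have hsurj := QuotientGroup.mk'_surjective M
  have key : ∀ a : G ⧸ M, a ≠ 1 → Subgroup.zpowers a = ⊤ := by
    intro a ha
    obtain ⟨g, rfl⟩ := hsurj a
    have hg : g ∉ M := fun h => ha ((QuotientGroup.eq_one_iff g).mpr h)
    have hlt : M < (Subgroup.zpowers (QuotientGroup.mk' M g)).comap (QuotientGroup.mk' M) := by
      refine lt_of_le_of_ne ?_ ?_
      · calc M = (QuotientGroup.mk' M).ker := (QuotientGroup.ker_mk' M).symm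
          _ ≤ _ := MonoidHom.ker_le_comap _ _
      · intro h
        apply hg
        rw [h, Subgroup.mem_comap]
        exact Subgroup.mem_zpowers _
    have htop := hM.2 _ hlt
    have := congrArg (Subgroup.map (QuotientGroup.mk' M)) htop
    rwa [Subgroup.map_comap_eq_self_of_surjective hsurj, Subgroup.map_top_of_surjective _ hsurj]
      at this
  refine ⟨⟨fun a b => ?_⟩⟩
  by_cases ha : a = 1
  · rw [ha]; simp
  · have hb : b ∈ Subgroup.zpowers a := by rw [key a ha]; exact Subgroup.mem_top b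
    obtain ⟨i, rfl⟩ := Subgroup.mem_zpowers_iff.mp hb
    exact ((Commute.refl a).zpow_right i).eq

theorem exists_pow_mul_pow_aux (p : ℕ) [Fact p.Prime] :
    ∀ (N : ℕ) (G : Type u) [Group G] [Finite G], Nat.card G = N →
      Cfsg.IsRegularPGroup p G → ∀ (n : ℕ) (x y : G),
        ∃ z : G, x ^ p ^ n * y ^ p ^ n = z ^ p ^ n := by
  intro N
  induction N using Nat.strong_induction_on with
  | _ N IH =>
    intro G _ _ hcard hG n x y
    have ih : ∀ K : Subgroup G, K ≠ ⊤ → ∀ a ∈ K, ∀ b ∈ K,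
        ∃ z ∈ K, a ^ p ^ n * b ^ p ^ n = z ^ p ^ n := by
      intro K hK a ha b hb
      have hlt : Nat.card K < N := by
        rw [← hcard]
        exact lt_of_le_of_ne (Subgroup.card_le_card_group K)
          (fun h => hK (Subgroup.eq_top_of_card_eq K h))
      obtain ⟨z, hz⟩ := IH _ hlt K rfl (IsRegularPGroup.subgroup hG K) n ⟨a, ha⟩ ⟨b, hb⟩
      refine ⟨z, z.2, ?_⟩
      have := congrArg Subtype.val hz
      simpa using this
    by_cases htop : Subgroup.closure ({x, y} : Set G) = ⊤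
    · by_cases hab : Commute x y
      · exact ⟨x * y, (hab.mul_pow _).symm⟩
      · haveI : Group.IsNilpotent G := hG.1.isNilpotent
        have hnorm : NormalizerCondition G := Group.normalizerCondition_of_isNilpotent
        have hxy : Subgroup.zpowers (x * y) ≠ ⊤ := by
          intro h
          apply hab
          have hx : x ∈ Subgroup.zpowers (x * y) := h ▸ Subgroup.mem_top x
          have hy : y ∈ Subgroup.zpowers (x * y) := h ▸ Subgroup.mem_top y
          obtain ⟨i, hi⟩ := Subgroup.mem_zpowers_iff.mp hx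
          obtain ⟨j, hj⟩ := Subgroup.mem_zpowers_iff.mp hy
          have hc : Commute ((x * y) ^ i) ((x * y) ^ j) :=
            ((Commute.refl (x * y)).zpow_right j).zpow_left i
          rw [hi, hj] at hc
          exact hc
        obtain ⟨M, hM, hxyM⟩ := (eq_top_or_exists_le_coatom (Subgroup.zpowers (x * y))).resolve_left hxy
        haveI hMn : M.Normal := Subgroup.NormalizerCondition.normal_of_coatom M hnorm hM
        have hcomm : commutator G ≤ M := commutator_le_of_isCoatom_normal M hM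
        obtain ⟨c, hc, hceq⟩ := hG.2 x y n
        rw [htop] at hc
        have hG'top : commutator G ≠ ⊤ := fun h => hM.1 (top_le_iff.mp (h ▸ hcomm))
        obtain ⟨d, hd, rfl⟩ :=
          exists_pow_eq_of_mem_powerClosure (commutator G) (ih _ hG'top) c hc
        obtain ⟨z, -, hzeq⟩ := ih M hM.1 (x * y) (hxyM (Subgroup.mem_zpowers _)) d⁻¹
          (M.inv_mem (hcomm hd))
        refine ⟨z, ?_⟩
        rw [← hzeq, inv_pow, hceq]
        group
    · have hx : x ∈ Subgroup.closure ({x, y} : Set G) := Subgroup.subset_closure (by simp)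
      have hy : y ∈ Subgroup.closure ({x, y} : Set G) := Subgroup.subset_closure (by simp)
      obtain ⟨z, -, hz⟩ := ih _ htop x hx y hy
      exact ⟨z, hz⟩

/-- In a regular `p`-group a product of two `p ^ n`-th powers is a `p ^ n`-th power. -/
theorem exists_pow_mul_pow {p : ℕ} [Fact p.Prime] {G : Type u} [Group G] [Finite G]
    (hG : Cfsg.IsRegularPGroup p G) (n : ℕ) (x y : G) :
    ∃ z : G, x ^ p ^ n * y ^ p ^ n = z ^ p ^ n :=
  exists_pow_mul_pow_aux p _ G rfl hG n x y

theorem exists_pow_mul_pow_mem {p : ℕ} [Fact p.Prime] {G : Type u} [Group G] [Finite G]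
    (hG : Cfsg.IsRegularPGroup p G) (H : Subgroup G) (n : ℕ) :
    ∀ x ∈ H, ∀ y ∈ H, ∃ z ∈ H, x ^ p ^ n * y ^ p ^ n = z ^ p ^ n := by
  intro x hx y hy
  obtain ⟨z, hz⟩ := exists_pow_mul_pow (IsRegularPGroup.subgroup hG H) n ⟨x, hx⟩ ⟨y, hy⟩
  refine ⟨z, z.2, ?_⟩
  have := congrArg Subtype.val hz
  simpa using this

/-- In a regular `p`-group the `p ^ n`-th powers of the elements of a subgroup form a subgroup. -/
theorem setOf_pow_eq_powerClosure {p : ℕ} [Fact p.Prime] {G : Type u} [Group G] [Finite G]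
    (hG : Cfsg.IsRegularPGroup p G) (H : Subgroup G) (n : ℕ) :
    {y : G | ∃ x ∈ H, y = x ^ (p ^ n)} = (Cfsg.powerClosure p n H : Set G) := by
  apply Set.Subset.antisymm
  · exact Subgroup.subset_closure
  · intro c hc
    obtain ⟨d, hd, rfl⟩ :=
      exists_pow_eq_of_mem_powerClosure H (exists_pow_mul_pow_mem hG H n) c hc
    exact ⟨d, hd, rfl⟩

theorem powerClosure_normal_of_normal {p n : ℕ} {G : Type*} [Group G] (K : Subgroup G)
    [hK : K.Normal] : (Cfsg.powerClosure p n K).Normal := by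
  constructor
  intro x hx g
  have hmap : K.map (MulAut.conj g).toMonoidHom = K := by
    apply le_antisymm
    · rintro _ ⟨k, hk, rfl⟩
      exact hK.conj_mem k hk g
    · intro k hk
      refine ⟨g⁻¹ * k * g, ?_, by simp [MulAut.conj_apply, mul_assoc]⟩
      have := hK.conj_mem k hk g⁻¹
      rwa [inv_inv] at this
  have h1 := powerClosure_map (MulAut.conj g).toMonoidHom p n K
  rw [hmap] at h1
  rw [h1]
  exact ⟨x, hx, by simp [MulAut.conj_apply]⟩

/-- In a regular `p`-group, `⁅x ^ (p ^ n), y⁆` lies in the subgroup generated by the `p ^ n`-th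
powers of elements of the derived subgroup. -/
theorem commutator_pow_mem {p : ℕ} [Fact p.Prime] {G : Type u} [Group G] [Finite G]
    (hG : Cfsg.IsRegularPGroup p G) (n : ℕ) (x y : G) :
    ⁅x ^ p ^ n, y⁆ ∈ Cfsg.powerClosure p n (commutator G) := by
  obtain ⟨N, hN⟩ : ∃ N : Subgroup G, N = Cfsg.powerClosure p n (commutator G) := ⟨_, rfl⟩
  rw [← hN]
  haveI hNn : N.Normal := hN ▸ powerClosure_normal_of_normal (commutator G)
  have hQ : Cfsg.IsRegularPGroup p (G ⧸ N) :=
    IsRegularPGroup.of_surjective hG (QuotientGroup.mk' N) (QuotientGroup.mk'_surjective N)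
  have hpe := powEqIff_of_regular hQ
  obtain ⟨a, ha⟩ : ∃ a : G ⧸ N, a = QuotientGroup.mk' N x := ⟨_, rfl⟩
  obtain ⟨b, hb⟩ : ∃ b : G ⧸ N, b = QuotientGroup.mk' N y := ⟨_, rfl⟩
  have h1 : ⁅a, b⁆ ^ p ^ n = 1 := by
    rw [ha, hb, ← map_commutatorElement, ← map_pow, QuotientGroup.mk'_apply,
      QuotientGroup.eq_one_iff, hN]
    apply Subgroup.subset_closure
    refine ⟨⁅x, y⁆, ?_, rfl⟩
    rw [commutator_def]
    exact Subgroup.commutator_mem_commutator (Subgroup.mem_top x) (Subgroup.mem_top y)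
  have h2 : a ^ p ^ n = (b * a * b⁻¹) ^ p ^ n := by
    rw [hpe a (b * a * b⁻¹) n]
    have : a * (b * a * b⁻¹)⁻¹ = ⁅a, b⁆ := by
      rw [commutatorElement_def]; group
    rw [this, h1]
  rw [conj_pow] at h2
  have h3 : ⁅a ^ p ^ n, b⁆ = 1 := by
    rw [commutatorElement_def]
    calc a ^ p ^ n * b * (a ^ p ^ n)⁻¹ * b⁻¹
        = a ^ p ^ n * (b * a ^ p ^ n * b⁻¹)⁻¹ := by group
      _ = 1 := by rw [← h2, mul_inv_cancel]
  have h4 : QuotientGroup.mk' N ⁅x ^ p ^ n, y⁆ = 1 := by
    rw [map_commutatorElement, map_pow, ← ha, ← hb, h3]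
  rwa [QuotientGroup.mk'_apply, QuotientGroup.eq_one_iff] at h4

theorem powerClosure_le {p n : ℕ} {G : Type*} [Group G] (H : Subgroup G) :
    Cfsg.powerClosure p n H ≤ H := by
  unfold Cfsg.powerClosure
  rw [Subgroup.closure_le]
  rintro y ⟨x, hx, rfl⟩
  exact pow_mem hx _

/-- In a regular `p`-group, `⁅℧_n(H), H⁆ ≤ ℧_n(H')`. -/
theorem commutator_powerClosure_le {p : ℕ} [Fact p.Prime] {G : Type u} [Group G] [Finite G]
    (hG : Cfsg.IsRegularPGroup p G) (H : Subgroup G) (n : ℕ) :
    ⁅Cfsg.powerClosure p n H, H⁆ ≤ Cfsg.powerClosure p n ⁅H, H⁆ := by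
  rw [Subgroup.commutator_le]
  intro a ha b hb
  have ha' : a ∈ {y : G | ∃ x ∈ H, y = x ^ (p ^ n)} := by
    rw [setOf_pow_eq_powerClosure hG H n]; exact ha
  obtain ⟨x, hx, rfl⟩ := ha'
  have h1 := commutator_pow_mem (IsRegularPGroup.subgroup hG H) n ⟨x, hx⟩ ⟨b, hb⟩
  have h2 : H.subtype ⁅(⟨x, hx⟩ : H) ^ p ^ n, ⟨b, hb⟩⁆ ∈
      (Cfsg.powerClosure p n (commutator H)).map H.subtype := Subgroup.mem_map_of_mem _ h1
  rw [← powerClosure_map, Subgroup.map_subtype_commutator] at h2
  simpa [map_commutatorElement] using h2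


end Cfsg.Agent.Helper70
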