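import Mathlib
import Cfsg.Prelude.Def_PLocal
import Cfsg.Agent.Lib.Helper70.Regular2

set_option autoImplicit false
set_option linter.style.haveILetI false
set_option linter.unusedSectionVars false

/-!
# Regularity at a fixed level `k`

`RegAt p k G`: `(ab)^(p^k) = a^(p^k) b^(p^k) c` with `c ∈ ℧_k(⟨a,b⟩')`.  All the basic theory of
regular `p`-groups at level `k` only needs `RegAt p k` for the sections of the group.
-/

open Subgroup
open scoped commutatorElement

universe u

namespace Cfsg.Agent.Helper70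

/-- Regularity at level `k`. -/
def RegAt (p k : ℕ) (G : Type*) [Group G] : Prop :=
  IsPGroup p G ∧ ∀ a b : G,
    ∃ c ∈ Cfsg.powerClosure p k ⁅Subgroup.closure ({a, b} : Set G), Subgroup.closure ({a, b} : Set G)⁆,
      (a * b) ^ (p ^ k) = a ^ (p ^ k) * b ^ (p ^ k) * c

theorem RegAt.of_regular {p : ℕ} {G : Type*} [Group G] (hG : Cfsg.IsRegularPGroup p G) (k : ℕ) :
    RegAt p k G := ⟨hG.1, fun a b => hG.2 a b k⟩

theorem isRegularPGroup_iff_forall_regAt {p : ℕ} {G : Type*} [Group G] :
    Cfsg.IsRegularPGroup p G ↔ ∀ k, RegAt p k G :=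
  ⟨fun h k => RegAt.of_regular h k, fun h => ⟨(h 0).1, fun a b k => (h k).2 a b⟩⟩

theorem RegAt.subgroup {p k : ℕ} {G : Type*} [Group G] (hG : RegAt p k G)
    (H : Subgroup G) : RegAt p k H := by
  refine ⟨hG.1.to_subgroup H, ?_⟩
  intro a b
  obtain ⟨c, hc, hceq⟩ := hG.2 (a : G) (b : G)
  have himg : Subgroup.closure ({(a : G), (b : G)} : Set G) =
      (Subgroup.closure ({a, b} : Set H)).map H.subtype := by
    rw [MonoidHom.map_closure, Set.image_pair]
    rfl
  rw [himg, ← Subgroup.map_commutator, powerClosure_map] at hc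
  obtain ⟨c', hc', rfl⟩ := hc
  refine ⟨c', hc', ?_⟩
  apply Subtype.ext
  simpa using hceq

theorem RegAt.of_surjective {p k : ℕ} {G Q : Type*} [Group G] [Group Q]
    (hG : RegAt p k G) (f : G →* Q) (hf : Function.Surjective f) : RegAt p k Q := by
  refine ⟨hG.1.of_surjective f hf, ?_⟩
  intro a' b'
  obtain ⟨a, rfl⟩ := hf a'
  obtain ⟨b, rfl⟩ := hf b'
  obtain ⟨c, hc, hceq⟩ := hG.2 a b
  refine ⟨f c, ?_, ?_⟩
  · have h1 : Subgroup.closure ({f a, f b} : Set Q) =
        (Subgroup.closure ({a, b} : Set G)).map f := by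
      rw [MonoidHom.map_closure, Set.image_pair]
    rw [h1, ← Subgroup.map_commutator, powerClosure_map]
    exact Subgroup.mem_map_of_mem f hc
  · rw [← map_mul, ← map_pow, hceq]
    simp only [map_mul, map_pow]

/-- `a ^ p ^ k = b ^ p ^ k ↔ (a b⁻¹) ^ p ^ k = 1`. -/
def PowEqAt (p k : ℕ) (G : Type*) [Group G] : Prop :=
  ∀ (a b : G), a ^ p ^ k = b ^ p ^ k ↔ (a * b⁻¹) ^ p ^ k = 1

theorem pow_eq_one_of_mem_closure_at {p k : ℕ} {G : Type*} [Group G] (N : Subgroup G)
    (hN : PowEqAt p k N) (S : Set G) (hS : Subgroup.closure S ≤ N)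
    (hS1 : ∀ s ∈ S, s ^ p ^ k = 1) : ∀ x ∈ Subgroup.closure S, x ^ p ^ k = 1 := by
  intro x hx
  induction hx using Subgroup.closure_induction with
  | mem s hs => exact hS1 s hs
  | one => simp
  | mul x y hx hy ihx ihy =>
    have h1 := (hN ⟨x, hS hx⟩ ⟨y⁻¹, N.inv_mem (hS hy)⟩).mp (by
      apply Subtype.ext
      simp [ihx, ihy])
    have h2 := congrArg Subtype.val h1
    simpa using h2
  | inv x hx ih => simp [ih]

theorem stepAt {p k : ℕ} [Fact p.Prime] {G : Type*} [Group G] [Finite G]
    (hG : RegAt p k G)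
    (ih : ∀ K : Subgroup G, K ≠ ⊤ → PowEqAt p k K)
    (u v : G) (htop : Subgroup.closure ({u, v} : Set G) = ⊤) (hnc : ¬ Commute u v)
    (huv : u ^ p ^ k = (v * u * v⁻¹) ^ p ^ k) :
    ∀ a b : G, (a * b) ^ p ^ k = a ^ p ^ k * b ^ p ^ k := by
  haveI : Group.IsNilpotent G := hG.1.isNilpotent
  have hnorm : NormalizerCondition G := Group.normalizerCondition_of_isNilpotent
  have hu : Subgroup.zpowers u ≠ ⊤ := by
    intro h
    apply hnc
    have hv : v ∈ Subgroup.zpowers u := h ▸ mem_top v
    obtain ⟨i, rfl⟩ := Subgroup.mem_zpowers_iff.mp hv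
    exact (Commute.refl u).zpow_right i
  obtain ⟨M, hM, huM⟩ := (eq_top_or_exists_le_coatom (Subgroup.zpowers u)).resolve_left hu
  haveI hMn : M.Normal := hnorm.normal_of_coatom M hM
  have huM' : u ∈ M := huM (Subgroup.mem_zpowers u)
  have hvuM : v * u * v⁻¹ ∈ M := hMn.conj_mem u huM' v
  have hw : ⁅u, v⁆ ^ p ^ k = 1 := by
    have h1 := (ih M hM.1 ⟨u, huM'⟩ ⟨v * u * v⁻¹, hvuM⟩).mp (Subtype.ext (by simpa using huv))
    have h2 := congrArg Subtype.val h1
    have e : ⁅u, v⁆ = u * (v * u * v⁻¹)⁻¹ := by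
      rw [commutatorElement_def]; group
    rw [e]
    simpa using h2
  have hwM : ⁅u, v⁆ ∈ M := by
    have e : ⁅u, v⁆ = u * (v * u * v⁻¹)⁻¹ := by
      rw [commutatorElement_def]; group
    rw [e]
    exact M.mul_mem huM' (M.inv_mem hvuM)
  set N := Subgroup.normalClosure ({⁅u, v⁆} : Set G) with hN
  have hNM : N ≤ M := Subgroup.normalClosure_le_normal (by simpa using hwM)
  have hNtop : N ≠ ⊤ := fun h => hM.1 (top_le_iff.mp (h ▸ hNM))
  have hNexp : ∀ x ∈ N, x ^ p ^ k = 1 := by
    apply pow_eq_one_of_mem_closure_at N (ih N hNtop) (Group.conjugatesOfSet {⁅u, v⁆}) le_rfl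
    intro s hs
    rw [Group.mem_conjugatesOfSet_iff] at hs
    obtain ⟨a, ha, hconj⟩ := hs
    rw [Set.mem_singleton_iff] at ha
    subst ha
    obtain ⟨c, rfl⟩ := isConj_iff.mp hconj
    rw [conj_pow, hw]; simp
  have hcomm : commutator G ≤ N :=
    commutator_le_of_closure_pair N u v htop (Subgroup.subset_normalClosure (by simp))
  intro a b
  obtain ⟨c, hc, hceq⟩ := hG.2 a b
  have hbot : Cfsg.powerClosure p k
      ⁅Subgroup.closure ({a, b} : Set G), Subgroup.closure ({a, b} : Set G)⁆ = ⊥ := by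
    apply powerClosure_eq_bot
    intro x hx
    apply hNexp
    apply hcomm
    exact Subgroup.commutator_mono le_top le_top hx
  rw [hbot, Subgroup.mem_bot] at hc
  rw [hceq, hc, mul_one]

/-- Hereditary regularity at level `k`: all subgroups are `RegAt`. -/
theorem powEqAt_of_regAt_aux (p k : ℕ) [Fact p.Prime] :
    ∀ (n : ℕ) (G : Type u) [Group G] [Finite G], Nat.card G = n →
      RegAt p k G → PowEqAt p k G := by
  intro n
  induction n using Nat.strong_induction_on with
  | _ n IH =>
    intro G _ _ hcard hG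
    have ih : ∀ K : Subgroup G, K ≠ ⊤ → PowEqAt p k K := by
      intro K hK
      have hlt : Nat.card K < n := by
        rw [← hcard]
        exact lt_of_le_of_ne (Subgroup.card_le_card_group K)
          (fun h => hK (Subgroup.eq_top_of_card_eq K h))
      exact IH _ hlt K rfl (RegAt.subgroup hG K)
    intro a b
    by_cases htop : Subgroup.closure ({a, b} : Set G) = ⊤
    · by_cases hab : Commute a b
      · have : (a * b⁻¹) ^ (p ^ k) = a ^ (p ^ k) * (b ^ (p ^ k))⁻¹ := by
          rw [hab.inv_right.mul_pow, inv_pow]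
        rw [this, mul_inv_eq_one]
      · constructor
        · intro h
          have huv : a ^ p ^ k = (b * a * b⁻¹) ^ p ^ k := by
            rw [conj_pow, h]; group
          have hs := stepAt hG ih a b htop hab huv a b⁻¹
          rw [hs, inv_pow, h, mul_inv_cancel]
        · intro h
          have htop' : Subgroup.closure ({a * b⁻¹, b} : Set G) = ⊤ := by
            rw [eq_top_iff, ← htop, Subgroup.closure_le]
            intro x hx
            rcases hx with rfl | rfl
            · have h1 : x * b⁻¹ ∈ Subgroup.closure ({x * b⁻¹, b} : Set G) :=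
                Subgroup.subset_closure (by simp)
              have h2 : b ∈ Subgroup.closure ({x * b⁻¹, b} : Set G) :=
                Subgroup.subset_closure (by simp)
              have := Subgroup.mul_mem _ h1 h2
              simpa using this
            · exact Subgroup.subset_closure (by simp)
          have hnc : ¬ Commute (a * b⁻¹) b := by
            intro hc
            apply hab
            have : a = (a * b⁻¹) * b := by group
            rw [this]
            exact hc.mul_left (Commute.refl b)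
          have huv : (a * b⁻¹) ^ p ^ k = (b * (a * b⁻¹) * b⁻¹) ^ p ^ k := by
            rw [conj_pow, h]; simp
          have hs := stepAt hG ih (a * b⁻¹) b htop' hnc huv (a * b⁻¹) b
          have e : a * b⁻¹ * b = a := by group
          rw [e, h, one_mul] at hs
          exact hs
    · have ha : a ∈ Subgroup.closure ({a, b} : Set G) := Subgroup.subset_closure (by simp)
      have hb : b ∈ Subgroup.closure ({a, b} : Set G) := Subgroup.subset_closure (by simp)
      have key := ih _ htop ⟨a, ha⟩ ⟨b, hb⟩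
      constructor
      · intro h
        have h1 := key.mp (Subtype.ext (by simpa using h))
        simpa using congrArg Subtype.val h1
      · intro h
        have h1 := key.mpr (Subtype.ext (by simpa using h))
        simpa using congrArg Subtype.val h1

theorem powEqAt_of_regAt {p k : ℕ} [Fact p.Prime] {G : Type u} [Group G] [Finite G]
    (hG : RegAt p k G) : PowEqAt p k G :=
  powEqAt_of_regAt_aux p k (Nat.card G) G rfl hG

theorem exists_pow_mul_pow_at_aux (p n : ℕ) [Fact p.Prime] :
    ∀ (N : ℕ) (G : Type u) [Group G] [Finite G], Nat.card G = N →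
      RegAt p n G → ∀ (x y : G),
        ∃ z : G, x ^ p ^ n * y ^ p ^ n = z ^ p ^ n := by
  intro N
  induction N using Nat.strong_induction_on with
  | _ N IH =>
    intro G _ _ hcard hG x y
    have ih : ∀ K : Subgroup G, K ≠ ⊤ → ∀ a ∈ K, ∀ b ∈ K,
        ∃ z ∈ K, a ^ p ^ n * b ^ p ^ n = z ^ p ^ n := by
      intro K hK a ha b hb
      have hlt : Nat.card K < N := by
        rw [← hcard]
        exact lt_of_le_of_ne (Subgroup.card_le_card_group K)
          (fun h => hK (Subgroup.eq_top_of_card_eq K h))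
      obtain ⟨z, hz⟩ := IH _ hlt K rfl (RegAt.subgroup hG K) ⟨a, ha⟩ ⟨b, hb⟩
      refine ⟨z, z.2, ?_⟩
      have := congrArg Subtype.val hz
      simpa using this
    by_cases htop : Subgroup.closure ({x, y} : Set G) = ⊤
    · by_cases hab : Commute x y
      · exact ⟨x * y, (hab.mul_pow _).symm⟩
      · haveI : Group.IsNilpotent G := hG.1.isNilpotent
        have hnorm : NormalizerCondition G := Group.normalizerCondition_of_isNilpotent
        have hxy : Subgroup.zpowers (x * y) ≠ ⊤ := by
          intro h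
          apply hab
          have hx : x ∈ Subgroup.zpowers (x * y) := h ▸ Subgroup.mem_top x
          have hy : y ∈ Subgroup.zpowers (x * y) := h ▸ Subgroup.mem_top y
          obtain ⟨i, hi⟩ := Subgroup.mem_zpowers_iff.mp hx
          obtain ⟨j, hj⟩ := Subgroup.mem_zpowers_iff.mp hy
          have hc : Commute ((x * y) ^ i) ((x * y) ^ j) :=
            ((Commute.refl (x * y)).zpow_right j).zpow_left i
          rw [hi, hj] at hc
          exact hc
        obtain ⟨M, hM, hxyM⟩ :=
          (eq_top_or_exists_le_coatom (Subgroup.zpowers (x * y))).resolve_left hxy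
        haveI hMn : M.Normal := hnorm.normal_of_coatom M hM
        have hcomm : commutator G ≤ M := commutator_le_of_isCoatom_normal M hM
        obtain ⟨c, hc, hceq⟩ := hG.2 x y
        rw [htop] at hc
        have hG'top : commutator G ≠ ⊤ := fun h => hM.1 (top_le_iff.mp (h ▸ hcomm))
        obtain ⟨d, hd, rfl⟩ :=
          exists_pow_eq_of_mem_powerClosure (commutator G) (ih _ hG'top) c hc
        obtain ⟨z, -, hzeq⟩ := ih M hM.1 (x * y) (hxyM (Subgroup.mem_zpowers _)) d⁻¹
          (M.inv_mem (hcomm hd))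
        refine ⟨z, ?_⟩
        rw [← hzeq, inv_pow, hceq]
        group
    · have hx : x ∈ Subgroup.closure ({x, y} : Set G) := Subgroup.subset_closure (by simp)
      have hy : y ∈ Subgroup.closure ({x, y} : Set G) := Subgroup.subset_closure (by simp)
      obtain ⟨z, -, hz⟩ := ih _ htop x hx y hy
      exact ⟨z, hz⟩

theorem exists_pow_mul_pow_at {p n : ℕ} [Fact p.Prime] {G : Type u} [Group G] [Finite G]
    (hG : RegAt p n G) (x y : G) :
    ∃ z : G, x ^ p ^ n * y ^ p ^ n = z ^ p ^ n :=
  exists_pow_mul_pow_at_aux p n _ G rfl hG x y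

theorem exists_pow_mul_pow_mem_at {p n : ℕ} [Fact p.Prime] {G : Type u} [Group G] [Finite G]
    (hG : RegAt p n G) (H : Subgroup G) :
    ∀ x ∈ H, ∀ y ∈ H, ∃ z ∈ H, x ^ p ^ n * y ^ p ^ n = z ^ p ^ n := by
  intro x hx y hy
  obtain ⟨z, hz⟩ := exists_pow_mul_pow_at (RegAt.subgroup hG H) ⟨x, hx⟩ ⟨y, hy⟩
  refine ⟨z, z.2, ?_⟩
  have := congrArg Subtype.val hz
  simpa using this

theorem exists_pow_eq_of_mem_powerClosure_at {p n : ℕ} [Fact p.Prime] {G : Type u} [Group G]
    [Finite G] (hG : RegAt p n G) (H : Subgroup G) :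
    ∀ c ∈ Cfsg.powerClosure p n H, ∃ d ∈ H, c = d ^ p ^ n :=
  exists_pow_eq_of_mem_powerClosure H (exists_pow_mul_pow_mem_at hG H)

theorem commutator_pow_mem_at {p n : ℕ} [Fact p.Prime] {G : Type u} [Group G] [Finite G]
    (hG : RegAt p n G) (x y : G) :
    ⁅x ^ p ^ n, y⁆ ∈ Cfsg.powerClosure p n (commutator G) := by
  obtain ⟨N, hN⟩ : ∃ N : Subgroup G, N = Cfsg.powerClosure p n (commutator G) := ⟨_, rfl⟩
  rw [← hN]
  haveI hNn : N.Normal := hN ▸ powerClosure_normal_of_normal (commutator G)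
  have hQ : RegAt p n (G ⧸ N) :=
    RegAt.of_surjective hG (QuotientGroup.mk' N) (QuotientGroup.mk'_surjective N)
  have hpe := powEqAt_of_regAt hQ
  obtain ⟨a, ha⟩ : ∃ a : G ⧸ N, a = QuotientGroup.mk' N x := ⟨_, rfl⟩
  obtain ⟨b, hb⟩ : ∃ b : G ⧸ N, b = QuotientGroup.mk' N y := ⟨_, rfl⟩
  have h1 : ⁅a, b⁆ ^ p ^ n = 1 := by
    rw [ha, hb, ← map_commutatorElement, ← map_pow, QuotientGroup.mk'_apply,
      QuotientGroup.eq_one_iff, hN]
    apply Subgroup.subset_closure
    refine ⟨⁅x, y⁆, ?_, rfl⟩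
    rw [commutator_def]
    exact Subgroup.commutator_mem_commutator (Subgroup.mem_top x) (Subgroup.mem_top y)
  have h2 : a ^ p ^ n = (b * a * b⁻¹) ^ p ^ n := by
    rw [hpe a (b * a * b⁻¹)]
    have : a * (b * a * b⁻¹)⁻¹ = ⁅a, b⁆ := by
      rw [commutatorElement_def]; group
    rw [this, h1]
  rw [conj_pow] at h2
  have h3 : ⁅a ^ p ^ n, b⁆ = 1 := by
    rw [commutatorElement_def]
    calc a ^ p ^ n * b * (a ^ p ^ n)⁻¹ * b⁻¹
        = a ^ p ^ n * (b * a ^ p ^ n * b⁻¹)⁻¹ := by group
      _ = 1 := by rw [← h2, mul_inv_cancel]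
  have h4 : QuotientGroup.mk' N ⁅x ^ p ^ n, y⁆ = 1 := by
    rw [map_commutatorElement, map_pow, ← ha, ← hb, h3]
  rwa [QuotientGroup.mk'_apply, QuotientGroup.eq_one_iff] at h4

/-- At level `n`: `⁅℧_n(H), H⁆ ≤ ℧_n(H')`. -/
theorem commutator_powerClosure_le_at {p n : ℕ} [Fact p.Prime] {G : Type u} [Group G] [Finite G]
    (hG : RegAt p n G) (H : Subgroup G) :
    ⁅Cfsg.powerClosure p n H, H⁆ ≤ Cfsg.powerClosure p n ⁅H, H⁆ := by
  rw [Subgroup.commutator_le]
  intro a ha b hb
  obtain ⟨x, hx, rfl⟩ := exists_pow_eq_of_mem_powerClosure_at hG H a ha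
  have h1 := commutator_pow_mem_at (RegAt.subgroup hG H) ⟨x, hx⟩ ⟨b, hb⟩
  have h2 : H.subtype ⁅(⟨x, hx⟩ : H) ^ p ^ n, ⟨b, hb⟩⁆ ∈
      (Cfsg.powerClosure p n (commutator H)).map H.subtype := Subgroup.mem_map_of_mem _ h1
  rw [← powerClosure_map, Subgroup.map_subtype_commutator] at h2
  simpa [map_commutatorElement] using h2

end Cfsg.Agent.Helper70
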