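import Mathlib
import Cfsg.Prelude.Def_PLocal
import Cfsg.Agent.Lib.Helper70.RegularAt

set_option autoImplicit false
set_option linter.style.haveILetI false
set_option linter.unusedSectionVars false

/-!
# Regularity at level `1` implies regularity at all levels (Kemhadze)
-/

open Subgroup
open scoped commutatorElement

universe u

namespace Cfsg.Agent.Helper70

/-- If `u, v` normalise `N` and commute modulo `N`, then `⟨u, v⟩' ≤ N`. -/
theorem commutator_closure_pair_le {G : Type*} [Group G] (N : Subgroup G) (u v : G)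
    (hu : u ∈ Subgroup.normalizer (N : Set G)) (hv : v ∈ Subgroup.normalizer (N : Set G)) (huv : ⁅u, v⁆ ∈ N) :
    ⁅Subgroup.closure ({u, v} : Set G), Subgroup.closure ({u, v} : Set G)⁆ ≤ N := by
  obtain ⟨T, hT⟩ : ∃ T : Subgroup G, T = Subgroup.closure ({u, v} : Set G) := ⟨_, rfl⟩
  rw [← hT]
  have hTN : T ≤ Subgroup.normalizer (N : Set G) := by
    rw [hT, Subgroup.closure_le]
    intro x hx
    rcases hx with rfl | rfl
    · exact hu
    · exact hv
  haveI : (N.subgroupOf T).Normal := by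
    refine ⟨fun n hn g => ?_⟩
    rw [Subgroup.mem_subgroupOf] at hn ⊢
    have := (Subgroup.mem_normalizer_iff.mp (hTN g.2) (n : G)).mp hn
    simpa using this
  have huT : u ∈ T := hT ▸ Subgroup.subset_closure (by simp)
  have hvT : v ∈ T := hT ▸ Subgroup.subset_closure (by simp)
  have htop : Subgroup.closure ({⟨u, huT⟩, ⟨v, hvT⟩} : Set T) = ⊤ := by
    rw [eq_top_iff]
    rintro ⟨x, hx⟩ -
    have hx' : x ∈ Subgroup.closure ({u, v} : Set G) := hT ▸ hx
    have : ∀ y (hy : y ∈ Subgroup.closure ({u, v} : Set G)),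
        (⟨y, hT ▸ hy⟩ : T) ∈ Subgroup.closure ({⟨u, huT⟩, ⟨v, hvT⟩} : Set T) := by
      intro y hy
      induction hy using Subgroup.closure_induction with
      | mem s hs =>
        apply Subgroup.subset_closure
        rcases hs with rfl | rfl
        · left; rfl
        · right; rfl
      | one => exact one_mem _
      | mul a b ha hb iha ihb => exact mul_mem iha ihb
      | inv a ha iha => exact inv_mem iha
    exact this x hx'
  have h1 := commutator_le_of_closure_pair (N.subgroupOf T) ⟨u, huT⟩ ⟨v, hvT⟩ htop (by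
    rw [Subgroup.mem_subgroupOf]; exact huv)
  have h2 := Subgroup.map_mono (f := T.subtype) h1
  rw [Subgroup.map_subtype_commutator] at h2
  refine h2.trans ?_
  rintro _ ⟨x, hx, rfl⟩
  exact hx

/-- `℧_1(℧_n(K)) ≤ ℧_{n+1}(K)` at level `n`. -/
theorem powerClosure_one_powerClosure_le {p n : ℕ} [Fact p.Prime] {G : Type u} [Group G]
    [Finite G] (hG : RegAt p n G) (K : Subgroup G) :
    Cfsg.powerClosure p 1 (Cfsg.powerClosure p n K) ≤ Cfsg.powerClosure p (n + 1) K := by
  unfold Cfsg.powerClosure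
  rw [Subgroup.closure_le]
  rintro y ⟨x, hx, rfl⟩
  obtain ⟨d, hd, rfl⟩ := exists_pow_eq_of_mem_powerClosure_at hG K x hx
  apply Subgroup.subset_closure
  refine ⟨d, hd, ?_⟩
  rw [← pow_mul, pow_one, ← pow_succ]

theorem regAt_succ_of_top {p n : ℕ} [Fact p.Prime] {X : Type u} [Group X] [Finite X]
    (h1 : RegAt p 1 X) (hn : RegAt p n X) (a b : X)
    (htop : Subgroup.closure ({a, b} : Set X) = ⊤) :
    ∃ c ∈ Cfsg.powerClosure p (n + 1) (commutator X),
      (a * b) ^ p ^ (n + 1) = a ^ p ^ (n + 1) * b ^ p ^ (n + 1) * c := by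
  obtain ⟨N, hN⟩ : ∃ N : Subgroup X, N = Cfsg.powerClosure p n (commutator X) := ⟨_, rfl⟩
  haveI hNn : N.Normal := hN ▸ powerClosure_normal_of_normal (commutator X)
  obtain ⟨c, hc, hceq⟩ := hn.2 a b
  rw [htop, ← _root_.commutator_def, ← hN] at hc
  obtain ⟨x, hx, hcx⟩ := exists_pow_eq_of_mem_powerClosure_at hn (commutator X) c (hN ▸ hc)
  obtain ⟨d₁, hd₁, hd₁eq⟩ := h1.2 (a ^ p ^ n * b ^ p ^ n) c
  obtain ⟨d₂, hd₂, hd₂eq⟩ := h1.2 (a ^ p ^ n) (b ^ p ^ n)
  -- `⟨AB, c⟩' ≤ N`
  have hiv : ⁅Subgroup.closure ({a ^ p ^ n * b ^ p ^ n, c} : Set X),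
      Subgroup.closure ({a ^ p ^ n * b ^ p ^ n, c} : Set X)⁆ ≤ N := by
    apply commutator_closure_pair_le
    · rw [Subgroup.normalizer_eq_top]; exact Subgroup.mem_top _
    · rw [Subgroup.normalizer_eq_top]; exact Subgroup.mem_top _
    · rw [commutatorElement_def]
      exact N.mul_mem (hNn.conj_mem c hc _) (N.inv_mem hc)
  -- `⟨A, B⟩' ≤ N`
  have hiii : ⁅Subgroup.closure ({a ^ p ^ n, b ^ p ^ n} : Set X),
      Subgroup.closure ({a ^ p ^ n, b ^ p ^ n} : Set X)⁆ ≤ N := by
    have hAB : Subgroup.closure ({a ^ p ^ n, b ^ p ^ n} : Set X) ≤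
        Cfsg.powerClosure p n (⊤ : Subgroup X) := by
      rw [Subgroup.closure_le]
      intro y hy
      rcases hy with rfl | rfl
      · exact Subgroup.subset_closure ⟨a, Subgroup.mem_top a, rfl⟩
      · exact Subgroup.subset_closure ⟨b, Subgroup.mem_top b, rfl⟩
    calc ⁅Subgroup.closure ({a ^ p ^ n, b ^ p ^ n} : Set X),
          Subgroup.closure ({a ^ p ^ n, b ^ p ^ n} : Set X)⁆
        ≤ ⁅Cfsg.powerClosure p n (⊤ : Subgroup X), (⊤ : Subgroup X)⁆ :=
          Subgroup.commutator_mono hAB le_top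
      _ ≤ Cfsg.powerClosure p n ⁅(⊤ : Subgroup X), (⊤ : Subgroup X)⁆ :=
          commutator_powerClosure_le_at hn ⊤
      _ = N := by rw [hN, _root_.commutator_def]
  have hstep : Cfsg.powerClosure p 1 N ≤ Cfsg.powerClosure p (n + 1) (commutator X) := by
    rw [hN]; exact powerClosure_one_powerClosure_le hn (commutator X)
  have hd₁' : d₁ ∈ Cfsg.powerClosure p (n + 1) (commutator X) :=
    hstep (powerClosure_mono p 1 hiv hd₁)
  have hd₂' : d₂ ∈ Cfsg.powerClosure p (n + 1) (commutator X) :=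
    hstep (powerClosure_mono p 1 hiii hd₂)
  have hcp : c ^ p ^ 1 ∈ Cfsg.powerClosure p (n + 1) (commutator X) := by
    apply Subgroup.subset_closure
    refine ⟨x, hx, ?_⟩
    rw [hcx, ← pow_mul, pow_one, ← pow_succ]
  refine ⟨d₂ * c ^ p ^ 1 * d₁, mul_mem (mul_mem hd₂' hcp) hd₁', ?_⟩
  have e : ∀ g : X, g ^ p ^ (n + 1) = (g ^ p ^ n) ^ p ^ 1 := by
    intro g
    rw [← pow_mul, pow_one, ← pow_succ]
  rw [e (a * b), hceq, hd₁eq, hd₂eq, e a, e b]
  simp only [mul_assoc]

theorem regAt_of_regAt_one (p : ℕ) [Fact p.Prime] :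
    ∀ (n : ℕ) (X : Type u) [Group X] [Finite X], RegAt p 1 X → RegAt p n X := by
  intro n
  induction n with
  | zero =>
    intro X _ _ h1
    exact ⟨h1.1, fun a b => ⟨1, one_mem _, by simp⟩⟩
  | succ n ih =>
    intro X _ _ h1
    refine ⟨h1.1, fun a b => ?_⟩
    obtain ⟨L, hL⟩ : ∃ L : Subgroup X, L = Subgroup.closure ({a, b} : Set X) := ⟨_, rfl⟩
    have haL : a ∈ L := hL ▸ Subgroup.subset_closure (by simp)
    have hbL : b ∈ L := hL ▸ Subgroup.subset_closure (by simp)
    have h1L : RegAt p 1 L := RegAt.subgroup h1 L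
    have hnL : RegAt p n L := ih L h1L
    have himg : Subgroup.closure ({a, b} : Set X) =
        (Subgroup.closure ({(⟨a, haL⟩ : L), ⟨b, hbL⟩} : Set L)).map L.subtype := by
      rw [MonoidHom.map_closure, Set.image_pair]
      rfl
    have htop : Subgroup.closure ({(⟨a, haL⟩ : L), ⟨b, hbL⟩} : Set L) = ⊤ := by
      apply Subgroup.map_injective L.subtype_injective
      rw [← himg, ← hL, ← MonoidHom.range_eq_map, Subgroup.range_subtype]
    obtain ⟨c, hc, hceq⟩ := regAt_succ_of_top h1L hnL ⟨a, haL⟩ ⟨b, hbL⟩ htop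
    refine ⟨(c : X), ?_, ?_⟩
    · have h2 : L.subtype c ∈ (Cfsg.powerClosure p (n + 1) (commutator L)).map L.subtype :=
        Subgroup.mem_map_of_mem _ hc
      rw [← powerClosure_map, Subgroup.map_subtype_commutator] at h2
      rw [← hL]
      exact h2
    · have := congrArg Subtype.val hceq
      simpa using this

/-- Kemhadze: a finite `p`-group is regular iff it is regular at level `1`. -/
theorem isRegularPGroup_iff_regAt_one {p : ℕ} [Fact p.Prime] {G : Type u} [Group G] [Finite G] :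
    Cfsg.IsRegularPGroup p G ↔ RegAt p 1 G :=
  ⟨fun h => RegAt.of_regular h 1,
    fun h => isRegularPGroup_iff_forall_regAt.mpr fun k => regAt_of_regAt_one p k G h⟩

end Cfsg.Agent.Helper70
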