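import Mathlib
import Cfsg.Prelude.Def_Local
import Cfsg.Agent.Lib.Helper48.BG36Conf

/-!
# BG Theorem 3.6: the wrapper from the inductive statement `P2` to the S1444 statement
-/

set_option autoImplicit false

universe u

namespace Cfsg.Agent.Helper70.BG36

open Subgroup Cfsg Cfsg.Agent.Helper48.BG36

/-- a `q`-subgroup of a Z-group is cyclic -/
theorem isCyclic_of_isPGroup_of_isZGroup {C : Type*} [Group C] [Finite C] [IsZGroup C]
    (q : ℕ) (hq : q.Prime) (T : Subgroup C) (hT : IsPGroup q T) : IsCyclic T := by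
  have : Fact q.Prime := ⟨hq⟩
  obtain ⟨S, hS⟩ := hT.exists_le_sylow
  have : IsCyclic (S : Subgroup C) := IsZGroup.isZGroup q hq S
  have : IsCyclic ↥(T.subgroupOf (S : Subgroup C)) := Subgroup.isCyclic _
  exact isCyclic_of_surjective _ (Subgroup.subgroupOfEquivOfLe hS).surjective

/-- (G) the statement of S1444 from the inductive statement `P2`. -/
theorem of_P2 {G : Type u} [Group G] [Finite G] [Group.IsSolvable G] (hodd : Odd (Nat.card G))
    (H R R₀ : Subgroup G) [H.Normal] (hHall : (Nat.card H).Coprime H.index)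
    (hR : Subgroup.IsComplement' H R) (hR₀ : R₀ ≤ R) (hR₀p : (Nat.card R₀).Prime)
    (hZ : IsZGroup ↥(H ⊓ Subgroup.centralizer (R₀ : Set G)))
    (p : ℕ) [Fact p.Prime] (hP2 : ∀ n, P2.{u} p n) :
    Cfsg.PLengthLE p 1 ↥⁅H, R⁆ := by
  have : Fact (Nat.card R₀).Prime := ⟨hR₀p⟩
  -- a nontrivial element of `R₀`
  have : Nontrivial ↥R₀ := by
    have h1 : 1 < Nat.card ↥R₀ := hR₀p.one_lt
    exact Finite.one_lt_card_iff_nontrivial.mp h1
  obtain ⟨a', ha'⟩ := exists_ne (1 : ↥R₀)
  have htop : Subgroup.zpowers a' = ⊤ := zpowers_eq_top_of_prime_card rfl ha'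
  have hgen : ∀ x ∈ R₀, x ∈ Subgroup.zpowers (a' : G) := by
    intro x hx
    have hx' : (⟨x, hx⟩ : ↥R₀) ∈ Subgroup.zpowers a' := by rw [htop]; exact Subgroup.mem_top _
    obtain ⟨k, hk⟩ := Subgroup.mem_zpowers_iff.mp hx'
    refine Subgroup.mem_zpowers_iff.mpr ⟨k, ?_⟩
    have := congrArg (Subtype.val) hk
    simpa using this
  have hidx : H.index = Nat.card R := hR.symm.index_eq_card
  have conf : Conf H R (a' : G) (Nat.card R₀) := by
    refine ⟨?_, ?_, hR₀ a'.2, hR₀p, ?_, ?_, ?_⟩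
    · rw [Subgroup.normalizer_eq_top]; exact le_top
    · rw [← hidx]; exact hHall
    · have h : a' ^ Nat.card ↥R₀ = 1 := pow_card_eq_one'
      have h2 : ((a' ^ Nat.card ↥R₀ : ↥R₀) : G) = ((1 : ↥R₀) : G) := congrArg Subtype.val h
      rw [Subgroup.coe_pow, Subgroup.coe_one] at h2
      exact h2
    · intro h; exact ha' (Subtype.ext h)
    · intro q hq T hTH hT hcomm
      -- `T ≤ H ⊓ C(R₀)`
      have hTC : T ≤ H ⊓ Subgroup.centralizer (R₀ : Set G) := by
        intro u hu
        refine ⟨hTH hu, ?_⟩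
        show u ∈ Subgroup.centralizer (R₀ : Set G)
        rw [Subgroup.mem_centralizer_iff]
        intro x hx
        obtain ⟨k, hk⟩ := Subgroup.mem_zpowers_iff.mp (hgen x hx)
        have hc : Commute (a' : G) u := hcomm u hu
        rw [← hk]
        exact (hc.zpow_left k).eq
      have := hZ
      have hT' : IsPGroup q ↥(T.subgroupOf (H ⊓ Subgroup.centralizer (R₀ : Set G))) :=
        hT.comap_subtype
      have : IsCyclic ↥(T.subgroupOf (H ⊓ Subgroup.centralizer (R₀ : Set G))) :=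
        isCyclic_of_isPGroup_of_isZGroup q hq _ hT'
      exact isCyclic_of_surjective _ (Subgroup.subgroupOfEquivOfLe hTC).surjective
  exact hP2 (Nat.card H * Nat.card R) G hodd H R (a' : G) (Nat.card R₀) conf le_rfl

end Cfsg.Agent.Helper70.BG36
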