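import Mathlib
import Cfsg.Agent.Lib.Helper13.OrthPermB
import Cfsg.Agent.Lib.Helper43.OrthCard

/-!
# Theorem P, piece (F3): a point radical is smaller than the group generated by the
Eichler elements of a self-orthogonal totally singular subspace of dimension at least 5
-/

set_option autoImplicit false

namespace Cfsg.Agent.Helper70.OrthPerm

open Matrix QuadraticMap Cfsg.Agent.Helper13 Cfsg.Agent.Helper43
open Cfsg.Agent.Helper13.OrthPermA

variable {F : Type*} [Field F] {ι : Type} [Fintype ι] [DecidableEq ι]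
  {Q : QuadraticForm F (ι → F)}

omit [Fintype ι] [DecidableEq ι] in
/-- the polar form vanishes on a totally singular subspace -/
theorem polar_eq_zero_of_ts {Y : Submodule F (ι → F)} (hY : ∀ y ∈ Y, Q y = 0) {y y' : ι → F}
    (hy : y ∈ Y) (hy' : y' ∈ Y) : polar (⇑Q) y y' = 0 := by
  unfold QuadraticMap.polar
  rw [hY _ (Y.add_mem hy hy'), hY _ hy, hY _ hy']
  simp

theorem E_smul_ts {Y : Submodule F (ι → F)} (hY : ∀ y ∈ Y, Q y = 0) {y w : ι → F}
    (hy : y ∈ Y) (hw : w ∈ Y) (x : ι → F) :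
    E Q y w • x = x + polar (⇑Q) y x • w - polar (⇑Q) w x • y := by
  rw [E_smul (hY y hy) (polar_eq_zero_of_ts hY hy hw), hY w hw, zero_mul, zero_smul, sub_zero]

theorem E_smul_sub_mem {Y : Submodule F (ι → F)} (hY : ∀ y ∈ Y, Q y = 0) {y w : ι → F}
    (hy : y ∈ Y) (hw : w ∈ Y) (x : ι → F) : E Q y w • x - x ∈ Y := by
  rw [E_smul_ts hY hy hw]
  have : x + polar (⇑Q) y x • w - polar (⇑Q) w x • y - x =
      polar (⇑Q) y x • w - polar (⇑Q) w x • y := by abel
  rw [this]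
  exact Y.sub_mem (Y.smul_mem _ hw) (Y.smul_mem _ hy)

theorem E_mul_smul {Y : Submodule F (ι → F)} (hY : ∀ y ∈ Y, Q y = 0) {y w : ι → F}
    (hy : y ∈ Y) (hw : w ∈ Y) (g : ↥(EK Q)) (hg : ∀ x : ι → F, g • x - x ∈ Y) (x : ι → F) :
    (E Q y w * g) • x = g • x + polar (⇑Q) y x • w - polar (⇑Q) w x • y := by
  rw [mul_smul, E_smul_ts hY hy hw]
  have e : g • x = x + (g • x - x) := by abel
  have p1 : polar (⇑Q) y (g • x) = polar (⇑Q) y x := by
    conv_lhs => rw [e]
    rw [polar_add_right, polar_eq_zero_of_ts hY hy (hg x), add_zero]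
  have p2 : polar (⇑Q) w (g • x) = polar (⇑Q) w x := by
    conv_lhs => rw [e]
    rw [polar_add_right, polar_eq_zero_of_ts hY hw (hg x), add_zero]
  rw [p1, p2]

theorem E_mul_smul_sub_mem {Y : Submodule F (ι → F)} (hY : ∀ y ∈ Y, Q y = 0) {y w : ι → F}
    (hy : y ∈ Y) (hw : w ∈ Y) (g : ↥(EK Q)) (hg : ∀ x : ι → F, g • x - x ∈ Y) (x : ι → F) :
    (E Q y w * g) • x - x ∈ Y := by
  rw [E_mul_smul hY hy hw g hg]
  have : g • x + polar (⇑Q) y x • w - polar (⇑Q) w x • y - x =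
      (g • x - x) + (polar (⇑Q) y x • w - polar (⇑Q) w x • y) := by abel
  rw [this]
  exact Y.add_mem (hg x) (Y.sub_mem (Y.smul_mem _ hw) (Y.smul_mem _ hy))

/-- the action of a product of three Eichler elements from `Y` -/
theorem triple_smul {Y : Submodule F (ι → F)} (hY : ∀ y ∈ Y, Q y = 0)
    {y1 y2 y3 a b c : ι → F} (h1 : y1 ∈ Y) (h2 : y2 ∈ Y) (h3 : y3 ∈ Y)
    (ha : a ∈ Y) (hb : b ∈ Y) (hc : c ∈ Y) (x : ι → F) :
    (E Q y1 a * E Q y2 b * E Q y3 c) • x =
      x + polar (⇑Q) y3 x • c - polar (⇑Q) c x • y3 + polar (⇑Q) y2 x • b - polar (⇑Q) b x • y2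
        + polar (⇑Q) y1 x • a - polar (⇑Q) a x • y1 := by
  rw [mul_assoc, E_mul_smul hY h1 ha _ (E_mul_smul_sub_mem hY h2 hb _ (E_smul_sub_mem hY h3 hc)),
    E_mul_smul hY h2 hb _ (E_smul_sub_mem hY h3 hc), E_smul_ts hY h3 hc]

/-- vectors of `Y` are fixed -/
theorem triple_smul_mem {Y : Submodule F (ι → F)} (hY : ∀ y ∈ Y, Q y = 0)
    {y1 y2 y3 a b c : ι → F} (h1 : y1 ∈ Y) (h2 : y2 ∈ Y) (h3 : y3 ∈ Y)
    (ha : a ∈ Y) (hb : b ∈ Y) (hc : c ∈ Y) {t : ι → F} (ht : t ∈ Y) :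
    (E Q y1 a * E Q y2 b * E Q y3 c) • t = t := by
  rw [triple_smul hY h1 h2 h3 ha hb hc, polar_eq_zero_of_ts hY h3 ht,
    polar_eq_zero_of_ts hY hc ht, polar_eq_zero_of_ts hY h2 ht, polar_eq_zero_of_ts hY hb ht,
    polar_eq_zero_of_ts hY h1 ht, polar_eq_zero_of_ts hY ha ht]
  simp

variable [Fintype F]

/-- the order of a root group -/
theorem card_rootGroup_le (h : WI3 Q) {u : ι → F} (hu0 : u ≠ 0) (hu : Q u = 0) :
    Nat.card ↥(rootGroup Q u hu) ≤ Nat.card F ^ (Module.finrank F (ι → F) - 2) := by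
  obtain ⟨v, hv, huv⟩ := h.partner hu0 hu
  have hp : IsHypPair Q u v := ⟨hu, hv, huv⟩
  let f : ↥(pairOrth Q u v) → ↥(rootGroup Q u hu) := fun w =>
    ⟨E Q u (w : ι → F), E_mem_rootGroup hu (mem_pairOrth.mp w.2).1⟩
  have hf : Function.Surjective f := by
    rintro ⟨g, hg⟩
    obtain ⟨w, hw, rfl⟩ := (mem_rootGroup_iff hu g).1 hg
    refine ⟨⟨w - polar (⇑Q) v w • u - polar (⇑Q) u w • v, hp.sub_mem w⟩, ?_⟩
    apply Subtype.ext
    show E Q u (w - polar (⇑Q) v w • u - polar (⇑Q) u w • v) = E Q u w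
    have e : w - polar (⇑Q) v w • u - polar (⇑Q) u w • v = w + (-polar (⇑Q) v w) • u := by
      rw [hw]; module
    rw [e, E_add_smul _ hu hw]
  have h1 : Nat.card ↥(rootGroup Q u hu) ≤ Nat.card ↥(pairOrth Q u v) :=
    Nat.card_le_card_of_surjective f hf
  have h2 := Module.natCard_eq_pow_finrank (K := F) (V := ↥(pairOrth Q u v))
  have h3 := hp.finrank_pairOrth
  have h4 : Module.finrank F ↥(pairOrth Q u v) = Module.finrank F (ι → F) - 2 := by omega
  rw [h2, h4] at h1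
  exact h1

omit [Fintype F] [Fintype ι] [DecidableEq ι] in
/-- dimension of a kernel -/
theorem finrank_le_ker_add {Y W : Type*} [AddCommGroup Y] [Module F Y] [FiniteDimensional F Y]
    [AddCommGroup W] [Module F W] [FiniteDimensional F W] (f : Y →ₗ[F] W) :
    Module.finrank F Y ≤ Module.finrank F ↥(LinearMap.ker f) + Module.finrank F W := by
  have h1 := LinearMap.finrank_range_add_finrank_ker f
  have h2 : Module.finrank F ↥(LinearMap.range f) ≤ Module.finrank F W := Submodule.finrank_le _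
  omega

/-- the functional `y ↦ polar y z` on `Y` -/
noncomputable def phi (Q : QuadraticForm F (ι → F)) (Y : Submodule F (ι → F)) (z : ι → F) :
    ↥Y →ₗ[F] F :=
  ((polarBilin Q).flip z).comp Y.subtype

omit [Fintype F] [Fintype ι] [DecidableEq ι] in
theorem phi_apply (Y : Submodule F (ι → F)) (z : ι → F) (y : ↥Y) :
    phi Q Y z y = polar (⇑Q) (y : ι → F) z := rfl

/-- (F3) cardinalities for a self-orthogonal totally singular subspace of dimension ≥ 5 -/
theorem card_rootGroup_lt (h : WI3 Q) (Y : Submodule F (ι → F)) (hY : ∀ y ∈ Y, Q y = 0)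
    (hYY : ∀ x : ι → F, (∀ y ∈ Y, polar (⇑Q) y x = 0) → x ∈ Y) (h5 : 5 ≤ Module.finrank F Y)
    {u : ι → F} (hu0 : u ≠ 0) (hu : Q u = 0) :
    Nat.card ↥((rootGroup Q u hu).map (QuotientGroup.mk' (Subgroup.center ↥(EK Q)))) <
      Nat.card ↥((Subgroup.closure {g : ↥(EK Q) | ∃ y ∈ Y, ∃ y' ∈ Y, g = E Q y y'}).map
        (QuotientGroup.mk' (Subgroup.center ↥(EK Q)))) := by
  classical
  -- three independent vectors of `Y` and dual vectors
  obtain ⟨f0, hf0⟩ := exists_linearIndependent_of_le_finrank (R := F) (M := ↥Y)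
    (show 3 ≤ Module.finrank F ↥Y by omega)
  have hli : LinearIndependent F (fun i => ((f0 i : ↥Y) : ι → F)) :=
    hf0.map' Y.subtype (Submodule.ker_subtype Y)
  obtain ⟨z1, hz1⟩ := polar_prescribe Q h.nd _ hli ![1, 0, 0]
  obtain ⟨z2, hz2⟩ := polar_prescribe Q h.nd _ hli ![0, 1, 0]
  obtain ⟨z3, hz3⟩ := polar_prescribe Q h.nd _ hli ![0, 0, 1]
  set y1 : ι → F := ((f0 0 : ↥Y) : ι → F) with hy1d
  set y2 : ι → F := ((f0 1 : ↥Y) : ι → F) with hy2d
  set y3 : ι → F := ((f0 2 : ↥Y) : ι → F) with hy3d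
  have m1 : y1 ∈ Y := (f0 0).2
  have m2 : y2 ∈ Y := (f0 1).2
  have m3 : y3 ∈ Y := (f0 2).2
  have y1ne : y1 ≠ 0 := by
    intro h0
    have := hz1 0
    rw [show ((f0 0 : ↥Y) : ι → F) = y1 from rfl, h0, polar_zero_left] at this
    simp at this
  have p11 : polar (⇑Q) y1 z1 = 1 := hz1 0
  have p21 : polar (⇑Q) y2 z1 = 0 := hz1 1
  have p31 : polar (⇑Q) y3 z1 = 0 := hz1 2
  have p12 : polar (⇑Q) y1 z2 = 0 := hz2 0
  have p22 : polar (⇑Q) y2 z2 = 1 := hz2 1
  have p32 : polar (⇑Q) y3 z2 = 0 := hz2 2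
  have p13 : polar (⇑Q) y1 z3 = 0 := hz3 0
  have p23 : polar (⇑Q) y2 z3 = 0 := hz3 1
  have p33 : polar (⇑Q) y3 z3 = 1 := hz3 2
  -- the three parameter spaces
  set A : Submodule F ↥Y := LinearMap.ker (phi Q Y z1) with hA
  set B : Submodule F ↥Y := LinearMap.ker ((phi Q Y z1).prod (phi Q Y z2)) with hB
  set C : Submodule F ↥Y :=
    LinearMap.ker ((phi Q Y z1).prod ((phi Q Y z2).prod (phi Q Y z3))) with hC
  have dA : Module.finrank F ↥Y ≤ Module.finrank F ↥A + 1 := by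
    have := finrank_le_ker_add (F := F) (phi Q Y z1)
    rwa [Module.finrank_self] at this
  have dB : Module.finrank F ↥Y ≤ Module.finrank F ↥B + 2 := by
    have := finrank_le_ker_add (F := F) ((phi Q Y z1).prod (phi Q Y z2))
    rwa [Module.finrank_prod, Module.finrank_self] at this
  have dC : Module.finrank F ↥Y ≤ Module.finrank F ↥C + 3 := by
    have := finrank_le_ker_add (F := F) ((phi Q Y z1).prod ((phi Q Y z2).prod (phi Q Y z3)))
    rw [Module.finrank_prod, Module.finrank_prod, Module.finrank_self] at this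
    exact this
  have memA : ∀ a : ↥A, polar (⇑Q) ((a : ↥Y) : ι → F) z1 = 0 := fun a =>
    LinearMap.mem_ker.mp a.2
  have memB : ∀ b : ↥B, polar (⇑Q) ((b : ↥Y) : ι → F) z1 = 0 ∧
      polar (⇑Q) ((b : ↥Y) : ι → F) z2 = 0 := fun b => by
    have := LinearMap.mem_ker.mp b.2
    exact ⟨congrArg Prod.fst this, congrArg Prod.snd this⟩
  have memC : ∀ c : ↥C, polar (⇑Q) ((c : ↥Y) : ι → F) z1 = 0 ∧
      polar (⇑Q) ((c : ↥Y) : ι → F) z2 = 0 ∧ polar (⇑Q) ((c : ↥Y) : ι → F) z3 = 0 := fun c => by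
    have := LinearMap.mem_ker.mp c.2
    exact ⟨congrArg Prod.fst this, congrArg (fun p => p.2.1) this,
      congrArg (fun p => p.2.2) this⟩
  -- the map into the quotient
  set Z0 : Subgroup ↥(EK Q) :=
    Subgroup.closure {g : ↥(EK Q) | ∃ y ∈ Y, ∃ y' ∈ Y, g = E Q y y'} with hZ0
  set π := QuotientGroup.mk' (Subgroup.center ↥(EK Q)) with hπ
  have gen : ∀ {y w : ι → F}, y ∈ Y → w ∈ Y → E Q y w ∈ Z0 := fun {y w} hy hw =>
    Subgroup.subset_closure ⟨y, hy, w, hw, rfl⟩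
  let T : ↥A × ↥B × ↥C → ↥(EK Q) := fun p =>
    E Q y1 ((p.1 : ↥Y) : ι → F) * E Q y2 ((p.2.1 : ↥Y) : ι → F) * E Q y3 ((p.2.2 : ↥Y) : ι → F)
  have hT : ∀ p, T p ∈ Z0 := fun p =>
    Z0.mul_mem (Z0.mul_mem (gen m1 (p.1 : ↥Y).2) (gen m2 (p.2.1 : ↥Y).2)) (gen m3 (p.2.2 : ↥Y).2)
  let Φ : ↥A × ↥B × ↥C → ↥(Z0.map π) := fun p => ⟨π (T p), Subgroup.mem_map_of_mem π (hT p)⟩
  have hΦ : Function.Injective Φ := by
    rintro ⟨a, b, c⟩ ⟨a', b', c'⟩ hpp
    have h0 : π (T (a, b, c)) = π (T (a', b', c')) := congrArg Subtype.val hpp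
    rw [hπ, QuotientGroup.mk'_apply, QuotientGroup.mk'_apply, QuotientGroup.eq] at h0
    obtain ⟨l, hl⟩ := center_scalar h _ h0
    -- both fix `y1`
    have fix1 : T (a, b, c) • y1 = y1 :=
      triple_smul_mem hY m1 m2 m3 (a : ↥Y).2 (b : ↥Y).2 (c : ↥Y).2 m1
    have fix2 : T (a', b', c') • y1 = y1 :=
      triple_smul_mem hY m1 m2 m3 (a' : ↥Y).2 (b' : ↥Y).2 (c' : ↥Y).2 m1
    have hl1 : l = 1 := by
      have hinv : (T (a, b, c))⁻¹ • y1 = y1 := by rw [inv_smul_eq_iff, fix1]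
      have := hl y1
      rw [mul_smul, fix2, hinv] at this
      have h2 : (l - 1) • y1 = 0 := by rw [sub_smul, one_smul, ← this, sub_self]
      rcases smul_eq_zero.mp h2 with h3 | h3
      · linear_combination h3
      · exact absurd h3 y1ne
    have heq : ∀ x : ι → F, T (a', b', c') • x = T (a, b, c) • x := by
      intro x
      have := hl x
      rw [hl1, one_smul, mul_smul, inv_smul_eq_iff] at this
      exact this
    -- evaluate at z1
    have e1 := heq z1
    simp only [T] at e1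
    rw [triple_smul hY m1 m2 m3 (a' : ↥Y).2 (b' : ↥Y).2 (c' : ↥Y).2,
      triple_smul hY m1 m2 m3 (a : ↥Y).2 (b : ↥Y).2 (c : ↥Y).2, p11, p21, p31,
      memA a, memA a', (memB b).1, (memB b').1, (memC c).1, (memC c').1] at e1
    simp only [zero_smul, one_smul, add_zero, sub_zero] at e1
    have ea : ((a' : ↥Y) : ι → F) = ((a : ↥Y) : ι → F) := add_left_cancel e1
    have ea' : a' = a := Subtype.ext (Subtype.ext ea)
    subst ea'
    -- evaluate at z2
    have e2 := heq z2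
    simp only [T] at e2
    rw [triple_smul hY m1 m2 m3 (a' : ↥Y).2 (b' : ↥Y).2 (c' : ↥Y).2,
      triple_smul hY m1 m2 m3 (a' : ↥Y).2 (b : ↥Y).2 (c : ↥Y).2, p12, p22, p32,
      (memB b).2, (memB b').2, (memC c).2.1, (memC c').2.1] at e2
    simp only [zero_smul, one_smul, add_zero, sub_zero] at e2
    have eb : ((b' : ↥Y) : ι → F) = ((b : ↥Y) : ι → F) := by
      have := sub_left_injective e2
      exact add_left_cancel this
    have eb' : b' = b := Subtype.ext (Subtype.ext eb)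
    subst eb'
    -- evaluate at z3
    have e3 := heq z3
    simp only [T] at e3
    rw [triple_smul hY m1 m2 m3 (a' : ↥Y).2 (b' : ↥Y).2 (c' : ↥Y).2,
      triple_smul hY m1 m2 m3 (a' : ↥Y).2 (b' : ↥Y).2 (c : ↥Y).2, p13, p23, p33,
      (memC c).2.2, (memC c').2.2] at e3
    simp only [zero_smul, one_smul, add_zero, sub_zero] at e3
    have ec : ((c' : ↥Y) : ι → F) = ((c : ↥Y) : ι → F) := by
      have := sub_left_injective (sub_left_injective e3)
      exact add_left_cancel this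
    have ec' : c' = c := Subtype.ext (Subtype.ext ec)
    subst ec'
    rfl
  -- cardinalities
  have hq : 1 < Nat.card F := by
    rw [Nat.card_eq_fintype_card]; exact Fintype.one_lt_card
  have c1 : Nat.card (↥A × ↥B × ↥C) ≤ Nat.card ↥(Z0.map π) :=
    Nat.card_le_card_of_injective Φ hΦ
  have c2 : Nat.card (↥A × ↥B × ↥C) =
      Nat.card F ^ (Module.finrank F ↥A + Module.finrank F ↥B + Module.finrank F ↥C) := by
    rw [Nat.card_prod, Nat.card_prod, Module.natCard_eq_pow_finrank (K := F) (V := ↥A),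
      Module.natCard_eq_pow_finrank (K := F) (V := ↥B),
      Module.natCard_eq_pow_finrank (K := F) (V := ↥C), ← pow_add, ← pow_add, add_assoc]
  have c3 : Nat.card ↥((rootGroup Q u hu).map π) ≤ Nat.card ↥(rootGroup Q u hu) :=
    Nat.le_of_dvd Nat.card_pos (Subgroup.card_map_dvd _ π)
  have c4 := card_rootGroup_le h hu0 hu
  -- dimensions
  have hn : Module.finrank F (ι → F) - Module.finrank F ↥Y ≤ Module.finrank F ↥Y := by
    rw [← LinearMap.BilinForm.finrank_orthogonal h.nd Y]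
    apply Submodule.finrank_mono
    intro x hx
    apply hYY x
    intro y hy
    have := (LinearMap.BilinForm.mem_orthogonal_iff.mp hx) y hy
    rwa [polarBilin_apply_apply] at this
  have hlt : Module.finrank F (ι → F) - 2 < Module.finrank F ↥A + Module.finrank F ↥B + Module.finrank F ↥C := by
    omega
  calc Nat.card ↥((rootGroup Q u hu).map π) ≤ Nat.card ↥(rootGroup Q u hu) := c3
    _ ≤ Nat.card F ^ (Module.finrank F (ι → F) - 2) := c4
    _ < Nat.card F ^ (Module.finrank F ↥A + Module.finrank F ↥B + Module.finrank F ↥C) :=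
        Nat.pow_lt_pow_right hq hlt
    _ = Nat.card (↥A × ↥B × ↥C) := c2.symm
    _ ≤ Nat.card ↥(Z0.map π) := c1

end Cfsg.Agent.Helper70.OrthPerm
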