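import Mathlib
import Cfsg.Agent.Lib.Helper5.OAut8

set_option autoImplicit false
set_option linter.unusedSectionVars false
set_option linter.unusedVariables false

/-!
# (NG-conn) for helper5's NG server: two singular vectors of the perp of a hyperbolic pair have a
common perpendicular singular vector there, lying on neither line.
-/

namespace Cfsg.Agent.Helper70.OAutNG

open Matrix QuadraticMap Cfsg.Agent.Helper13 Cfsg.Agent.Helper43 Cfsg.Agent.Helper5.OAut

variable {F : Type*} [Field F] [Fintype F] {ι : Type} [Fintype ι] [DecidableEq ι]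
  {Q : QuadraticForm F (ι → F)}

theorem NG_conn (C : Ctx Q) {u v : ι → F} (hu : Q u = 0) (hv : Q v = 0)
    (huv : polar (⇑Q) u v = 1) {w w' : ι → F} (hw0 : w ≠ 0) (hw0' : w' ≠ 0) (hw : Q w = 0)
    (hw' : Q w' = 0) (huw : polar (⇑Q) u w = 0) (hvw : polar (⇑Q) v w = 0)
    (huw' : polar (⇑Q) u w' = 0) (hvw' : polar (⇑Q) v w' = 0) :
    ∃ z, Q z = 0 ∧ polar (⇑Q) u z = 0 ∧ polar (⇑Q) v z = 0 ∧ polar (⇑Q) z w = 0 ∧
      polar (⇑Q) z w' = 0 ∧ (∀ c : F, z ≠ c • w) ∧ (∀ c : F, z ≠ c • w') := by
  have hww : polar (⇑Q) w w = 0 := polar_self_of_sing Q w hw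
  have hww' : polar (⇑Q) w' w' = 0 := polar_self_of_sing Q w' hw'
  by_cases h1 : polar (⇑Q) w w' = 0
  · by_cases h2 : ∃ c : F, w' = c • w
    · -- `w' = c • w`
      obtain ⟨c, rfl⟩ := h2
      obtain ⟨wo, hwo, huwo, hvwo, hwwo⟩ := NG_part C hu hv huv hw0 hw huw hvw
      obtain ⟨z, hz0, hz, huz, hvz, hwz, hwoz⟩ := NG_ex4 C u v w wo
      have hzw : polar (⇑Q) z w = 0 := by rw [polar_comm, hwz]
      have key : ∀ d : F, z ≠ d • w := by
        intro d hd
        have h3 : polar (⇑Q) wo z = d := by
          rw [hd, polar_smul_right, polar_comm (⇑Q) wo w, hwwo]; simp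
        rw [hwoz] at h3
        apply hz0
        rw [hd, ← h3, zero_smul]
      refine ⟨z, hz, huz, hvz, hzw, ?_, key, ?_⟩
      · rw [polar_smul_right, hzw]; simp
      · intro d hd
        exact key (d * c) (by rw [hd, smul_smul])
    · -- `w'` not on the line of `w`, perpendicular
      push Not at h2
      have hw'w : polar (⇑Q) w' w = 0 := by rw [polar_comm, h1]
      refine ⟨w + w', ?_, ?_, ?_, ?_, ?_, ?_, ?_⟩
      · rw [QuadraticMap.map_add Q w w', hw, hw', h1]; simp
      · rw [polar_add_right, huw, huw']; simp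
      · rw [polar_add_right, hvw, hvw']; simp
      · rw [polar_add_left, hww, hw'w]; simp
      · rw [polar_add_left, h1, hww']; simp
      · intro c hc
        apply h2 (c - 1)
        rw [sub_smul, one_smul, ← hc]; abel
      · intro c hc
        have h3 : w = (c - 1) • w' := by
          rw [sub_smul, one_smul, ← hc]; abel
        by_cases hc1 : c - 1 = 0
        · apply hw0
          rw [h3, hc1, zero_smul]
        · apply h2 (c - 1)⁻¹
          rw [h3, smul_smul, inv_mul_cancel₀ hc1, one_smul]
  · -- `polar w w' ≠ 0`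
    obtain ⟨z, hz0, hz, huz, hvz, hwz, hw'z⟩ := NG_ex4 C u v w w'
    have hzw : polar (⇑Q) z w = 0 := by rw [polar_comm, hwz]
    have hzw' : polar (⇑Q) z w' = 0 := by rw [polar_comm, hw'z]
    refine ⟨z, hz, huz, hvz, hzw, hzw', ?_, ?_⟩
    · intro c hc
      have h3 : c * polar (⇑Q) w' w = 0 := by
        have := hw'z
        rw [hc, polar_smul_right] at this
        simpa using this
      have h4 : polar (⇑Q) w' w ≠ 0 := by rw [polar_comm]; exact h1
      rcases mul_eq_zero.mp h3 with h5 | h5
      · apply hz0; rw [hc, h5, zero_smul]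
      · exact h4 h5
    · intro c hc
      have h3 : c * polar (⇑Q) w w' = 0 := by
        have := hwz
        rw [hc, polar_smul_right] at this
        simpa using this
      rcases mul_eq_zero.mp h3 with h5 | h5
      · apply hz0; rw [hc, h5, zero_smul]
      · exact h1 h5

end Cfsg.Agent.Helper70.OAutNG
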