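import Mathlib
import Cfsg.Agent.Lib.Helper14.TSPDefs

set_option autoImplicit false

/-!
TSP server (helper14, S5980), piece (K2): the relative intertwiner bound.
-/

namespace Cfsg.Agent.Helper70.TSP

open Matrix Module Polynomial
open scoped Kronecker

universe u

section general

variable {F : Type u} [Field F]

/-- the intertwiners `A X = X C` vanishing on a subspace `N'` -/
def interK {N M : Type*} [AddCommGroup N] [Module F N] [AddCommGroup M] [Module F M]
    (C : N →ₗ[F] N) (A : M →ₗ[F] M) (N' : Submodule F N) : Submodule F (N →ₗ[F] M) where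
  carrier := {X | A ∘ₗ X = X ∘ₗ C ∧ ∀ w ∈ N', X w = 0}
  add_mem' := by
    rintro X Y ⟨hX, hX0⟩ ⟨hY, hY0⟩
    refine ⟨?_, ?_⟩
    · rw [LinearMap.comp_add, LinearMap.add_comp, hX, hY]
    · intro w hw
      rw [LinearMap.add_apply, hX0 w hw, hY0 w hw, add_zero]
  zero_mem' := by
    refine ⟨?_, ?_⟩
    · rw [LinearMap.comp_zero, LinearMap.zero_comp]
    · intro w _
      rfl
  smul_mem' := by
    rintro c X ⟨hX, hX0⟩
    refine ⟨?_, ?_⟩
    · rw [LinearMap.comp_smul, LinearMap.smul_comp, hX]
    · intro w hw
      rw [LinearMap.smul_apply, hX0 w hw, smul_zero]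

theorem mem_interK {N M : Type*} [AddCommGroup N] [Module F N] [AddCommGroup M] [Module F M]
    (C : N →ₗ[F] N) (A : M →ₗ[F] M) (N' : Submodule F N) (X : N →ₗ[F] M) :
    X ∈ interK C A N' ↔ (A ∘ₗ X = X ∘ₗ C ∧ ∀ w ∈ N', X w = 0) := Iff.rfl

/-- the smallest `C`-invariant subspace containing `N'` and `w` -/
def invHull {N : Type*} [AddCommGroup N] [Module F N] (C : N →ₗ[F] N) (N' : Submodule F N)
    (w : N) : Submodule F N :=
  sInf {S : Submodule F N | N' ≤ S ∧ w ∈ S ∧ ∀ v ∈ S, C v ∈ S}

theorem invHull_inv {N : Type*} [AddCommGroup N] [Module F N] (C : N →ₗ[F] N)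
    (N' : Submodule F N) (w : N) : ∀ v ∈ invHull C N' w, C v ∈ invHull C N' w := by
  intro v hv
  unfold invHull at hv ⊢
  rw [Submodule.mem_sInf] at hv ⊢
  intro S hS
  exact hS.2.2 v (hv S hS)

theorem le_invHull {N : Type*} [AddCommGroup N] [Module F N] (C : N →ₗ[F] N)
    (N' : Submodule F N) (w : N) : N' ≤ invHull C N' w := by
  unfold invHull
  exact le_sInf (fun S hS => hS.1)

theorem mem_invHull {N : Type*} [AddCommGroup N] [Module F N] (C : N →ₗ[F] N)
    (N' : Submodule F N) (w : N) : w ∈ invHull C N' w := by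
  unfold invHull
  rw [Submodule.mem_sInf]
  exact fun S hS => hS.2.1

theorem invHull_le {N : Type*} [AddCommGroup N] [Module F N] (C : N →ₗ[F] N)
    (N' : Submodule F N) (w : N) (S : Submodule F N) (h1 : N' ≤ S) (h2 : w ∈ S)
    (h3 : ∀ v ∈ S, C v ∈ S) : invHull C N' w ≤ S := by
  unfold invHull
  exact sInf_le ⟨h1, h2, h3⟩

/-- the rank-nullity step: evaluation at `w` -/
theorem interK_step {N M : Type*} [AddCommGroup N] [Module F N] [FiniteDimensional F N]
    [AddCommGroup M] [Module F M] [FiniteDimensional F M]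
    (C : N →ₗ[F] N) (A : M →ₗ[F] M) (M₁ : Submodule F M) (N' : Submodule F N) (w : N)
    (hw : ∀ X : N →ₗ[F] M, A ∘ₗ X = X ∘ₗ C → X w ∈ M₁) :
    finrank F (interK C A N') ≤ finrank F (interK C A (invHull C N' w)) + finrank F M₁ := by
  set φ : interK C A N' →ₗ[F] M₁ :=
    { toFun := fun X => ⟨X.1 w, hw X.1 X.2.1⟩
      map_add' := fun X Y => by
        apply Subtype.ext
        simp only [Submodule.coe_add, LinearMap.add_apply]
      map_smul' := fun c X => by
        apply Subtype.ext
        simp only [Submodule.coe_smul, LinearMap.smul_apply, RingHom.id_apply] } with hφ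
  have h1 := LinearMap.finrank_range_add_finrank_ker φ
  have h2 : finrank F (LinearMap.range φ) ≤ finrank F M₁ := Submodule.finrank_le _
  have h3 : finrank F (LinearMap.ker φ) ≤ finrank F (interK C A (invHull C N' w)) := by
    have hle : (LinearMap.ker φ).map (interK C A N').subtype ≤ interK C A (invHull C N' w) := by
      rintro _ ⟨X, hX, rfl⟩
      have hXw : X.1 w = 0 := by
        have := LinearMap.mem_ker.mp hX
        exact congrArg Subtype.val this
      have hXi : A ∘ₗ X.1 = X.1 ∘ₗ C := X.2.1
      refine ⟨hXi, ?_⟩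
      have hker : invHull C N' w ≤ LinearMap.ker X.1 := by
        apply invHull_le
        · intro v hv
          exact LinearMap.mem_ker.mpr (X.2.2 v hv)
        · exact LinearMap.mem_ker.mpr hXw
        · intro v hv
          rw [LinearMap.mem_ker] at hv ⊢
          have := LinearMap.congr_fun hXi v
          rw [LinearMap.comp_apply, LinearMap.comp_apply, hv, map_zero] at this
          exact this.symm
      intro v hv
      exact LinearMap.mem_ker.mp (hker hv)
    calc finrank F (LinearMap.ker φ)
        = finrank F ((LinearMap.ker φ).map (interK C A N').subtype) :=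
          (Submodule.finrank_map_subtype_eq _ _).symm
      _ ≤ _ := Submodule.finrank_mono hle
  omega

/-- (K2) relative intertwiner bound. -/
theorem intertwiner_bound {N M : Type*} [AddCommGroup N] [Module F N] [FiniteDimensional F N]
    [AddCommGroup M] [Module F M] [FiniteDimensional F M]
    (C : N →ₗ[F] N) (A : M →ₗ[F] M) (i k₀ : ℕ) (N₁ : Submodule F N) (M₁ : Submodule F M)
    (hN₁ : ∀ v ∈ N₁, C v ∈ N₁)
    (hdiv : ∀ N' : Submodule F N, N' ≤ N₁ → (∀ v ∈ N', C v ∈ N') → i ∣ finrank F N')
    (hM₁ : ∀ X : N →ₗ[F] M, A ∘ₗ X = X ∘ₗ C → ∀ w ∈ N₁, X w ∈ M₁)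
    (Z Z₁ : Submodule F (N →ₗ[F] M)) (hZ : ∀ X, X ∈ Z ↔ A ∘ₗ X = X ∘ₗ C)
    (hZ₁ : ∀ X, X ∈ Z₁ ↔ (A ∘ₗ X = X ∘ₗ C ∧ ∀ w ∈ N₁, X w = 0))
    (hk₀ : finrank F Z₁ ≤ k₀) :
    i * finrank F Z ≤ i * k₀ + finrank F N₁ * finrank F M₁ := by
  have key : ∀ n : ℕ, ∀ N' : Submodule F N, N' ≤ N₁ → (∀ v ∈ N', C v ∈ N') →
      finrank F N₁ - finrank F N' = n →
      i * finrank F (interK C A N') ≤ i * k₀ + n * finrank F M₁ := by
    intro n
    induction n using Nat.strong_induction_on with
    | _ n ih =>
      intro N' hle hinv hn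
      by_cases hEq : N' = N₁
      · have hK : interK C A N' = Z₁ := by
          ext X
          rw [mem_interK, hZ₁, hEq]
        rw [hK]
        exact le_trans (Nat.mul_le_mul_left i hk₀) (Nat.le_add_right _ _)
      · obtain ⟨w, hwN₁, hwN'⟩ := SetLike.exists_of_lt (lt_of_le_of_ne hle hEq)
        have hle'' : invHull C N' w ≤ N₁ := invHull_le C N' w N₁ hle hwN₁ hN₁
        have hinv'' := invHull_inv C N' w
        have hlt : N' < invHull C N' w := by
          refine lt_of_le_of_ne (le_invHull C N' w) ?_
          intro h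
          apply hwN'
          rw [h]
          exact mem_invHull C N' w
        have hf1 : finrank F N' < finrank F (invHull C N' w) :=
          Submodule.finrank_lt_finrank_of_lt hlt
        have hf2 : finrank F (invHull C N' w) ≤ finrank F N₁ := Submodule.finrank_mono hle''
        obtain ⟨a, ha⟩ := hdiv N' hle hinv
        obtain ⟨b, hb⟩ := hdiv (invHull C N' w) hle'' hinv''
        have hab : a < b := by
          by_contra hcon
          have : i * b ≤ i * a := Nat.mul_le_mul_left i (not_lt.mp hcon)
          omega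
        have hf3 : finrank F N' + i ≤ finrank F (invHull C N' w) := by
          have : i * (a + 1) ≤ i * b := Nat.mul_le_mul_left i hab
          rw [ha, hb]
          calc i * a + i = i * (a + 1) := by ring
            _ ≤ i * b := this
        have hstep := interK_step C A M₁ N' w (fun X hX => hM₁ X hX w hwN₁)
        have hn'' : finrank F N₁ - finrank F (invHull C N' w) < n := by omega
        have hIH := ih _ hn'' (invHull C N' w) hle'' hinv'' rfl
        have hni : finrank F N₁ - finrank F (invHull C N' w) + i ≤ n := by omega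
        calc i * finrank F (interK C A N')
            ≤ i * (finrank F (interK C A (invHull C N' w)) + finrank F M₁) :=
              Nat.mul_le_mul_left i hstep
          _ = i * finrank F (interK C A (invHull C N' w)) + i * finrank F M₁ := by ring
          _ ≤ (i * k₀ + (finrank F N₁ - finrank F (invHull C N' w)) * finrank F M₁) +
                i * finrank F M₁ := Nat.add_le_add_right hIH _
          _ = i * k₀ + (finrank F N₁ - finrank F (invHull C N' w) + i) * finrank F M₁ := by ring
          _ ≤ i * k₀ + n * finrank F M₁ :=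
              Nat.add_le_add_left (Nat.mul_le_mul_right _ hni) _
  have hbot := key (finrank F N₁) ⊥ bot_le
    (fun v hv => by rw [Submodule.mem_bot] at hv ⊢; rw [hv, map_zero])
    (by rw [finrank_bot, Nat.sub_zero])
  have hK : interK C A (⊥ : Submodule F N) = Z := by
    ext X
    rw [mem_interK, hZ]
    constructor
    · exact fun h => h.1
    · intro h
      refine ⟨h, ?_⟩
      intro w hw
      rw [Submodule.mem_bot] at hw
      rw [hw, map_zero]
  rw [hK] at hbot
  exact hbot

end general

end Cfsg.Agent.Helper70.TSP
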