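import Mathlib
import Cfsg.Agent.Lib.Helper14.TSPDefs

set_option autoImplicit false

/-!
TSP server (helper14, S5980), piece (E0): an isometry of the symplectic form whose square is a
scalar `z` has `z = ±1`.
-/

namespace Cfsg.Agent.Helper70.TSP

open Matrix Module Polynomial
open scoped Kronecker

universe u

section general

variable {F : Type u} [Field F]

/-- (E0) an isometry of the symplectic form whose square is the scalar `z` has `z = ±1`. -/
theorem sq_scalar_cases (d : ℕ) (hd : 1 ≤ d) (x : GL (Fin d ⊕ Fin d) F) (hx : x ∈ Cfsg.spGL d F)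
    (z : F) (hz : x.val ^ 2 = z • (1 : Matrix (Fin d ⊕ Fin d) (Fin d ⊕ Fin d) F)) :
    z = 1 ∨ z = -1 := by
  have hx' : ∀ u v, Cfsg.sympForm d F (x.val *ᵥ u) (x.val *ᵥ v) = Cfsg.sympForm d F u v := hx
  have h2 : ∀ u : Fin d ⊕ Fin d → F, x.val *ᵥ (x.val *ᵥ u) = z • u := by
    intro u
    rw [Matrix.mulVec_mulVec, ← pow_two, hz, Matrix.smul_mulVec, Matrix.one_mulVec]
  have h4 : ∀ u v : Fin d ⊕ Fin d → F,
      Cfsg.sympForm d F (z • u) (z • v) = z * z * Cfsg.sympForm d F u v := by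
    intro u v
    unfold Cfsg.sympForm
    rw [Matrix.mulVec_smul, smul_dotProduct, dotProduct_smul, smul_eq_mul, smul_eq_mul, mul_assoc]
  have h5 : Cfsg.sympForm d F (Pi.single (Sum.inr ⟨0, hd⟩) 1) (Pi.single (Sum.inl ⟨0, hd⟩) 1) = 1 := by
    unfold Cfsg.sympForm
    rw [single_dotProduct, one_mul, Matrix.mulVec_single_one]
    simp [Matrix.J, Matrix.col_apply]
  have h3 := hx' (x.val *ᵥ (Pi.single (Sum.inr ⟨0, hd⟩) 1)) (x.val *ᵥ (Pi.single (Sum.inl ⟨0, hd⟩) 1))
  rw [h2, h2, hx', h4, h5, mul_one] at h3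
  have h6 : (z - 1) * (z + 1) = 0 := by
    have : (z - 1) * (z + 1) = z * z - 1 := by ring
    rw [this, h3, sub_self]
  rcases mul_eq_zero.mp h6 with h | h
  · left
    exact sub_eq_zero.mp h
  · right
    exact eq_neg_of_add_eq_zero_left h

end general

end Cfsg.Agent.Helper70.TSP
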