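import Mathlib
import Cfsg.Agent.Lib.Helper14.TSPDefs

set_option autoImplicit false

/-!
TSP server (helper14, S5980), piece (E2): the Gram matrix of a non-degenerate alternating form
on `F²`.
-/

namespace Cfsg.Agent.Helper70.TSP

open Matrix Module Polynomial
open scoped Kronecker

universe u

section general

variable {F : Type u} [Field F]

/-- (E2) the Gram matrix of a non-degenerate alternating form on `F²`. -/
theorem gram_symplectic_two (f₁ : (Fin 2 → F) → (Fin 2 → F) → F)
    (hf₁ : Cfsg.Geo.IsSymplecticForm f₁) :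
    ∃ γ : F, γ ≠ 0 ∧ Cfsg.Geo.gramMatrix f₁ = !![0, γ; -γ, 0] := by
  have hG : ∀ a b, Cfsg.Geo.gramMatrix f₁ a b = f₁ (Pi.single a 1) (Pi.single b 1) :=
    fun a b => rfl
  refine ⟨Cfsg.Geo.gramMatrix f₁ 0 1, ?_, ?_⟩
  · intro h0
    rw [hG] at h0
    have hv : (Pi.single (0 : Fin 2) (1 : F) : Fin 2 → F) ≠ 0 := by
      intro h
      have := congrFun h 0
      simp at this
    obtain ⟨⟨x, hx⟩, -⟩ := hf₁.nondegenerate _ hv
    apply hx
    have hxd : x = x 0 • (Pi.single (0 : Fin 2) (1 : F) : Fin 2 → F) +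
        x 1 • (Pi.single (1 : Fin 2) (1 : F) : Fin 2 → F) := by
      funext i
      fin_cases i <;> simp
    rw [hxd, hf₁.bilinear.add_left, hf₁.bilinear.smul_left, hf₁.bilinear.smul_left,
      hf₁.alternating, hf₁.skew (Pi.single 1 1) (Pi.single 0 1), h0]
    simp
  · ext a b
    fin_cases a <;> fin_cases b
    · show Cfsg.Geo.gramMatrix f₁ 0 0 = 0
      rw [hG]; exact hf₁.alternating _
    · rfl
    · show Cfsg.Geo.gramMatrix f₁ 1 0 = - Cfsg.Geo.gramMatrix f₁ 0 1
      rw [hG, hG]; exact hf₁.skew _ _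
    · show Cfsg.Geo.gramMatrix f₁ 1 1 = 0
      rw [hG]; exact hf₁.alternating _

end general

end Cfsg.Agent.Helper70.TSP
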