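import Mathlib
import Cfsg.Agent.Lib.Helper14.TSPDefs

set_option autoImplicit false

/-!
TSP server (helper14, S5980), piece (E3): an orthogonal basis for a non-degenerate symmetric
form in characteristic `≠ 2`, in matrix form.
-/

namespace Cfsg.Agent.Helper70.TSP

open Matrix Module Polynomial
open scoped Kronecker

universe u

section general

variable {F : Type u} [Field F]

/-- (E3) an orthogonal basis for a non-degenerate symmetric form (char ≠ 2).
Mathlib: `LinearMap.BilinForm.exists_orthogonal_basis`; `f₂ x y = x ⬝ᵥ G *ᵥ y` by bilinearity. -/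
theorem gram_symmetric_diag (h2 : (2 : F) ≠ 0) {b : ℕ} (f₂ : (Fin b → F) → (Fin b → F) → F)
    (hf₂ : Cfsg.Geo.IsSymmetricForm f₂) :
    ∃ (T : GL (Fin b) F) (δ : Fin b → F), (∀ k, δ k ≠ 0) ∧
      T.valᵀ * Cfsg.Geo.gramMatrix f₂ * T.val = Matrix.diagonal δ := by
  classical
  have : Invertible (2 : F) := invertibleOfNonzero h2
  set B : LinearMap.BilinForm F (Fin b → F) :=
    LinearMap.mk₂ F f₂ hf₂.bilinear.add_left
      (fun c m n => by rw [hf₂.bilinear.smul_left, smul_eq_mul])
      hf₂.bilinear.add_right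
      (fun c m n => by rw [hf₂.bilinear.smul_right, smul_eq_mul]) with hB
  have hBapp : ∀ x y, B x y = f₂ x y := fun x y => rfl
  have hsymm : B.IsSymm := LinearMap.BilinForm.isSymm_iff.mpr ⟨fun x y => by
    rw [hBapp, hBapp, RingHom.id_apply]; exact hf₂.symm x y⟩
  obtain ⟨b₀, hb₀⟩ := LinearMap.BilinForm.exists_orthogonal_basis
    (LinearMap.BilinForm.isSymm_iff.mp hsymm)
  have hfr : Module.finrank F (Fin b → F) = b := Module.finrank_fin_fun F
  set v : Basis (Fin b) F (Fin b → F) := b₀.reindex (finCongr hfr) with hv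
  have hvo : ∀ i j, i ≠ j → f₂ (v i) (v j) = 0 := by
    intro i j hij
    have h1 : B (b₀ ((finCongr hfr).symm i)) (b₀ ((finCongr hfr).symm j)) = 0 :=
      hb₀ (i := (finCongr hfr).symm i) (j := (finCongr hfr).symm j)
        (fun h => hij ((finCongr hfr).symm.injective h))
    rw [hv, Basis.reindex_apply, Basis.reindex_apply]
    exact h1
  have hvn : ∀ i, f₂ (v i) (v i) ≠ 0 := by
    intro i h0
    have hne : v i ≠ 0 := v.ne_zero i
    obtain ⟨-, ⟨x, hx⟩⟩ := hf₂.nondegenerate _ hne
    apply hx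
    have hxr : x = ∑ j, v.repr x j • v j := (v.sum_repr x).symm
    have hlin : B (v i) x = ∑ j, v.repr x j • B (v i) (v j) := by
      conv_lhs => rw [hxr]
      rw [map_sum]
      apply Finset.sum_congr rfl
      intro j _
      rw [map_smul]
    rw [← hBapp, hlin]
    apply Finset.sum_eq_zero
    intro j _
    by_cases hij : i = j
    · subst hij
      rw [hBapp, h0, smul_zero]
    · rw [hBapp, hvo i j hij, smul_zero]
  set e : Basis (Fin b) F (Fin b → F) := Pi.basisFun F (Fin b) with he
  refine ⟨⟨e.toMatrix v, v.toMatrix e, Basis.toMatrix_mul_toMatrix_flip e v,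
    Basis.toMatrix_mul_toMatrix_flip v e⟩, fun k => f₂ (v k) (v k), hvn, ?_⟩
  show (e.toMatrix v)ᵀ * Cfsg.Geo.gramMatrix f₂ * e.toMatrix v = _
  have hG : Cfsg.Geo.gramMatrix f₂ = LinearMap.BilinForm.toMatrix e B := by
    ext i j
    rw [LinearMap.BilinForm.toMatrix_apply, hBapp]
    simp only [he, Pi.basisFun_apply]
    rfl
  rw [hG, LinearMap.BilinForm.toMatrix_mul_basis_toMatrix]
  ext i j
  rw [LinearMap.BilinForm.toMatrix_apply, hBapp, Matrix.diagonal_apply]
  by_cases hij : i = j
  · subst hij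
    rw [if_pos rfl]
  · rw [if_neg hij, hvo i j hij]

end general

end Cfsg.Agent.Helper70.TSP
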