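import Mathlib
import Cfsg.Agent.Lib.Helper93.U30

/-!
# U3 (T) common matrix identities for the odd frame (helper70, for helper93's S2334 server)
-/

set_option autoImplicit false

namespace Cfsg.Agent.Helper70.U3

open Matrix Cfsg.Agent.Helper13 Cfsg.Agent.Helper93.U2 Cfsg.Agent.Helper93.U3

section
variable {F : Type*} [Field F] [Fintype F] {q : ℕ}

theorem mul4 {n : ℕ} {α β : Type*} [Fintype α] [Fintype β]
    (X : Matrix (Fin n) α F) (Y : Matrix α (Fin n) F)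
    (X' : Matrix (Fin n) β F) (Y' : Matrix β (Fin n) F) :
    (X * Y) * (X' * Y') = X * ((Y * X') * Y') := by
  simp only [Matrix.mul_assoc]

theorem fr_qp (hF : Fintype.card F = q ^ 2) {n m : ℕ} (fr : FrameO hF n m) :
    cT hF fr.Q * fr.P = 1 := by
  have := congrArg (cT hF) fr.pq
  rwa [cT_mul, cT_cT, cT_one] at this

theorem fr_wp (hF : Fintype.card F = q ^ 2) {n m : ℕ} (fr : FrameO hF n m) :
    cT hF fr.w * fr.P = 0 := by
  have := congrArg (cT hF) fr.pw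
  rwa [cT_mul, cT_cT, cT_zero] at this

theorem fr_wq (hF : Fintype.card F = q ^ 2) {n m : ℕ} (fr : FrameO hF n m) :
    cT hF fr.w * fr.Q = 0 := by
  have := congrArg (cT hF) fr.qw
  rwa [cT_mul, cT_cT, cT_zero] at this

variable (hF : Fintype.card F = q ^ 2) {n m : ℕ} (fr : FrameO hF n m)

theorem pA_A : (fr.P * cT hF fr.Q) * (fr.P * cT hF fr.Q) = fr.P * cT hF fr.Q := by
  rw [mul4, fr_qp, Matrix.one_mul]

theorem pA_A' : (fr.P * cT hF fr.Q) * (fr.Q * cT hF fr.P) = 0 := by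
  rw [mul4, fr.qq, Matrix.zero_mul, Matrix.mul_zero]

theorem pA_B : (fr.P * cT hF fr.Q) * (fr.w * cT hF fr.w) = 0 := by
  rw [mul4, fr.qw, Matrix.zero_mul, Matrix.mul_zero]

theorem pA'_A : (fr.Q * cT hF fr.P) * (fr.P * cT hF fr.Q) = 0 := by
  rw [mul4, fr.pp, Matrix.zero_mul, Matrix.mul_zero]

theorem pA'_A' : (fr.Q * cT hF fr.P) * (fr.Q * cT hF fr.P) = fr.Q * cT hF fr.P := by
  rw [mul4, fr.pq, Matrix.one_mul]

theorem pA'_B : (fr.Q * cT hF fr.P) * (fr.w * cT hF fr.w) = 0 := by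
  rw [mul4, fr.pw, Matrix.zero_mul, Matrix.mul_zero]

theorem pB_A : (fr.w * cT hF fr.w) * (fr.P * cT hF fr.Q) = 0 := by
  rw [mul4, fr_wp, Matrix.zero_mul, Matrix.mul_zero]

theorem pB_A' : (fr.w * cT hF fr.w) * (fr.Q * cT hF fr.P) = 0 := by
  rw [mul4, fr_wq, Matrix.zero_mul, Matrix.mul_zero]

theorem pB_B : (fr.w * cT hF fr.w) * (fr.w * cT hF fr.w) = fr.w * cT hF fr.w := by
  rw [mul4, fr.ww, Matrix.one_mul]

end

end Cfsg.Agent.Helper70.U3
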