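import Mathlib
import Cfsg.Agent.Lib.Helper93.U30
import Cfsg.Agent.Lib.Helper70.U3TCommon

/-!
# U3 (T1) `hMat_unitary` (helper70, for helper93's S2334 server)
-/

set_option autoImplicit false

namespace Cfsg.Agent.Helper70.U3

open Matrix Cfsg.Agent.Helper13 Cfsg.Agent.Helper93.U2 Cfsg.Agent.Helper93.U3

section
variable {F : Type*} [Field F] [Fintype F] {q : ℕ} (hF : Fintype.card F = q ^ 2)

/-- piece T1 -/
theorem hMat_unitary {n m : ℕ} (fr : FrameO hF n m) (t μ : F) (ht : t ≠ 0) (hμ : μ ^ q * μ = 1) :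
    cT hF (hMat hF fr t μ) * hMat hF fr t μ = 1 := by
  have htq : t ^ q ≠ 0 := pow_ne_zero q ht
  have h1q : (1 : F) ^ q = 1 := one_pow q
  -- scalar facts
  have hsub : ∀ a b : F, (a - b) ^ q = a ^ q - b ^ q := fun a b => map_sub (frobQ hF) a b
  have hx : (t - 1) ^ q = t ^ q - 1 := by rw [hsub, h1q]
  have hy : ((t ^ q)⁻¹ - 1) ^ q = t⁻¹ - 1 := by rw [hsub, h1q, inv_pow, frob_frob hF]
  have hz : (μ - 1) ^ q = μ ^ q - 1 := by rw [hsub, h1q]
  have key : cT hF (hMat hF fr t μ) * hMat hF fr t μ =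
      1 + ((t - 1) + (t⁻¹ - 1) + (t⁻¹ - 1) * (t - 1)) • (fr.P * cT hF fr.Q)
        + (((t ^ q)⁻¹ - 1) + (t ^ q - 1) + (t ^ q - 1) * ((t ^ q)⁻¹ - 1)) • (fr.Q * cT hF fr.P)
        + ((μ - 1) + (μ ^ q - 1) + (μ ^ q - 1) * (μ - 1)) • (fr.w * cT hF fr.w) := by
    unfold hMat
    rw [cT_add, cT_add, cT_add, cT_one, cT_smul, cT_smul, cT_smul, cT_mul, cT_mul, cT_mul,
      cT_cT, cT_cT, cT_cT, hx, hy, hz]
    simp only [add_mul, mul_add, one_mul, mul_one, smul_mul_assoc, mul_smul_comm, smul_smul,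
      pA_A, pA_A', pA_B, pA'_A, pA'_A', pA'_B, pB_A, pB_A', pB_B, smul_zero, add_zero]
    module
  rw [key]
  have c1 : (t - 1) + (t⁻¹ - 1) + (t⁻¹ - 1) * (t - 1) = 0 := by
    field_simp
    ring
  have c2 : ((t ^ q)⁻¹ - 1) + (t ^ q - 1) + (t ^ q - 1) * ((t ^ q)⁻¹ - 1) = 0 := by
    field_simp
    ring
  have c3 : (μ - 1) + (μ ^ q - 1) + (μ ^ q - 1) * (μ - 1) = 0 := by
    linear_combination hμ
  rw [c1, c2, c3, zero_smul, zero_smul, zero_smul, add_zero, add_zero, add_zero]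

end

end Cfsg.Agent.Helper70.U3
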