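import Mathlib
import Cfsg.Agent.Lib.Helper93.U30
import Cfsg.Agent.Lib.Helper70.U3TCommon

/-!
# U3 (T2) `hMat_det` (helper70, for helper93's S2334 server)
-/

set_option autoImplicit false

namespace Cfsg.Agent.Helper70.U3

open Matrix Cfsg.Agent.Helper13 Cfsg.Agent.Helper93.U2 Cfsg.Agent.Helper93.U3

section
variable {F : Type*} [Field F] [Fintype F] {q : ℕ} (hF : Fintype.card F = q ^ 2)

/-- `det (1 + c • (X * Y)) = 1 + c` when `Y * X = 1` is `1 × 1`. -/
theorem det_one_add_smul_rank_one {n : ℕ} (X : Matrix (Fin n) (Fin 1) F)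
    (Y : Matrix (Fin 1) (Fin n) F) (hYX : Y * X = 1) (c : F) :
    (1 + c • (X * Y)).det = 1 + c := by
  have h1 : c • (X * Y) = (c • X) * Y := (Matrix.smul_mul c X Y).symm
  rw [h1, Matrix.det_one_add_mul_comm, Matrix.mul_smul, hYX, Matrix.det_fin_one]
  simp

/-- `hMat` factors as a product of three commuting "rank one" factors. -/
theorem hMat_eq_prod {n m : ℕ} (fr : FrameO hF n m) (t μ : F) :
    hMat hF fr t μ = (1 + (t - 1) • (fr.P * cT hF fr.Q)) * (1 + ((t ^ q)⁻¹ - 1) • (fr.Q * cT hF fr.P))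
      * (1 + (μ - 1) • (fr.w * cT hF fr.w)) := by
  unfold hMat
  simp only [add_mul, mul_add, one_mul, mul_one, smul_mul_assoc, mul_smul_comm, smul_smul,
    pA_A', pA_B, pA'_B, smul_zero, add_zero]

/-- piece T2 (m = 1) -/
theorem hMat_det {n : ℕ} (fr : FrameO hF n 1) (t : F) (ht : t ≠ 0) :
    (hMat hF fr t (t ^ q * t⁻¹)).det = 1 := by
  have htq : t ^ q ≠ 0 := pow_ne_zero q ht
  rw [hMat_eq_prod, Matrix.det_mul, Matrix.det_mul,
    det_one_add_smul_rank_one fr.P (cT hF fr.Q) (fr_qp hF fr),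
    det_one_add_smul_rank_one fr.Q (cT hF fr.P) fr.pq,
    det_one_add_smul_rank_one fr.w (cT hF fr.w) fr.ww]
  field_simp
  ring

end

end Cfsg.Agent.Helper70.U3
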