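import Mathlib
import Cfsg.Agent.Lib.Helper93.U30
import Cfsg.Agent.Lib.Helper70.U3TCommon

/-!
# U3 (T3) `hMat_mul_aMatO` (helper70, for helper93's S2334 server)
-/

set_option autoImplicit false

namespace Cfsg.Agent.Helper70.U3

open Matrix Cfsg.Agent.Helper13 Cfsg.Agent.Helper93.U2 Cfsg.Agent.Helper93.U3

section
variable {F : Type*} [Field F] [Fintype F] {q : ℕ} (hF : Fintype.card F = q ^ 2)

/-- `h P = t P` -/
theorem hMat_mul_P {n m : ℕ} (fr : FrameO hF n m) (t μ : F) :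
    hMat hF fr t μ * fr.P = t • fr.P := by
  unfold hMat
  simp only [Matrix.add_mul, Matrix.one_mul, Matrix.smul_mul, Matrix.mul_assoc, fr_qp, fr.pp,
    fr_wp, Matrix.mul_one, Matrix.mul_zero, smul_zero, add_zero]
  module

/-- `P* h = (t^q)⁻¹ P*` -/
theorem cTP_mul_hMat {n m : ℕ} (fr : FrameO hF n m) (t μ : F) :
    cT hF fr.P * hMat hF fr t μ = (t ^ q)⁻¹ • cT hF fr.P := by
  unfold hMat
  simp only [Matrix.mul_add, Matrix.mul_one, Matrix.mul_smul, ← Matrix.mul_assoc, fr.pq, fr.pp,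
    fr.pw, Matrix.one_mul, Matrix.zero_mul, smul_zero, add_zero]
  module

/-- piece T3 -/
theorem hMat_mul_aMatO {n m : ℕ} (fr : FrameO hF n m) (t μ ε : F) (ht : t ≠ 0)
    (H : Matrix (Fin m) (Fin m) F) :
    hMat hF fr t μ * aMatO hF fr ε H = aMatO hF fr ε ((t * t ^ q) • H) * hMat hF fr t μ := by
  have htq : t ^ q ≠ 0 := pow_ne_zero q ht
  have e1 : hMat hF fr t μ * aMatO hF fr ε H =
      hMat hF fr t μ + (ε * t) • (fr.P * H * cT hF fr.P) := by
    unfold aMatO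
    rw [mul_add, mul_one, mul_smul_comm, ← Matrix.mul_assoc, ← Matrix.mul_assoc, hMat_mul_P,
      Matrix.smul_mul, Matrix.smul_mul, smul_smul]
  have e2 : aMatO hF fr ε ((t * t ^ q) • H) * hMat hF fr t μ =
      hMat hF fr t μ + (ε * t) • (fr.P * H * cT hF fr.P) := by
    unfold aMatO
    rw [add_mul, one_mul, smul_mul_assoc, Matrix.mul_assoc (fr.P * ((t * t ^ q) • H)),
      cTP_mul_hMat, Matrix.mul_smul, Matrix.mul_smul, Matrix.smul_mul, smul_smul, smul_smul]
    congr 2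
    field_simp
  rw [e1, e2]

end

end Cfsg.Agent.Helper70.U3
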