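import Mathlib
import Cfsg.Prelude.Def_OddOrderLocal

/-!
BG157 piece (Z) for helper2's lemma server (S1383): Omega_1 of the cyclic centre of a nontrivial
p-group `P` is a subgroup of order `p` normalized by every subgroup normalizing `P`.
-/

set_option autoImplicit false

namespace Cfsg.Agent.Helper70.BG157

open Subgroup Cfsg

variable {G : Type*} [Group G] [Finite G]

/-- the `p`-torsion of `P ⊓ C(P)` as a subgroup of `G`. -/
def h70Omega (p : ℕ) (P : Subgroup G) : Subgroup G where
  carrier := {z | z ∈ P ∧ z ∈ centralizer (P : Set G) ∧ z ^ p = 1}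
  one_mem' := ⟨P.one_mem, (centralizer (P : Set G)).one_mem, one_pow _⟩
  mul_mem' := by
    rintro a b ⟨haP, haC, hap⟩ ⟨hbP, hbC, hbp⟩
    refine ⟨P.mul_mem haP hbP, (centralizer (P : Set G)).mul_mem haC hbC, ?_⟩
    have hcomm : Commute a b := by
      have := (mem_centralizer_iff.mp hbC) a haP
      exact this
    rw [hcomm.mul_pow, hap, hbp, one_mul]
  inv_mem' := by
    rintro a ⟨haP, haC, hap⟩
    exact ⟨P.inv_mem haP, (centralizer (P : Set G)).inv_mem haC, by rw [inv_pow, hap, inv_one]⟩

omit [Finite G] in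
theorem h70_mem_Omega {p : ℕ} {P : Subgroup G} {z : G} :
    z ∈ h70Omega p P ↔ z ∈ P ∧ z ∈ centralizer (P : Set G) ∧ z ^ p = 1 := Iff.rfl

omit [Finite G] in
theorem h70_conj_mem {p : ℕ} {P : Subgroup G} {k z : G} (hk : k ∈ normalizer (P : Set G))
    (hz : z ∈ h70Omega p P) : k * z * k⁻¹ ∈ h70Omega p P := by
  obtain ⟨hzP, hzC, hzp⟩ := hz
  refine ⟨(mem_normalizer_iff.mp hk z).mp hzP, ?_, ?_⟩
  · rw [mem_centralizer_iff]
    intro h hh
    have hh' : k⁻¹ * h * k ∈ P := by
      have := (mem_normalizer_iff.mp (inv_mem hk) h).mp hh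
      simpa using this
    have hc := (mem_centralizer_iff.mp hzC) (k⁻¹ * h * k) hh'
    -- hc : k⁻¹ * h * k * z = z * (k⁻¹ * h * k)
    calc h * (k * z * k⁻¹) = k * ((k⁻¹ * h * k) * z) * k⁻¹ := by group
      _ = k * (z * (k⁻¹ * h * k)) * k⁻¹ := by rw [hc]
      _ = k * z * k⁻¹ * h := by group
  · rw [conj_pow, hzp, mul_one, mul_inv_cancel]

theorem exists_omega_one {p : ℕ} [Fact p.Prime] (P K : Subgroup G) (hP : IsPGroup p P) (hP1 : P ≠ ⊥)
    (hKP : K ≤ normalizer (P : Set G)) (hZc : IsCyclic ↥(P ⊓ centralizer (P : Set G))) :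
    ∃ Z : Subgroup G, Z ≤ P ⊓ centralizer (P : Set G) ∧ Nat.card Z = p ∧ K ≤ normalizer (Z : Set G) := by
  have hpp : p.Prime := Fact.out
  set ZP : Subgroup G := P ⊓ centralizer (P : Set G) with hZP
  have hle : h70Omega p P ≤ ZP := fun z hz => ⟨hz.1, hz.2.1⟩
  refine ⟨h70Omega p P, hle, ?_, ?_⟩
  · -- cardinality
    -- (a) ZP is a nontrivial p-group
    have hZPp : IsPGroup p ZP := hP.to_le inf_le_left
    have hZPne : ZP ≠ ⊥ := by
      have : Nontrivial ↥P := (Subgroup.nontrivial_iff_ne_bot P).mpr hP1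
      have := hP.center_nontrivial
      obtain ⟨z, hz⟩ := exists_ne (1 : Subgroup.center ↥P)
      intro hbot
      have hzG : ((z : ↥P) : G) ∈ ZP := by
        refine ⟨(z : ↥P).2, ?_⟩
        show ((z : ↥P) : G) ∈ centralizer (P : Set G)
        rw [mem_centralizer_iff]
        intro h hh
        have := (Subgroup.mem_center_iff.mp z.2) ⟨h, hh⟩
        exact congrArg Subtype.val this
      rw [hbot, Subgroup.mem_bot] at hzG
      apply hz
      ext
      simpa using hzG
    obtain ⟨n, hn⟩ := hZPp.exists_card_eq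
    have hn0 : n ≠ 0 := by
      intro h0
      rw [h0, pow_zero] at hn
      exact hZPne ((Subgroup.card_eq_one).mp hn)
    have hdvd : p ∣ Nat.card ZP := by
      rw [hn]; exact dvd_pow_self p hn0
    obtain ⟨w, hw⟩ := exists_prime_orderOf_dvd_card' p hdvd
    -- w : ZP of order p
    have hwZ : ((w : ZP) : G) ∈ h70Omega p P := by
      refine ⟨w.2.1, w.2.2, ?_⟩
      have : w ^ p = 1 := by rw [← hw]; exact pow_orderOf_eq_one w
      have := congrArg Subtype.val this
      simpa using this
    have hw1 : ((w : ZP) : G) ≠ 1 := by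
      intro h1
      have : w = 1 := by ext; simpa using h1
      rw [this, orderOf_one] at hw
      exact hpp.one_lt.ne hw
    -- (b) the Omega subgroup is cyclic
    have : IsCyclic ↥((h70Omega p P).subgroupOf ZP) := inferInstance
    have hcyc : IsCyclic ↥(h70Omega p P) :=
      isCyclic_of_surjective (Subgroup.subgroupOfEquivOfLe hle).toMonoidHom
        (Subgroup.subgroupOfEquivOfLe hle).surjective
    obtain ⟨g, hg⟩ := hcyc.exists_generator
    have hcard : Nat.card ↥(h70Omega p P) = orderOf g :=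
      (orderOf_eq_card_of_forall_mem_zpowers hg).symm
    have hgp : g ^ p = 1 := by
      ext
      simpa using g.2.2.2
    have hod : orderOf g ∣ p := orderOf_dvd_of_pow_eq_one hgp
    rcases (Nat.dvd_prime hpp).mp hod with h1 | h1
    · -- trivial group: contradiction with w
      exfalso
      have hc1 : Nat.card ↥(h70Omega p P) = 1 := by rw [hcard, h1]
      have hbot : h70Omega p P = ⊥ := (Subgroup.card_eq_one).mp hc1
      rw [hbot, Subgroup.mem_bot] at hwZ
      exact hw1 hwZ
    · rw [hcard, h1]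
  · intro k hk
    have hkN := hKP hk
    rw [mem_normalizer_iff]
    intro z
    constructor
    · intro hz
      exact h70_conj_mem hkN hz
    · intro hz
      have := h70_conj_mem (inv_mem hkN) hz
      have e : k⁻¹ * (k * z * k⁻¹) * k⁻¹⁻¹ = z := by group
      rwa [e] at this

end Cfsg.Agent.Helper70.BG157
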