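import Mathlib
import Cfsg.Agent.Lib.Helper98.UT0

/-! UT server (helper98, S2283), piece (D3): coordinate matrices of `x(a,β)`, `x⁻(a,β)` and the diagonal element
(helper70). -/

set_option autoImplicit false
set_option quotPrecheck false
set_option linter.unusedSectionVars false
set_option linter.unusedVariables false

namespace Cfsg.Agent.Helper70.UT

open Matrix Cfsg Cfsg.Agent.Helper13 Cfsg.Agent.Helper87.PsuA Cfsg.Agent.Helper87.PsuB0
  Cfsg.Agent.Helper98.UT

variable {F : Type*} [Field F] [Fintype F] {q : ℕ}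

local notation "G" => ↥(Cfsg.SU 3 F q)
local notation "H" => Cfsg.hermForm 3 F q

variable (hF : Fintype.card F = q ^ 2) {b : Fin 3 → Fin 3 → F}

/-- entries of `cm` (private copy of (D2d)). -/
theorem h70_cm_apply (g : G) (i j : Fin 3) : cm b g i j = co q b (actv g (b j)) i := by
  have h : co q b (actv g (b j)) i = (Qm q b *ᵥ (actv g (b j))) i := by rw [Qm_mulVec]
  rw [h]
  unfold cm actv
  rw [Matrix.mul_assoc]
  rfl

include hF in
theorem h70_w_facts (hb : HB q b) (k : Fin 3) (hk : k ≠ 1) (a β : F)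
    (hab : β + β ^ q + a * a ^ q = 0) :
    H (b k) ((-(a ^ q)) • b 1) = 0 ∧ β + β ^ q + H ((-(a ^ q)) • b 1) ((-(a ^ q)) • b 1) = 0 := by
  constructor
  · rw [hermForm_smul_right, hb k 1, if_neg, mul_zero]
    revert hk; revert k; decide
  · rw [hermForm_smul_left, hermForm_smul_right, hb 1 1, if_pos (by decide), frob_neg hF,
      frob_frob hF]
    linear_combination hab

include hF in
/-- (D3a) matrix of `x(a,β)`. -/
theorem cm_yEl (hb : HB q b) (a β : F) (hab : β + β ^ q + a * a ^ q = 0) :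
    cm b (yEl hF b a β) = !![1, a, β; 0, 1, -(a ^ q); 0, 0, 1] := by
  obtain ⟨huw, ha⟩ := h70_w_facts hF hb 0 (by decide) a β hab
  ext i j
  rw [h70_cm_apply]
  unfold yEl
  rw [co_eich_b hF hb 0 (by decide) _ β huw ha j i]
  simp only [co_smul, co_b hb]
  fin_cases i <;> fin_cases j <;> simp [frob_neg hF, frob_frob hF, frob_zero hF]

include hF in
/-- (D3b) matrix of `x⁻(a,β)`. -/
theorem cm_lEl (hb : HB q b) (a β : F) (hab : β + β ^ q + a * a ^ q = 0) :
    cm b (lEl hF b a β) = !![1, 0, 0; -(a ^ q), 1, 0; β, a, 1] := by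
  obtain ⟨huw, ha⟩ := h70_w_facts hF hb 2 (by decide) a β hab
  ext i j
  rw [h70_cm_apply]
  unfold lEl
  rw [co_eich_b hF hb 2 (by decide) _ β huw ha j i]
  simp only [co_smul, co_b hb]
  fin_cases i <;> fin_cases j <;> simp [frob_neg hF, frob_frob hF, frob_zero hF]

/-- (D3c), core: matrix of the diagonal element, from the conclusion of (D1). -/
theorem h70_cm_dEl_core (hb : HB q b) (d0 d1 d2 : F)
    (hact : actv (dEl hF b d0 d1 d2) (b 0) = d0 • b 0 ∧ actv (dEl hF b d0 d1 d2) (b 1) = d1 • b 1 ∧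
      actv (dEl hF b d0 d1 d2) (b 2) = d2 • b 2) :
    cm b (dEl hF b d0 d1 d2) = !![d0, 0, 0; 0, d1, 0; 0, 0, d2] := by
  obtain ⟨h0, h1, h2⟩ := hact
  ext i j
  rw [h70_cm_apply]
  fin_cases j
  · change co q b (actv (dEl hF b d0 d1 d2) (b 0)) i = _
    rw [h0, co_smul, co_b hb]
    fin_cases i <;> simp
  · change co q b (actv (dEl hF b d0 d1 d2) (b 1)) i = _
    rw [h1, co_smul, co_b hb]
    fin_cases i <;> simp
  · change co q b (actv (dEl hF b d0 d1 d2) (b 2)) i = _
    rw [h2, co_smul, co_b hb]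
    fin_cases i <;> simp

end Cfsg.Agent.Helper70.UT
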