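import Mathlib
import Cfsg.Agent.Lib.Helper62.SUO0

/-! SUO server (helper62, S2282): cores of (M5) `S_top` and (M7) `QQ_full`, with the earlier pieces
(A5, A6, M1-M4, M6) as hypotheses (helper70). -/

set_option autoImplicit false
set_option linter.unusedSectionVars false
set_option linter.unusedVariables false
set_option quotPrecheck false

namespace Cfsg.Agent.Helper70.SUO

open Matrix Cfsg Cfsg.Agent.Helper13 Cfsg.Agent.Helper87.PsuA Cfsg.Agent.Helper62.SUO

section M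
variable {F : Type*} [Field F] [Fintype F] {q n : ℕ} (hF : Fintype.card F = q ^ 2)
  {Hs : Subgroup ↥(Cfsg.SU n F q)} {u l : ↥(Cfsg.SU n F q)} {e0 e1 p : Fin n → F} {c γ : F}

local notation "V" => Fin n → F
local notation "G" => ↥(Cfsg.SU n F q)
local notation "H" => Cfsg.hermForm n F q

include hF

/-- (M5), core. -/
theorem h70_S_top_core (hyp : Hyp hF Hs u l e0 e1 p c γ)
    (hA5 : ∃ S : AddSubgroup V, (S : Set V) = QQ hF Hs e0)
    (hM1 : ∀ {a : F}, a • e1 ∈ QQ hF Hs e0 → a - a ^ q ∈ MM hF Hs e0)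
    (hM2 : ∀ {m : F}, m ∈ MM hF Hs e0 → m • e1 ∈ QQ hF Hs e0)
    (hM3 : ∀ {a m : F}, a • e1 ∈ QQ hF Hs e0 → m ∈ MM hF Hs e0 →
      (m * a * γ) • p ∈ QQ hF Hs e0)
    (hM4 : ∀ {a m : F}, a • p ∈ QQ hF Hs e0 → m ∈ MM hF Hs e0 →
      (m * a * γ ^ q) • e1 ∈ QQ hF Hs e0) :
    ∀ a : F, a • e1 ∈ QQ hF Hs e0 := by
  obtain ⟨S, hS⟩ := hA5
  have hmem : ∀ w : V, w ∈ S ↔ w ∈ QQ hF Hs e0 := fun w => by
    rw [← hS]; exact Iff.rfl
  let T : AddSubgroup F :=
    { carrier := {a | a • e1 ∈ S}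
      add_mem' := by
        intro a b ha hb
        simp only [Set.mem_setOf_eq] at ha hb ⊢
        rw [add_smul]; exact S.add_mem ha hb
      zero_mem' := by
        simp only [Set.mem_setOf_eq]
        rw [zero_smul]; exact S.zero_mem
      neg_mem' := by
        intro a ha
        simp only [Set.mem_setOf_eq] at ha ⊢
        rw [neg_smul]; exact S.neg_mem ha }
  have hT : ∀ a : F, a ∈ T ↔ a • e1 ∈ QQ hF Hs e0 := fun a => by
    rw [← hmem]; exact Iff.rfl
  have hκM : c - c ^ q ∈ MM hF Hs e0 := hM1 hyp.hc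
  have hcT : c ∈ T := (hT c).2 hyp.hc
  have hκT : c - c ^ q ∈ T := (hT _).2 (hM2 hκM)
  have hstab : ∀ a ∈ T, (c - c ^ q) ^ 2 * (γ * γ ^ q) * a ∈ T := by
    intro a ha
    rw [hT] at ha ⊢
    have h1 := hM3 ha hκM
    have h2 := hM4 h1 hκM
    have e : (c - c ^ q) * ((c - c ^ q) * a * γ) * γ ^ q = (c - c ^ q) ^ 2 * (γ * γ ^ q) * a := by
      ring
    rwa [e] at h2
  have htop := hyp.gen T hcT hκT hstab
  intro a
  rw [← hT, htop]
  exact AddSubgroup.mem_top a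

/-- (M7), core. -/
theorem h70_QQ_full_core (hyp : Hyp hF Hs u l e0 e1 p c γ)
    (hA5 : ∃ S : AddSubgroup V, (S : Set V) = QQ hF Hs e0)
    (hA6 : ∀ {w : V}, w ∈ QQ hF Hs e0 → ∀ {h : G}, h ∈ Hs → actv h e0 = e0 →
      actv h w ∈ QQ hF Hs e0)
    (hM6 : ∀ a : F, a • p ∈ QQ hF Hs e0) :
    ∀ w : V, H e0 w = 0 → w ∈ QQ hF Hs e0 := by
  obtain ⟨S, hS⟩ := hA5
  have hmem : ∀ w : V, w ∈ S ↔ w ∈ QQ hF Hs e0 := fun w => by
    rw [← hS]; exact Iff.rfl
  let W : Submodule F V :=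
    { carrier := {w | ∀ a : F, a • w ∈ S}
      add_mem' := by
        intro x y hx hy a
        rw [smul_add]; exact S.add_mem (hx a) (hy a)
      zero_mem' := by
        intro a
        rw [smul_zero]; exact S.zero_mem
      smul_mem' := by
        intro r x hx a
        rw [smul_smul]; exact hx (a * r) }
  have hW : ∀ w : V, w ∈ W ↔ ∀ a : F, a • w ∈ QQ hF Hs e0 := fun w => by
    constructor
    · intro h a; exact (hmem _).1 (h a)
    · intro h a; exact (hmem _).2 (h a)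
  have hpW : p ∈ W := (hW p).2 hM6
  have hstab : ∀ x ∈ W, actv u x ∈ W := by
    intro x hx
    rw [hW] at hx ⊢
    intro a
    rw [← actv_smul]
    exact hA6 (hx a) hyp.hu hyp.ue0
  intro w hw
  have h1 := hyp.cyc W hpW hstab w hw
  have h2 := (hW w).1 h1 1
  rwa [one_smul] at h2

end M

end Cfsg.Agent.Helper70.SUO
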