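import Mathlib
import Cfsg.Agent.Lib.Helper62.SLN0
import Cfsg.Agent.Lib.Helper20.U2Rd
import Cfsg.Agent.Lib.Helper44.U2R2

/-!
# SLN project (S2332), piece ORB, core (helper70): the orbit-sum argument, with the pieces
S8 (`finrank_fix_Q`), S1 (`map_wt_lEl`) and G8 (`qEl_add`) as hypotheses.
-/

set_option autoImplicit false

namespace Cfsg.Agent.Helper70.SLN

open Matrix Module Cfsg.Agent.Helper93.U2 Cfsg.Agent.Helper62.SLN

section SLN

variable {F : Type*} [Field F] [Fintype F] {κ : Type} [Fintype κ] [DecidableEq κ]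
  {V : Type*} [AddCommGroup V] [Module ℂ V] [FiniteDimensional ℂ V]
  (pr : Pairing (κ → F))
  (ρ : Representation ℂ (SpecialLinearGroup (Unit ⊕ κ) F) V)

omit [Fintype F] in
theorem h70_tvEl_mulVec (j : κ) (t w : κ → F) (hwj : w j = 0) :
    (tvEl j t).1 *ᵥ w = w + (t ⬝ᵥ w) • Pi.single j 1 := by
  rw [tvEl_val, Matrix.add_mulVec, Matrix.one_mulVec]
  congr 1
  ext i
  simp only [Matrix.mulVec, dotProduct, vecMulVec_apply, Pi.smul_apply, smul_eq_mul]
  rw [Finset.sum_mul]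
  apply Finset.sum_congr rfl
  intro k _
  by_cases hk : k = j
  · subst hk
    rw [hwj]; simp
  · rw [Function.update_of_ne hk]; ring

omit [FiniteDimensional ℂ V] in
theorem h70_orbit_vec (j : κ)
    (hS1 : ∀ (A : SpecialLinearGroup κ F) (w : κ → F) (v : V), v ∈ wt pr ρ w →
      ρ (lEl A) v ∈ wt pr ρ (A.1 *ᵥ w))
    (hG8 : ∀ t t' : κ → F, qEl (F := F) j (t + t') = qEl j t * qEl j t')
    (hq0 : qEl (F := F) j 0 = 1)
    (w : κ → F) (hwj : w j = 0) (hw0 : w ≠ 0)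
    (hw : ∀ t : κ → F, t ⬝ᵥ w = 0 → ∀ v ∈ wt pr ρ w, ρ (qEl j t) v = v)
    (v : V) (hv : v ∈ wt pr ρ w) :
    ∃ f : V, f ∈ fixSp ρ (Qset (F := F) j) ∧ eOp pr uEl ρ w f = v ∧
      ∀ μ' : κ → F, (∀ s : F, μ' ≠ w + s • Pi.single j 1) → eOp pr uEl ρ μ' f = 0 := by
  classical
  obtain ⟨tw, htw⟩ : ∃ tw : κ → F, tw ⬝ᵥ w = 1 := by
    obtain ⟨i, hi⟩ : ∃ i, w i ≠ 0 := by
      by_contra h
      push Not at h
      exact hw0 (funext h)
    refine ⟨(w i)⁻¹ • Pi.single i 1, ?_⟩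
    rw [smul_dotProduct, single_dotProduct, smul_eq_mul, one_mul, inv_mul_cancel₀ hi]
  obtain ⟨g, hg⟩ : ∃ g : F → V, g = fun s => ρ (qEl j (s • tw)) v := ⟨_, rfl⟩
  have hgs : ∀ s, g s = ρ (qEl j (s • tw)) v := fun s => by rw [hg]
  have hgmem : ∀ s, g s ∈ wt pr ρ (w + s • Pi.single j 1) := by
    intro s
    have h := hS1 (tvEl j (s • tw)) w v hv
    rw [h70_tvEl_mulVec j (s • tw) w hwj, smul_dotProduct, htw, smul_eq_mul, mul_one] at h
    rw [hgs]
    exact h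
  have hsne : ∀ s : F, s ≠ 0 → w ≠ w + s • Pi.single j 1 := by
    intro s hs h
    have h1 := congrFun h j
    simp only [Pi.add_apply, Pi.smul_apply, Pi.single_eq_same, smul_eq_mul, mul_one, hwj,
      zero_add] at h1
    exact hs h1.symm
  refine ⟨∑ s, g s, ?_, ?_, ?_⟩
  · rintro _ ⟨t, rfl⟩
    rw [map_sum]
    have h1 : ∀ s, ρ (qEl j t) (g s) = g (s + t ⬝ᵥ w) := by
      intro s
      rw [hgs, hgs]
      have h2 : t + s • tw = (s + t ⬝ᵥ w) • tw + (t - (t ⬝ᵥ w) • tw) := by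
        rw [add_smul]; abel
      have h3 : (t - (t ⬝ᵥ w) • tw) ⬝ᵥ w = 0 := by
        rw [sub_dotProduct, smul_dotProduct, htw, smul_eq_mul, mul_one]
        exact sub_self _
      have h4 : ρ (qEl j t) (ρ (qEl j (s • tw)) v) = ρ (qEl j (t + s • tw)) v := by
        rw [hG8, map_mul]; rfl
      have h5 : ρ (qEl j ((s + t ⬝ᵥ w) • tw + (t - (t ⬝ᵥ w) • tw))) v =
          ρ (qEl j ((s + t ⬝ᵥ w) • tw)) (ρ (qEl j (t - (t ⬝ᵥ w) • tw)) v) := by
        rw [hG8, map_mul]; rfl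
      rw [h4, h2, h5, hw _ h3 v hv]
    rw [Finset.sum_congr rfl (fun s _ => h1 s)]
    exact Fintype.sum_equiv (Equiv.addRight (t ⬝ᵥ w)) _ _ (fun s => rfl)
  · rw [map_sum]
    have h1 : ∀ s, eOp pr uEl ρ w (g s) = if s = 0 then v else 0 := by
      intro s
      by_cases hs : s = 0
      · subst hs
        rw [if_pos rfl, hgs, zero_smul, hq0, map_one]
        exact Cfsg.Agent.Helper20.U2.eOp_self pr uEl ρ w v hv
      · rw [if_neg hs]
        exact Cfsg.Agent.Helper20.U2.eOp_other pr uEl ρ w _ (hsne s hs) (g s) (hgmem s)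
    rw [Finset.sum_congr rfl (fun s _ => h1 s), Finset.sum_ite_eq' Finset.univ (0 : F)]
    simp
  · intro μ' hμ'
    rw [map_sum]
    apply Finset.sum_eq_zero
    intro s _
    exact Cfsg.Agent.Helper20.U2.eOp_other pr uEl ρ μ' _ (hμ' s) (g s) (hgmem s)

theorem h70_orb_core (j : κ)
    (hS8 : finrank ℂ (fixSp ρ (Qset (F := F) j)) =
      finrank ℂ (wt pr ρ 0) + (Fintype.card F - 1))
    (hS1 : ∀ (A : SpecialLinearGroup κ F) (w : κ → F) (v : V), v ∈ wt pr ρ w →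
      ρ (lEl A) v ∈ wt pr ρ (A.1 *ᵥ w))
    (hG8 : ∀ t t' : κ → F, qEl (F := F) j (t + t') = qEl j t * qEl j t')
    (hd1 : ∀ w : κ → F, w ≠ 0 → finrank ℂ (wt pr ρ w) = 1)
    (h1a : ∀ a : F, a ≠ 0 → ∀ t : κ → F, ∀ v ∈ wt pr ρ (a • Pi.single j 1), ρ (qEl j t) v = v)
    (𝒲 : Finset (κ → F)) (h𝒲0 : ∀ w ∈ 𝒲, w j = 0 ∧ w ≠ 0)
    (h𝒲 : ∀ w ∈ 𝒲, ∀ t : κ → F, t ⬝ᵥ w = 0 → ∀ v ∈ wt pr ρ w, ρ (qEl j t) v = v) :
    finrank ℂ (fixSp ρ (Qset (F := F) j) ⊓ wt pr ρ 0 : Submodule ℂ V) + 𝒲.card ≤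
      finrank ℂ (wt pr ρ 0) := by
  classical
  have hq0 : qEl (F := F) j 0 = 1 := by
    have h := hG8 0 0
    rw [add_zero] at h
    exact mul_left_cancel (a := qEl (F := F) j 0) (by rw [mul_one]; exact h.symm)
  have hne : ∀ w : κ → F, w ≠ 0 → ∃ v ∈ wt pr ρ w, v ≠ 0 := by
    intro w hw
    have h1 : 0 < finrank ℂ (wt pr ρ w) := by rw [hd1 w hw]; exact one_pos
    obtain ⟨x, hx⟩ := Module.finrank_pos_iff_exists_ne_zero.mp h1
    exact ⟨x.1, x.2, fun h => hx (Subtype.ext h)⟩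
  -- the index type and the weights
  obtain ⟨μ, hμ⟩ : ∃ μ : ({a : F // a ≠ 0} ⊕ {w : κ → F // w ∈ 𝒲}) → (κ → F),
      μ = Sum.elim (fun a => a.1 • Pi.single j 1) (fun w => w.1) := ⟨_, rfl⟩
  have hμl : ∀ a : {a : F // a ≠ 0}, μ (Sum.inl a) = a.1 • Pi.single j 1 := fun a => by rw [hμ]; rfl
  have hμr : ∀ w : {w : κ → F // w ∈ 𝒲}, μ (Sum.inr w) = w.1 := fun w => by rw [hμ]; rfl
  have hsj : ∀ a : F, (a • (Pi.single j 1 : κ → F)) j = a := by
    intro a
    simp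
  have hμ0 : ∀ i, μ i ≠ 0 := by
    rintro (a | w) h
    · rw [hμl] at h
      have := congrFun h j
      rw [hsj] at this
      exact a.2 this
    · rw [hμr] at h
      exact (h𝒲0 w.1 w.2).2 h
  have hμinj : Function.Injective μ := by
    rintro (a | w) (a' | w') h
    · rw [hμl, hμl] at h
      have := congrFun h j
      rw [hsj, hsj] at this
      rw [Subtype.ext this]
    · rw [hμl, hμr] at h
      have := congrFun h j
      rw [hsj, (h𝒲0 w'.1 w'.2).1] at this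
      exact absurd this a.2
    · rw [hμl, hμr] at h
      have := congrFun h j
      rw [hsj, (h𝒲0 w.1 w.2).1] at this
      exact absurd this.symm a'.2
    · rw [hμr, hμr] at h
      rw [Subtype.ext h]
  -- the vectors
  have hex : ∀ i, ∃ y z : V, y ∈ fixSp ρ (Qset (F := F) j) ∧ z ∈ wt pr ρ (μ i) ∧ z ≠ 0 ∧
      ∀ i', eOp pr uEl ρ (μ i') y = if i' = i then z else 0 := by
    rintro (a | w)
    · obtain ⟨z, hz, hz0⟩ := hne (μ (Sum.inl a)) (hμ0 _)
      refine ⟨z, z, ?_, hz, hz0, ?_⟩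
      · rintro _ ⟨t, rfl⟩
        rw [hμl] at hz
        exact h1a a.1 a.2 t z hz
      · intro i'
        by_cases hi : i' = Sum.inl a
        · rw [if_pos hi, hi]
          exact Cfsg.Agent.Helper20.U2.eOp_self pr uEl ρ _ z hz
        · rw [if_neg hi]
          exact Cfsg.Agent.Helper20.U2.eOp_other pr uEl ρ _ _ (fun h => hi (hμinj h)) z hz
    · obtain ⟨z, hz, hz0⟩ := hne (μ (Sum.inr w)) (hμ0 _)
      rw [hμr] at hz
      obtain ⟨hwj, hw0⟩ := h𝒲0 w.1 w.2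
      obtain ⟨f, hf1, hf2, hf3⟩ := h70_orbit_vec pr ρ j hS1 hG8 hq0 w.1 hwj hw0 (h𝒲 w.1 w.2) z hz
      refine ⟨f, z, hf1, by rw [hμr]; exact hz, hz0, ?_⟩
      intro i'
      by_cases hi : i' = Sum.inr w
      · rw [if_pos hi, hi, hμr]
        exact hf2
      · rw [if_neg hi]
        apply hf3
        intro s hs
        rcases i' with a | w'
        · rw [hμl] at hs
          have h1 := congrFun hs j
          simp only [Pi.add_apply, hsj, hwj, zero_add] at h1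
          rw [h1] at hs
          exact hw0 (by simpa using hs.symm)
        · rw [hμr] at hs
          have h1 := congrFun hs j
          simp only [Pi.add_apply, hsj, hwj, (h𝒲0 w'.1 w'.2).1, zero_add] at h1
          rw [← h1, zero_smul, add_zero] at hs
          exact hi (by rw [Subtype.ext hs])
  choose y z hy hz hz0 hyz using hex
  -- the projection
  obtain ⟨T, hT⟩ : ∃ T : V →ₗ[ℂ] V, T = ∑ i, eOp pr uEl ρ (μ i) := ⟨_, rfl⟩
  have hTy : ∀ i, T (y i) = z i := by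
    intro i
    rw [hT, LinearMap.sum_apply, Finset.sum_congr rfl (fun i' _ => hyz i i'),
      Finset.sum_ite_eq' Finset.univ i]
    simp
  have hTA : ∀ v ∈ wt pr ρ 0, T v = 0 := by
    intro v hv
    rw [hT, LinearMap.sum_apply]
    apply Finset.sum_eq_zero
    intro i _
    exact Cfsg.Agent.Helper20.U2.eOp_other pr uEl ρ _ _ (hμ0 i) v hv
  obtain ⟨X, hX⟩ : ∃ X : Submodule ℂ V, X = fixSp ρ (Qset (F := F) j) := ⟨_, rfl⟩
  rw [← hX] at hS8 hy ⊢
  obtain ⟨T', hT'⟩ : ∃ T' : ↥X →ₗ[ℂ] V, T' = T ∘ₗ X.subtype := ⟨_, rfl⟩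
  -- rank
  have hli : LinearIndependent ℂ z := by
    have hind : iSupIndep ((fun a : κ → F => wsp pr uEl ρ a) ∘ μ) :=
      (Cfsg.Agent.Helper44.U2.h44_wsp_iSupIndep pr uEl ρ).comp hμinj
    exact hind.linearIndependent _ (fun i => hz i) hz0
  have hzr : ∀ i, z i ∈ LinearMap.range T' := by
    intro i
    refine ⟨⟨y i, hy i⟩, ?_⟩
    rw [hT']
    exact hTy i
  have hli' : LinearIndependent ℂ (fun i => (⟨z i, hzr i⟩ : ↥(LinearMap.range T'))) := by
    apply LinearIndependent.of_comp (LinearMap.range T').subtype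
    exact hli
  have hrank : Fintype.card ({a : F // a ≠ 0} ⊕ {w : κ → F // w ∈ 𝒲}) ≤
      finrank ℂ ↥(LinearMap.range T') := hli'.fintype_card_le_finrank
  have hcard : Fintype.card ({a : F // a ≠ 0} ⊕ {w : κ → F // w ∈ 𝒲}) =
      (Fintype.card F - 1) + 𝒲.card := by
    rw [Fintype.card_sum, Fintype.card_coe, Fintype.card_subtype_compl, Fintype.card_subtype_eq]
  -- nullity
  have hker : Submodule.comap X.subtype (X ⊓ wt pr ρ 0) ≤ LinearMap.ker T' := by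
    intro x hx
    rw [LinearMap.mem_ker, hT']
    exact hTA _ hx.2
  have hfr : finrank ℂ ↥(Submodule.comap X.subtype (X ⊓ wt pr ρ 0)) =
      finrank ℂ ↥(X ⊓ wt pr ρ 0 : Submodule ℂ V) :=
    LinearEquiv.finrank_eq (Submodule.comapSubtypeEquivOfLe (inf_le_left))
  have hnull : finrank ℂ ↥(X ⊓ wt pr ρ 0 : Submodule ℂ V) ≤ finrank ℂ ↥(LinearMap.ker T') := by
    rw [← hfr]
    exact Submodule.finrank_mono hker
  have hrn := LinearMap.finrank_range_add_finrank_ker T'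
  omega

end SLN

end Cfsg.Agent.Helper70.SLN
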