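import Mathlib
import Cfsg.Agent.Lib.Helper31.SCHDefs

set_option autoImplicit false

/-!
SCH server (helper31, S4394), piece (P3): `P / Z(P)` has exponent `p`.
-/

namespace Cfsg.Agent.Helper70.SCH
open Cfsg Cfsg.Agent.Helper31.SCH

section P
variable {P : Type*} [Group P] [Finite P] {p : ℕ} [Fact p.Prime]

/-- (P3) `P / Z(P)` has exponent `p`. -/
theorem pow_mem_center (hP : IsPGroup p P) (α : MulAut P) (h : SA p α)
    (hfix : ∀ x : P, α x = x ↔ x ∈ Subgroup.center P)
    (hcc : ∀ x y : P, cmt x y ∈ Subgroup.center P) (hna : ∃ a b : P, a * b ≠ b * a) (x : P) :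
    x ^ p ∈ Subgroup.center P := by
  classical
  have hcomm : ∀ a b : P ⧸ Subgroup.center P, a * b = b * a := by
    intro a b
    induction a using QuotientGroup.induction_on with
    | _ x =>
      induction b using QuotientGroup.induction_on with
      | _ y =>
        rw [← QuotientGroup.mk_mul, ← QuotientGroup.mk_mul, QuotientGroup.eq]
        have h1 := hcc y⁻¹ x⁻¹
        unfold cmt at h1
        have h2 : (x * y)⁻¹ * (y * x) = y⁻¹ * x⁻¹ * y⁻¹⁻¹ * x⁻¹⁻¹ := by group
        rw [h2]
        exact h1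
  let T : Subgroup (P ⧸ Subgroup.center P) :=
    { carrier := {a | a ^ p = 1}
      mul_mem' := by
        intro a b ha hb
        have ha' : a ^ p = 1 := ha
        have hb' : b ^ p = 1 := hb
        show (a * b) ^ p = 1
        rw [(show Commute a b from hcomm a b).mul_pow, ha', hb', one_mul]
      one_mem' := one_pow p
      inv_mem' := by
        intro a ha
        have ha' : a ^ p = 1 := ha
        show a⁻¹ ^ p = 1
        rw [inv_pow, ha', inv_one] }
  obtain ⟨Ω, hΩ⟩ : ∃ Ω : Subgroup P, Ω = T.comap (QuotientGroup.mk' (Subgroup.center P)) :=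
    ⟨_, rfl⟩
  have hmemΩ : ∀ y : P, y ∈ Ω ↔ y ^ p ∈ Subgroup.center P := by
    intro y
    rw [hΩ, Subgroup.mem_comap]
    show (QuotientGroup.mk' (Subgroup.center P) y) ^ p = 1 ↔ _
    rw [← map_pow, QuotientGroup.mk'_apply, QuotientGroup.eq_one_iff]
  have hinv : ∀ y ∈ Ω, α y ∈ Ω := by
    intro y hy
    rw [hmemΩ] at hy ⊢
    rw [← map_pow, (hfix _).mpr hy]
    exact hy
  have hZne : Subgroup.center P ≠ ⊤ := by
    intro htop
    obtain ⟨a, b, hab⟩ := hna
    apply hab
    have hb : b ∈ Subgroup.center P := by rw [htop]; exact Subgroup.mem_top b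
    exact Subgroup.mem_center_iff.mp hb a
  have hQ : IsPGroup p (P ⧸ Subgroup.center P) := hP.to_quotient (Subgroup.center P)
  have hcard : p ∣ Nat.card (P ⧸ Subgroup.center P) := by
    rcases hQ.card_eq_or_dvd with h1 | h1
    · exfalso
      apply hZne
      exact Subgroup.index_eq_one.mp h1
    · exact h1
  obtain ⟨a, ha⟩ := exists_prime_orderOf_dvd_card' p hcard
  obtain ⟨x₀, rfl⟩ := QuotientGroup.mk_surjective a
  have hx₀Ω : x₀ ∈ Ω := by
    rw [hmemΩ, ← QuotientGroup.eq_one_iff, QuotientGroup.mk_pow, ← ha, pow_orderOf_eq_one]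
  have hx₀Z : x₀ ∉ Subgroup.center P := by
    intro hz
    have h1 : (QuotientGroup.mk x₀ : P ⧸ Subgroup.center P) = 1 :=
      (QuotientGroup.eq_one_iff x₀).mpr hz
    rw [h1, orderOf_one] at ha
    exact (Fact.out : p.Prime).one_lt.ne ha
  by_contra hx
  have hΩne : Ω ≠ ⊤ := by
    intro htop
    apply hx
    rw [← hmemΩ, htop]
    exact Subgroup.mem_top x
  have h5 := h.fix Ω hΩne hinv x₀ hx₀Ω
  exact hx₀Z ((hfix x₀).mp h5)

end P

end Cfsg.Agent.Helper70.SCH
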