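import Mathlib
import Cfsg.Agent.Lib.Helper31.SCHDefs

set_option autoImplicit false

/-!
SCH server (helper31, S4394), piece (P8): `|P : Z(P)| = p²` when `P` has an abelian subgroup of
index `p` containing the centre, class two and `[a, P] = P'` for all noncentral `a`.
-/

namespace Cfsg.Agent.Helper70.SCH
open Cfsg Cfsg.Agent.Helper31.SCH

theorem h70_cmt_eq_one_iff {G : Type*} [Group G] (a b : G) : cmt a b = 1 ↔ a * b = b * a := by
  unfold cmt
  rw [mul_inv_eq_one, mul_inv_eq_iff_eq_mul]

theorem h70_cmt_mul_right {G : Type*} [Group G] (hcc : ∀ x y : G, cmt x y ∈ Subgroup.center G)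
    (a b b' : G) : cmt a (b * b') = cmt a b * cmt a b' := by
  have hz : ∀ g : G, g * cmt a b' = cmt a b' * g :=
    fun g => Subgroup.mem_center_iff.mp (hcc a b') g
  calc cmt a (b * b') = a * b * a⁻¹ * (cmt a b' * b⁻¹) := by unfold cmt; group
    _ = a * b * a⁻¹ * (b⁻¹ * cmt a b') := by rw [← hz b⁻¹]
    _ = cmt a b * cmt a b' := by unfold cmt; group

theorem h70_cmt_mul_left {G : Type*} [Group G] (hcc : ∀ x y : G, cmt x y ∈ Subgroup.center G)
    (a a' b : G) : cmt (a * a') b = cmt a b * cmt a' b := by
  have hz : ∀ g : G, g * cmt a' b = cmt a' b * g :=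
    fun g => Subgroup.mem_center_iff.mp (hcc a' b) g
  calc cmt (a * a') b = a * cmt a' b * (b * a⁻¹ * b⁻¹) := by unfold cmt; group
    _ = cmt a' b * a * (b * a⁻¹ * b⁻¹) := by rw [hz a]
    _ = cmt a' b * cmt a b := by unfold cmt; group
    _ = cmt a b * cmt a' b := (hz (cmt a b)).symm

section P
variable {P : Type*} [Group P] [Finite P] {p : ℕ} [Fact p.Prime]

/-- (P8) -/
theorem index_center (hP : IsPGroup p P)
    (hcc : ∀ x y : P, cmt x y ∈ Subgroup.center P)
    (hstar : ∀ a : P, a ∉ Subgroup.center P → ∀ x y : P, ∃ b : P, cmt x y = cmt a b)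
    (hna : ∃ a b : P, a * b ≠ b * a) (H : Subgroup P)
    (hHab : ∀ x ∈ H, ∀ y ∈ H, x * y = y * x) (hZH : Subgroup.center P ≤ H) (hidx : H.index = p) :
    (Subgroup.center P).index = p ^ 2 := by
  classical
  have hp : p.Prime := Fact.out
  have hHne : H ≠ ⊤ := by
    intro h
    rw [h, Subgroup.index_top] at hidx
    exact hp.one_lt.ne hidx
  obtain ⟨g, hg⟩ : ∃ g : P, g ∉ H := by
    by_contra hcon
    push Not at hcon
    exact hHne ((Subgroup.eq_top_iff' H).mpr hcon)
  have hmax : ∀ K : Subgroup P, H ≤ K → (∃ k ∈ K, k ∉ H) → K = ⊤ := by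
    rintro K hHK ⟨k, hkK, hkH⟩
    have h1 : K.index ∣ p := hidx ▸ Subgroup.index_dvd_of_le hHK
    rcases (Nat.dvd_prime hp).mp h1 with h2 | h2
    · exact Subgroup.index_eq_one.mp h2
    · exfalso
      have h3 := Subgroup.relIndex_mul_index hHK
      rw [h2, hidx] at h3
      have h4 : H.relIndex K = 1 := by
        have h5 : H.relIndex K * p = 1 * p := by rw [h3, one_mul]
        exact Nat.eq_of_mul_eq_mul_right hp.pos h5
      exact hkH (Subgroup.relIndex_eq_one.mp h4 hkK)
  have hcent : ∀ h ∈ H, h * g = g * h → h ∈ Subgroup.center P := by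
    intro h hh hhg
    have hK : Subgroup.centralizer {h} = ⊤ := by
      apply hmax
      · intro y hy
        rw [Subgroup.mem_centralizer_iff]
        intro z hz
        rw [Set.mem_singleton_iff] at hz
        rw [hz]
        exact hHab h hh y hy
      · refine ⟨g, ?_, hg⟩
        rw [Subgroup.mem_centralizer_iff]
        intro z hz
        rw [Set.mem_singleton_iff] at hz
        rw [hz]
        exact hhg
    rw [Subgroup.mem_center_iff]
    intro y
    have hy : y ∈ Subgroup.centralizer {h} := by rw [hK]; exact Subgroup.mem_top y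
    rw [Subgroup.mem_centralizer_iff] at hy
    exact (hy h rfl).symm
  obtain ⟨a, haH, haZ⟩ : ∃ a ∈ H, a ∉ Subgroup.center P := by
    by_contra hcon
    push Not at hcon
    have hHZ : H = Subgroup.center P := le_antisymm hcon hZH
    have hcardQ : Nat.card (P ⧸ Subgroup.center P) = p := by
      show (Subgroup.center P).index = p
      rw [← hHZ]
      exact hidx
    have hcyc : IsCyclic (P ⧸ Subgroup.center P) := isCyclic_of_prime_card hcardQ
    obtain ⟨x, y, hxy⟩ := hna
    exact hxy (commutative_of_cyclic_center_quotient (QuotientGroup.mk' (Subgroup.center P))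
      (by rw [QuotientGroup.ker_mk']) x y)
  let ψ : P →* P :=
    { toFun := fun b => cmt a b
      map_one' := by unfold cmt; group
      map_mul' := fun b b' => h70_cmt_mul_right hcc a b b' }
  have hψapp : ∀ b, ψ b = cmt a b := fun b => rfl
  have hψker_ne : ψ.ker ≠ ⊤ := by
    intro htop
    apply haZ
    rw [Subgroup.mem_center_iff]
    intro y
    have hy : y ∈ ψ.ker := by rw [htop]; exact Subgroup.mem_top y
    rw [MonoidHom.mem_ker, hψapp] at hy
    exact ((h70_cmt_eq_one_iff a y).mp hy).symm
  have hψker_le : H ≤ ψ.ker := by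
    intro y hy
    rw [MonoidHom.mem_ker, hψapp]
    exact (h70_cmt_eq_one_iff a y).mpr (hHab a haH y hy)
  have hψidx : ψ.ker.index = p := by
    have h1 : ψ.ker.index ∣ p := hidx ▸ Subgroup.index_dvd_of_le hψker_le
    rcases (Nat.dvd_prime hp).mp h1 with h2 | h2
    · exact absurd (Subgroup.index_eq_one.mp h2) hψker_ne
    · exact h2
  have hψrange : Nat.card ψ.range = p := by
    rw [← Subgroup.index_ker, hψidx]
  let φ : H →* P :=
    { toFun := fun h => cmt (h : P) g
      map_one' := by
        show cmt ((1 : H) : P) g = 1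
        rw [Subgroup.coe_one]
        unfold cmt
        group
      map_mul' := fun h h' => by
        show cmt ((h * h' : H) : P) g = _
        rw [Subgroup.coe_mul]
        exact h70_cmt_mul_left hcc _ _ g }
  have hφapp : ∀ h : H, φ h = cmt (h : P) g := fun h => rfl
  have hφrange : φ.range ≤ ψ.range := by
    rintro _ ⟨h, rfl⟩
    obtain ⟨b, hb⟩ := hstar a haZ (h : P) g
    exact ⟨b, hb.symm⟩
  have hφker : φ.ker = (Subgroup.center P).subgroupOf H := by
    ext h
    rw [MonoidHom.mem_ker, Subgroup.mem_subgroupOf, hφapp, h70_cmt_eq_one_iff]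
    constructor
    · intro hc
      exact hcent h h.2 hc
    · intro hc
      exact (Subgroup.mem_center_iff.mp hc g).symm
  have hrel : (Subgroup.center P).relIndex H ∣ p := by
    have h1 : Nat.card φ.range ∣ Nat.card ψ.range := Subgroup.card_dvd_of_le hφrange
    rw [hψrange, ← Subgroup.index_ker, hφker] at h1
    exact h1
  have hrel1 : (Subgroup.center P).relIndex H ≠ 1 := by
    intro h1
    exact haZ (Subgroup.relIndex_eq_one.mp h1 haH)
  have hrelp : (Subgroup.center P).relIndex H = p := by
    rcases (Nat.dvd_prime hp).mp hrel with h | h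
    · exact absurd h hrel1
    · exact h
  have hfin := Subgroup.relIndex_mul_index hZH
  rw [hrelp, hidx] at hfin
  rw [← hfin, pow_two]

end P

end Cfsg.Agent.Helper70.SCH
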