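import Mathlib

set_option autoImplicit false
set_option linter.style.haveILetI false

/-!
# Raw product formula for the transfer and a double-coset ("Mackey") evaluation lemma
-/

namespace Cfsg.Agent.Helper70

open scoped Pointwise

section

variable {G : Type*} [Group G] {H : Subgroup G} {A : Type*} [CommGroup A]

/-- Extension of a hom `ϕ : H →* A` to a plain function on `G` (value `1` outside `H`). -/
noncomputable def extHom (ϕ : H →* A) (g : G) : A :=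
  open Classical in if h : g ∈ H then ϕ ⟨g, h⟩ else 1

theorem extHom_of_mem (ϕ : H →* A) {g : G} (h : g ∈ H) : extHom ϕ g = ϕ ⟨g, h⟩ := by
  unfold extHom
  rw [dif_pos h]

theorem extHom_mul (ϕ : H →* A) {a b : G} (ha : a ∈ H) (hb : b ∈ H) :
    extHom ϕ (a * b) = extHom ϕ a * extHom ϕ b := by
  rw [extHom_of_mem ϕ ha, extHom_of_mem ϕ hb, extHom_of_mem ϕ (H.mul_mem ha hb), ← map_mul]
  rfl

theorem extHom_one (ϕ : H →* A) : extHom ϕ (1 : G) = 1 := by
  rw [extHom_of_mem ϕ H.one_mem]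
  exact map_one ϕ

theorem extHom_inv (ϕ : H →* A) {a : G} (ha : a ∈ H) :
    extHom ϕ a⁻¹ = (extHom ϕ a)⁻¹ := by
  rw [extHom_of_mem ϕ ha, extHom_of_mem ϕ (H.inv_mem ha), ← map_inv]
  rfl

theorem extHom_pow (ϕ : H →* A) {a : G} (ha : a ∈ H) (n : ℕ) :
    extHom ϕ (a ^ n) = extHom ϕ a ^ n := by
  rw [extHom_of_mem ϕ ha, extHom_of_mem ϕ (H.pow_mem ha n), ← map_pow]
  rfl

/-- Raw product formula for the transfer, with the standard section `Quotient.out`. -/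
theorem transfer_eq_prod_out [H.FiniteIndex] [Fintype (G ⧸ H)] (ϕ : H →* A) (u : G) :
    MonoidHom.transfer ϕ u =
      ∏ c : G ⧸ H, extHom ϕ ((c.out)⁻¹ * u * (u⁻¹ • c).out) := by
  rw [MonoidHom.transfer_def ϕ default u]
  change (letI := H.fintypeQuotientOfFiniteIndex; ∏ q : G ⧸ H, ϕ
      ⟨(((default : H.LeftTransversal).2.leftQuotientEquiv q : G))⁻¹ *
        ((u • (default : H.LeftTransversal)).2.leftQuotientEquiv q : G), _⟩) = _
  refine @Fintype.prod_equiv _ _ _ H.fintypeQuotientOfFiniteIndex _ _ (Equiv.refl _) _ _ (fun q => ?_)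
  have hmem := (QuotientGroup.leftRel_apply.mp <|
          Quotient.exact' (((default : H.LeftTransversal).2.leftQuotientEquiv.symm_apply_apply q).trans
            ((u • (default : H.LeftTransversal)).2.leftQuotientEquiv.symm_apply_apply q).symm))
  have e1 : (((default : H.LeftTransversal).2.leftQuotientEquiv q : G)) = q.out :=
    Subgroup.IsComplement.leftQuotientEquiv_apply (f := Quotient.out) Quotient.out_eq' q
  have e2 : (((u • (default : H.LeftTransversal)).2.leftQuotientEquiv q : G)) =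
      u * (u⁻¹ • q).out := by
    rw [Subgroup.smul_apply_eq_smul_apply_inv_smul, smul_eq_mul]
    congr 1
    exact Subgroup.IsComplement.leftQuotientEquiv_apply (f := Quotient.out) Quotient.out_eq' _
  have e3 : (q.out)⁻¹ * u * (u⁻¹ • q).out =
      (((default : H.LeftTransversal).2.leftQuotientEquiv q : G))⁻¹ *
        ((u • (default : H.LeftTransversal)).2.leftQuotientEquiv q : G) := by
    rw [e1, e2, mul_assoc]
  have hmem' : (q.out)⁻¹ * u * (u⁻¹ • q).out ∈ H := by rw [e3]; exact hmem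
  rw [Equiv.refl_apply, extHom_of_mem ϕ hmem']
  congr 1
  exact Subtype.ext e3.symm


theorem prod_telescope {ι C : Type*} [CommGroup C] (s : Finset ι) (e : ι ≃ ι)
    (he : ∀ c, e c ∈ s ↔ c ∈ s) (a F : ι → C) :
    ∏ c ∈ s, (a c * F c * (a (e c))⁻¹) = ∏ c ∈ s, F c := by
  have h1 : ∏ c ∈ s, a (e c) = ∏ c ∈ s, a c :=
    Finset.prod_equiv e (fun c => (he c).symm) (fun _ _ => rfl)
  rw [Finset.prod_mul_distrib, Finset.prod_mul_distrib, Finset.prod_inv_distrib, h1]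
  rw [mul_comm (∏ c ∈ s, a c), mul_assoc, mul_inv_cancel, mul_one]

/-- The subgroup `H ∩ x H x⁻¹`, with a convenient membership predicate. -/
def conjInf (H : Subgroup G) (x : G) : Subgroup G where
  carrier := {v | v ∈ H ∧ x⁻¹ * v * x ∈ H}
  mul_mem' := by
    rintro a b ⟨ha, ha'⟩ ⟨hb, hb'⟩
    refine ⟨H.mul_mem ha hb, ?_⟩
    have : x⁻¹ * (a * b) * x = (x⁻¹ * a * x) * (x⁻¹ * b * x) := by group
    rw [this]; exact H.mul_mem ha' hb'
  one_mem' := ⟨H.one_mem, by simp⟩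
  inv_mem' := by
    rintro a ⟨ha, ha'⟩
    refine ⟨H.inv_mem ha, ?_⟩
    have : x⁻¹ * a⁻¹ * x = (x⁻¹ * a * x)⁻¹ := by group
    rw [this]; exact H.inv_mem ha'

theorem mem_conjInf {x v : G} : v ∈ conjInf H x ↔ v ∈ H ∧ x⁻¹ * v * x ∈ H := Iff.rfl

/-- The hom `v ↦ (β v, ϕ (x⁻¹ v x))` on `H ∩ x H x⁻¹`. -/
noncomputable def conjInfHom {B : Type*} [CommGroup B] (ϕ : H →* A) (β : H →* B) (x : G) :
    conjInf H x →* B × A :=
  MonoidHom.mk' (fun v => (β ⟨v, v.2.1⟩, ϕ ⟨x⁻¹ * v * x, v.2.2⟩)) (by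
    intro a b
    refine Prod.ext ?_ ?_
    · change β ⟨((a * b : conjInf H x) : G), _⟩ = β ⟨a, _⟩ * β ⟨b, _⟩
      rw [← map_mul]
      rfl
    · change ϕ ⟨x⁻¹ * ((a * b : conjInf H x) : G) * x, _⟩ =
        ϕ ⟨x⁻¹ * a * x, _⟩ * ϕ ⟨x⁻¹ * b * x, _⟩
      rw [← map_mul]
      congr 1
      apply Subtype.ext
      change x⁻¹ * ((a : G) * (b : G)) * x = (x⁻¹ * a * x) * (x⁻¹ * b * x)
      group)

theorem conjInfHom_apply {B : Type*} [CommGroup B] (ϕ : H →* A) (β : H →* B) (x : G)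
    (v : conjInf H x) :
    conjInfHom ϕ β x v = (β ⟨v, v.2.1⟩, ϕ ⟨x⁻¹ * v * x, v.2.2⟩) := rfl

/-- Double coset evaluation: the part of the transfer product belonging to a `⟨u⟩`-stable set
`s` of cosets inside the double coset `H x H` is `ϕ (x⁻¹ w x)` for some `w ∈ H ∩ x H x⁻¹`
which is congruent to `u ^ |s|` modulo every abelian quotient of `H`. -/
theorem prod_doubleCoset {B : Type*} [CommGroup B] (ϕ : H →* A) (β : H →* B)
    (u : G) (hu : u ∈ H) (x : G) (s : Finset (G ⧸ H))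
    (hs1 : ∀ c ∈ s, ∃ y ∈ H, c = ((y * x : G) : G ⧸ H))
    (hs2 : ∀ c, u⁻¹ • c ∈ s ↔ c ∈ s) :
    ∃ w, ∃ (hw : w ∈ H) (hw' : x⁻¹ * w * x ∈ H), β ⟨w, hw⟩ = β ⟨u, hu⟩ ^ s.card ∧
      ∏ c ∈ s, extHom ϕ ((c.out)⁻¹ * u * (u⁻¹ • c).out) = ϕ ⟨x⁻¹ * w * x, hw'⟩ := by
  classical
  have hex : ∀ c : G ⧸ H, ∃ y : G, c ∈ s → (y ∈ H ∧ c = ((y * x : G) : G ⧸ H)) := by
    intro c
    by_cases hc : c ∈ s
    · obtain ⟨y, hy, h⟩ := hs1 c hc
      exact ⟨y, fun _ => ⟨hy, h⟩⟩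
    · exact ⟨1, fun h => absurd h hc⟩
  choose y hy using hex
  -- the `H`-parts of the representatives
  set h : G ⧸ H → G := fun c => (y c * x)⁻¹ * c.out with hh
  have hhmem : ∀ c ∈ s, h c ∈ H := by
    intro c hc
    have h1 : ((y c * x : G) : G ⧸ H) = ((c.out : G) : G ⧸ H) := by
      rw [QuotientGroup.out_eq']
      exact ((hy c hc).2).symm
    exact QuotientGroup.eq.mp h1
  -- the raw factors lie in `H`
  have hFmem : ∀ c : G ⧸ H, (c.out)⁻¹ * u * (u⁻¹ • c).out ∈ H := by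
    intro c
    have h1 : ((c.out : G) : G ⧸ H) = ((u * (u⁻¹ • c).out : G) : G ⧸ H) := by
      rw [QuotientGroup.out_eq']
      have : ((u * (u⁻¹ • c).out : G) : G ⧸ H) = u • (((u⁻¹ • c).out : G) : G ⧸ H) := rfl
      rw [this, QuotientGroup.out_eq', smul_inv_smul]
    have := QuotientGroup.eq.mp h1
    rwa [← mul_assoc] at this
  set v : G ⧸ H → G := fun c => (y c)⁻¹ * u * y (u⁻¹ • c) with hv
  have hs2' : ∀ c ∈ s, u⁻¹ • c ∈ s := fun c hc => (hs2 c).mpr hc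
  have hvH : ∀ c ∈ s, v c ∈ H := fun c hc =>
    H.mul_mem (H.mul_mem (H.inv_mem (hy c hc).1) hu) (hy _ (hs2' c hc)).1
  have hvx : ∀ c : G ⧸ H, x⁻¹ * v c * x =
      h c * ((c.out)⁻¹ * u * (u⁻¹ • c).out) * (h (u⁻¹ • c))⁻¹ := by
    intro c
    simp only [hh, hv]
    group
  have hvxH : ∀ c ∈ s, x⁻¹ * v c * x ∈ H := by
    intro c hc
    rw [hvx c]
    exact H.mul_mem (H.mul_mem (hhmem c hc) (hFmem c)) (H.inv_mem (hhmem _ (hs2' c hc)))
  -- the product of the `Λ (v c)` lies in the range of `Λ`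
  have hrange : ∏ c ∈ s, ((extHom β (v c), extHom ϕ (x⁻¹ * v c * x)) : B × A) ∈
      (conjInfHom ϕ β x).range := by
    refine Subgroup.prod_mem _ (fun c hc => ?_)
    refine ⟨⟨v c, hvH c hc, hvxH c hc⟩, ?_⟩
    rw [conjInfHom_apply, extHom_of_mem β (hvH c hc), extHom_of_mem ϕ (hvxH c hc)]
  obtain ⟨w, hw⟩ := hrange
  refine ⟨w, w.2.1, w.2.2, ?_, ?_⟩
  · have h1 := congrArg Prod.fst hw
    rw [conjInfHom_apply, Prod.fst_prod] at h1
    change β ⟨w, _⟩ = _ at h1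
    rw [h1, ← extHom_of_mem β hu]
    have h2 : ∀ c ∈ s, extHom β (v c) =
        (extHom β (y c))⁻¹ * extHom β u * ((extHom β (y (u⁻¹ • c)))⁻¹)⁻¹ := by
      intro c hc
      rw [inv_inv, hv]
      simp only
      rw [extHom_mul β (H.mul_mem (H.inv_mem (hy c hc).1) hu) (hy _ (hs2' c hc)).1,
        extHom_mul β (H.inv_mem (hy c hc).1) hu, extHom_inv β (hy c hc).1]
    rw [Finset.prod_congr rfl h2]
    have h3 := prod_telescope s (MulAction.toPerm u⁻¹) hs2 (fun c => (extHom β (y c))⁻¹)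
      (fun _ => extHom β u)
    simp only [MulAction.toPerm_apply] at h3
    rw [h3, Finset.prod_const]
  · have h1 := congrArg Prod.snd hw
    rw [conjInfHom_apply, Prod.snd_prod] at h1
    change ϕ ⟨x⁻¹ * w * x, _⟩ = _ at h1
    rw [h1]
    have h2 : ∀ c ∈ s, extHom ϕ (x⁻¹ * v c * x) =
        extHom ϕ (h c) * extHom ϕ ((c.out)⁻¹ * u * (u⁻¹ • c).out) *
          (extHom ϕ (h (u⁻¹ • c)))⁻¹ := by
      intro c hc
      rw [hvx c, extHom_mul ϕ (H.mul_mem (hhmem c hc) (hFmem c)) (H.inv_mem (hhmem _ (hs2' c hc))),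
        extHom_mul ϕ (hhmem c hc) (hFmem c), extHom_inv ϕ (hhmem _ (hs2' c hc))]
    rw [Finset.prod_congr rfl h2]
    exact (prod_telescope s (MulAction.toPerm u⁻¹) hs2 (fun c => extHom ϕ (h c)) _).symm

end

end Cfsg.Agent.Helper70
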