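import Mathlib
import Cfsg.Agent.Lib.Helper32.N9Defs
import Cfsg.Agent.Lib.Helper12.N5SpDataOfSpecial

/-!
# N9 (L2a) `not_na8_of_extraspecial_32` (helper70, for helper32's S4409 server)
-/

set_option autoImplicit false

namespace Cfsg.Agent.Helper70.N9

open Cfsg Cfsg.Agent.Helper32.N9
open scoped commutatorElement

universe u

/-- Adjoining a commuting element to an abelian subgroup gives an abelian subgroup. -/
theorem ab_sup_zpowers {X : Type u} [Group X] (P : Subgroup X)
    (hP : ∀ a ∈ P, ∀ b ∈ P, a * b = b * a) (y : X) (hy : ∀ a ∈ P, a * y = y * a) :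
    ∀ a ∈ P ⊔ Subgroup.zpowers y, ∀ b ∈ P ⊔ Subgroup.zpowers y, a * b = b * a := by
  -- step 1: everything commutes with `y`
  have h1 : P ⊔ Subgroup.zpowers y ≤ Subgroup.centralizer ({y} : Set X) := by
    refine sup_le ?_ ?_
    · intro a ha
      rw [Subgroup.mem_centralizer_iff]
      intro h hh
      rw [Set.mem_singleton_iff] at hh
      subst hh
      exact (hy a ha).symm
    · rw [Subgroup.zpowers_le]
      rw [Subgroup.mem_centralizer_iff]
      intro h hh
      rw [Set.mem_singleton_iff] at hh
      subst hh
      rfl
  -- step 2: everything commutes with `P`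
  have h2 : P ⊔ Subgroup.zpowers y ≤ Subgroup.centralizer (P : Set X) := by
    refine sup_le ?_ ?_
    · intro a ha
      rw [Subgroup.mem_centralizer_iff]
      intro h hh
      exact hP h hh a ha
    · rw [Subgroup.zpowers_le]
      rw [Subgroup.mem_centralizer_iff]
      intro h hh
      exact hy h hh
  intro a ha b hb
  -- `b` commutes with everything in `P ⊔ ⟨y⟩`
  have h3 : P ⊔ Subgroup.zpowers y ≤ Subgroup.centralizer ({b} : Set X) := by
    refine sup_le ?_ ?_
    · intro c hc
      rw [Subgroup.mem_centralizer_iff]
      intro h hh
      rw [Set.mem_singleton_iff] at hh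
      subst hh
      have := h2 hb
      rw [Subgroup.mem_centralizer_iff] at this
      exact (this c hc).symm
    · rw [Subgroup.zpowers_le]
      rw [Subgroup.mem_centralizer_iff]
      intro h hh
      rw [Set.mem_singleton_iff] at hh
      subst hh
      have := h1 hb
      rw [Subgroup.mem_centralizer_iff] at this
      exact (this y rfl).symm
  have := h3 ha
  rw [Subgroup.mem_centralizer_iff] at this
  exact (this b rfl).symm

/-- A strictly larger subgroup of a finite group has at least twice the order. -/
theorem two_mul_card_le_of_lt {X : Type u} [Group X] [Finite X] {H K : Subgroup X} (h : H < K) :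
    2 * Nat.card H ≤ Nat.card K := by
  have hdvd : Nat.card H ∣ Nat.card K := Subgroup.card_dvd_of_le h.le
  obtain ⟨m, hm⟩ := hdvd
  have hKpos : 0 < Nat.card K := Nat.card_pos
  have hHpos : 0 < Nat.card H := Nat.card_pos
  have hne : Nat.card H ≠ Nat.card K := by
    intro he
    exact h.ne (Subgroup.eq_of_le_of_card_ge h.le (le_of_eq he.symm))
  have hm2 : 2 ≤ m := by
    rcases m with _ | _ | m
    · rw [hm] at hKpos; simp at hKpos
    · rw [hm] at hne; simp at hne
    · omega
  calc 2 * Nat.card H = Nat.card H * 2 := by ring
    _ ≤ Nat.card H * m := Nat.mul_le_mul_left _ hm2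
    _ = Nat.card K := hm.symm

/-- **L2a.** An extraspecial group of order 32 contains a noncyclic abelian subgroup of order 8. -/
theorem not_na8_of_extraspecial_32 {X : Type u} [Group X] [Finite X]
    (hX : Cfsg.IsExtraspecial 2 X) (hc : Nat.card X = 32) : ¬ NA8 (⊤ : Subgroup X) := by
  obtain ⟨hS, hZ2⟩ := hX
  have hsp := Cfsg.Agent.Helper12.N5.spData_of_special hS
  have hsq : ∀ x : X, x ^ 2 ∈ Subgroup.center X := hsp.sq
  have hcomm : ∀ x y : X, ⁅x, y⁆ ∈ Subgroup.center X := hsp.comm
  have hel : ∀ z ∈ Subgroup.center X, z ^ 2 = 1 := hsp.el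
  have h4 : ∀ x : X, x ^ 4 = 1 := by
    intro x
    have : x ^ 4 = (x ^ 2) ^ 2 := by rw [← pow_mul]
    rw [this]
    exact hel _ (hsq x)
  -- the nonidentity central element
  obtain ⟨z, hz1, hzu⟩ := (Nat.card_eq_two_iff' (1 : ↥(Subgroup.center X))).mp hZ2
  have hzc : ∀ g : X, g * (z : X) = (z : X) * g := Subgroup.mem_center_iff.mp z.2
  have hzz : (z : X) * (z : X) = 1 := by
    have := hel _ z.2
    rwa [pow_two] at this
  have hZcases : ∀ w ∈ Subgroup.center X, w = 1 ∨ w = (z : X) := by
    intro w hw
    by_cases h1 : w = 1
    · exact Or.inl h1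
    · right
      have := hzu ⟨w, hw⟩ (by
        intro h
        apply h1
        exact congrArg Subtype.val h)
      exact congrArg Subtype.val this
  -- a noncentral element
  have hex : ∃ x : X, x ∉ Subgroup.center X := by
    by_contra hcon
    push Not at hcon
    have htop : Subgroup.center X = ⊤ := by
      rw [eq_top_iff]
      intro g _
      exact hcon g
    have : Nat.card (Subgroup.center X) = Nat.card X := by
      rw [htop]
      exact Subgroup.card_top
    omega
  obtain ⟨x, hx⟩ := hex
  -- the centralizer of x has order at least 16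
  have hCcard : 16 ≤ Nat.card (Subgroup.centralizer ({x} : Set X)) := by
    by_cases htop : Subgroup.centralizer ({x} : Set X) = ⊤
    · rw [htop, Subgroup.card_top, hc]
      norm_num
    · have hmemC : ∀ g : X, g ∈ Subgroup.centralizer ({x} : Set X) ↔ g * x = x * g := by
        intro g
        rw [Subgroup.mem_centralizer_iff]
        constructor
        · intro h
          exact (h x rfl).symm
        · intro h y hy
          rw [Set.mem_singleton_iff] at hy
          subst hy
          exact h.symm
      have hnot : ∀ g : X, g ∉ Subgroup.centralizer ({x} : Set X) → g * x = (z : X) * x * g := by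
        intro g hg
        rw [hmemC] at hg
        rcases hZcases _ (hcomm g x) with h | h
        · exfalso
          apply hg
          rw [commutatorElement_def] at h
          calc g * x = (g * x * g⁻¹ * x⁻¹) * (x * g) := by group
            _ = x * g := by rw [h, one_mul]
        · rw [commutatorElement_def] at h
          calc g * x = (g * x * g⁻¹ * x⁻¹) * (x * g) := by group
            _ = (z : X) * x * g := by rw [h]; group
      have hidx : (Subgroup.centralizer ({x} : Set X)).index = 2 := by
        rw [Subgroup.index_eq_two_iff]
        have : ∃ a : X, a ∉ Subgroup.centralizer ({x} : Set X) := by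
          by_contra hcon
          push Not at hcon
          apply htop
          rw [eq_top_iff]
          intro g _
          exact hcon g
        obtain ⟨a, ha⟩ := this
        refine ⟨a, fun b => ?_⟩
        by_cases hb : b ∈ Subgroup.centralizer ({x} : Set X)
        · right
          refine ⟨hb, fun hba => ha ?_⟩
          have := (Subgroup.centralizer ({x} : Set X)).mul_mem
            ((Subgroup.centralizer ({x} : Set X)).inv_mem hb) hba
          rwa [inv_mul_cancel_left] at this
        · left
          refine ⟨?_, hb⟩
          rw [hmemC]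
          have e1 := hnot a ha
          have e2 := hnot b hb
          calc b * a * x = b * (a * x) := by group
            _ = b * ((z : X) * x * a) := by rw [e1]
            _ = (b * (z : X)) * x * a := by group
            _ = ((z : X) * b) * x * a := by rw [hzc b]
            _ = (z : X) * (b * x) * a := by group
            _ = (z : X) * ((z : X) * x * b) * a := by rw [e2]
            _ = ((z : X) * (z : X)) * x * (b * a) := by group
            _ = x * (b * a) := by rw [hzz, one_mul]
      have := Subgroup.card_mul_index (Subgroup.centralizer ({x} : Set X))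
      rw [hidx, hc] at this
      omega
  -- P = Z⟨x⟩
  have hPab : ∀ a ∈ Subgroup.center X ⊔ Subgroup.zpowers x,
      ∀ b ∈ Subgroup.center X ⊔ Subgroup.zpowers x, a * b = b * a := by
    apply ab_sup_zpowers
    · intro a ha b _
      exact ((Subgroup.mem_center_iff.mp ha) b).symm
    · intro a ha
      exact ((Subgroup.mem_center_iff.mp ha) x).symm
  have hZP : Subgroup.center X < Subgroup.center X ⊔ Subgroup.zpowers x := by
    refine lt_of_le_of_ne le_sup_left ?_
    intro h
    apply hx
    rw [h]
    exact (le_sup_right : Subgroup.zpowers x ≤ _) (Subgroup.mem_zpowers x)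
  have hPcard : 4 ≤ Nat.card ↥(Subgroup.center X ⊔ Subgroup.zpowers x) := by
    have := two_mul_card_le_of_lt hZP
    omega
  have hPC : Subgroup.center X ⊔ Subgroup.zpowers x ≤ Subgroup.centralizer ({x} : Set X) := by
    refine sup_le ?_ ?_
    · exact Subgroup.center_le_centralizer _
    · rw [Subgroup.zpowers_le, Subgroup.mem_centralizer_iff]
      intro h hh
      rw [Set.mem_singleton_iff] at hh
      subst hh
      rfl
  -- an abelian subgroup of order at least 8
  have hA : ∃ A : Subgroup X, (∀ a ∈ A, ∀ b ∈ A, a * b = b * a) ∧ 8 ≤ Nat.card A := by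
    by_cases hPeq : Subgroup.center X ⊔ Subgroup.zpowers x = Subgroup.centralizer ({x} : Set X)
    · refine ⟨_, hPab, ?_⟩
      rw [hPeq]
      omega
    · have : ∃ y ∈ Subgroup.centralizer ({x} : Set X), y ∉ Subgroup.center X ⊔ Subgroup.zpowers x := by
        by_contra hcon
        push Not at hcon
        exact hPeq (le_antisymm hPC hcon)
      obtain ⟨y, hyC, hyP⟩ := this
      refine ⟨(Subgroup.center X ⊔ Subgroup.zpowers x) ⊔ Subgroup.zpowers y, ?_, ?_⟩
      · apply ab_sup_zpowers _ hPab
        intro a ha
        -- a ∈ P commutes with y: P ≤ centralizer {y}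
        have hPy : Subgroup.center X ⊔ Subgroup.zpowers x ≤ Subgroup.centralizer ({y} : Set X) := by
          refine sup_le (Subgroup.center_le_centralizer _) ?_
          rw [Subgroup.zpowers_le, Subgroup.mem_centralizer_iff]
          intro h hh
          rw [Set.mem_singleton_iff] at hh
          subst hh
          rw [Subgroup.mem_centralizer_iff] at hyC
          exact (hyC x rfl).symm
        have := hPy ha
        rw [Subgroup.mem_centralizer_iff] at this
        exact (this y rfl).symm
      · have hlt : Subgroup.center X ⊔ Subgroup.zpowers x <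
            (Subgroup.center X ⊔ Subgroup.zpowers x) ⊔ Subgroup.zpowers y := by
          refine lt_of_le_of_ne le_sup_left ?_
          intro h
          apply hyP
          rw [h]
          exact (le_sup_right : Subgroup.zpowers y ≤ _) (Subgroup.mem_zpowers y)
        have := two_mul_card_le_of_lt hlt
        omega
  obtain ⟨A, hAab, hAcard⟩ := hA
  -- cut down to order exactly 8
  have hAdvd : Nat.card A ∣ 32 := by
    rw [← hc]
    exact Subgroup.card_subgroup_dvd_card A
  have h8dvd : 2 ^ 3 ∣ Nat.card A := by
    have hle : Nat.card A ≤ 32 := Nat.le_of_dvd (by norm_num) hAdvd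
    have : Nat.card A = 8 ∨ Nat.card A = 16 ∨ Nat.card A = 32 := by
      generalize Nat.card A = n at *
      interval_cases n <;> simp_all
    rcases this with h | h | h <;> rw [h] <;> norm_num
  have : Fact (Nat.Prime 2) := ⟨Nat.prime_two⟩
  obtain ⟨K, hK⟩ := Sylow.exists_subgroup_card_pow_prime (G := ↥A) 2 h8dvd
  intro hna
  apply hna
  refine ⟨K.map A.subtype, le_top, ?_, ?_, ?_⟩
  · refine ⟨⟨fun a b => ?_⟩⟩
    apply Subtype.ext
    obtain ⟨a', _, ha'⟩ := a.2
    obtain ⟨b', _, hb'⟩ := b.2
    have := hAab _ a'.2 _ b'.2
    simp only [Subgroup.coe_mul]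
    rw [← ha', ← hb']
    exact this
  · intro hcyc
    obtain ⟨g, hg⟩ := hcyc.exists_generator
    have hord : orderOf g = Nat.card ↥(K.map A.subtype) := orderOf_eq_card_of_forall_mem_zpowers hg
    have hcard8 : Nat.card ↥(K.map A.subtype) = 8 := by
      rw [Subgroup.card_map_of_injective A.subtype_injective, hK]
      norm_num
    have hg4 : g ^ 4 = 1 := by
      apply Subtype.ext
      simp only [Subgroup.coe_pow, Subgroup.coe_one]
      exact h4 _
    have := orderOf_dvd_of_pow_eq_one hg4
    rw [hord, hcard8] at this
    omega
  · rw [Subgroup.card_map_of_injective A.subtype_injective, hK]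
    norm_num

end Cfsg.Agent.Helper70.N9
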