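import Mathlib

/-!
# JPC (E1) `restrict_pair` (helper70, for helper35's S4150 server)
-/

set_option autoImplicit false

namespace Cfsg.Agent.Helper70.JPC

open Equiv Equiv.Perm MulAction Subgroup

universe u

/-- (E1) restriction of two permutations to the union of their supports. -/
theorem restrict_pair {α : Type u} [Fintype α] [DecidableEq α] (X Y : Perm α) :
    ∃ X' Y' : Perm {a // a ∈ X.support ∪ Y.support},
      X'.cycleType = X.cycleType ∧ Y'.cycleType = Y.cycleType ∧
      X'.support ∪ Y'.support = Finset.univ ∧
      (Disjoint X'.support Y'.support → Disjoint X.support Y.support) ∧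
      Nonempty (closure ({X, Y} : Set (Perm α)) ≃* closure ({X', Y'} : Set (Perm _))) := by
  have hXS : X.support ⊆ X.support ∪ Y.support := Finset.subset_union_left
  have hYS : Y.support ⊆ X.support ∪ Y.support := Finset.subset_union_right
  have hX1 : ∀ x, X x ∈ X.support ∪ Y.support ↔ x ∈ X.support ∪ Y.support :=
    isInvariant_of_support_le hXS
  have hY1 : ∀ x, Y x ∈ X.support ∪ Y.support ↔ x ∈ X.support ∪ Y.support :=
    isInvariant_of_support_le hYS
  have hX2 : ∀ x, X x ≠ x → x ∈ X.support ∪ Y.support := fun x hx => hXS (mem_support.mpr hx)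
  have hY2 : ∀ x, Y x ≠ x → x ∈ X.support ∪ Y.support := fun x hx => hYS (mem_support.mpr hx)
  have eX : ofSubtype (X.subtypePerm hX1) = X := ofSubtype_subtypePerm hX1 hX2
  have eY : ofSubtype (Y.subtypePerm hY1) = Y := ofSubtype_subtypePerm hY1 hY2
  refine ⟨X.subtypePerm hX1, Y.subtypePerm hY1, ?_, ?_, ?_, ?_, ?_⟩
  · rw [← cycleType_ofSubtype, eX]
  · rw [← cycleType_ofSubtype, eY]
  · rw [Finset.eq_univ_iff_forall]
    intro a
    have ha := a.2
    rw [Finset.mem_union] at ha ⊢
    rcases ha with ha | ha
    · left
      rw [mem_support] at ha ⊢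
      intro h
      apply ha
      have := congrArg Subtype.val h
      simpa using this
    · right
      rw [mem_support] at ha ⊢
      intro h
      apply ha
      have := congrArg Subtype.val h
      simpa using this
  · intro hd
    rw [Finset.disjoint_left]
    intro a haX haY
    have haS : a ∈ X.support ∪ Y.support := hXS haX
    have h1 : (⟨a, haS⟩ : {a // a ∈ X.support ∪ Y.support}) ∈ (X.subtypePerm hX1).support := by
      rw [mem_support] at haX ⊢
      intro h
      apply haX
      have := congrArg Subtype.val h
      simpa using this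
    have h2 : (⟨a, haS⟩ : {a // a ∈ X.support ∪ Y.support}) ∈ (Y.subtypePerm hY1).support := by
      rw [mem_support] at haY ⊢
      intro h
      apply haY
      have := congrArg Subtype.val h
      simpa using this
    exact Finset.disjoint_left.mp hd h1 h2
  · have hinj : Function.Injective
        (ofSubtype : Perm {a // a ∈ X.support ∪ Y.support} →* Perm α) := ofSubtype_injective
    have hmap : (closure ({X.subtypePerm hX1, Y.subtypePerm hY1} : Set (Perm _))).map
        (ofSubtype : Perm {a // a ∈ X.support ∪ Y.support} →* Perm α) =
        closure ({X, Y} : Set (Perm α)) := by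
      rw [MonoidHom.map_closure, Set.image_pair, eX, eY]
    exact ⟨((Subgroup.equivMapOfInjective _ _ hinj).trans (MulEquiv.subgroupCongr hmap)).symm⟩

end Cfsg.Agent.Helper70.JPC
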