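import Mathlib

/-!
# JPC (E2) `equiv_alt_of_alt_le` (helper70, for helper35's S4150 server)
-/

set_option autoImplicit false

namespace Cfsg.Agent.Helper70.JPC

open Equiv Equiv.Perm MulAction Subgroup

universe u

/-- (E2) a subgroup generated by two even permutations and containing the alternating group is the
alternating group. -/
theorem equiv_alt_of_alt_le {β : Type u} [Fintype β] [DecidableEq β] {X' Y' : Perm β}
    (hX : X' ∈ alternatingGroup β) (hY : Y' ∈ alternatingGroup β)
    (h : alternatingGroup β ≤ closure ({X', Y'} : Set (Perm β))) :
    Nonempty (closure ({X', Y'} : Set (Perm β)) ≃* alternatingGroup (Fin (Fintype.card β))) := by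
  have hle : closure ({X', Y'} : Set (Perm β)) ≤ alternatingGroup β := by
    rw [closure_le]
    intro z hz
    rcases hz with hz | hz
    · rw [hz]; exact hX
    · rw [Set.mem_singleton_iff] at hz
      rw [hz]; exact hY
  have heq : closure ({X', Y'} : Set (Perm β)) = alternatingGroup β := le_antisymm hle h
  exact ⟨(MulEquiv.subgroupCongr heq).trans (Equiv.altCongrHom (Fintype.equivFin β))⟩

end Cfsg.Agent.Helper70.JPC
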