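import Mathlib
import Cfsg.Agent.Lib.Helper41.JPCTR2
import Cfsg.Agent.Lib.Helper33.JPCB
import Cfsg.Agent.Lib.Helper5.Order60

/-!
# JPC (M6a) `card_closure_six` (helper70, for helper35's S4150 server)
-/

set_option autoImplicit false

namespace Cfsg.Agent.Helper70.JPC

open Equiv Equiv.Perm MulAction Subgroup

universe u

/-- (M6a) on 6 points, an element of cycle type `{3,3}` and a 5-cycle generate a group of order
60 or 360. -/
theorem card_closure_six {Ω : Type u} [Fintype Ω] [DecidableEq Ω]
    (hcard : Fintype.card Ω = 6) {x y : Perm Ω} (hxt : x.cycleType = {3, 3}) (hy : y.IsCycle)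
    (hy5 : y.support.card = 5) :
    Nat.card (closure ({x, y} : Set (Perm Ω))) = 60 ∨
      Nat.card (closure ({x, y} : Set (Perm Ω))) = 360 := by
  have hxG : x ∈ closure ({x, y} : Set (Perm Ω)) := subset_closure (by simp)
  have hyG : y ∈ closure ({x, y} : Set (Perm Ω)) := subset_closure (by simp)
  -- `G ≤ A₆`
  have hxA : x ∈ alternatingGroup Ω := by
    rw [mem_alternatingGroup, sign_of_cycleType, hxt]
    decide
  have hyA : y ∈ alternatingGroup Ω := by
    rw [mem_alternatingGroup, hy.sign, hy5]
    decide
  have hGA : closure ({x, y} : Set (Perm Ω)) ≤ alternatingGroup Ω := by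
    rw [closure_le]
    intro z hz
    rcases hz with hz | hz
    · rw [hz]; exact hxA
    · rw [Set.mem_singleton_iff] at hz
      rw [hz]; exact hyA
  have hΩ : Nat.card Ω = 6 := by rw [Nat.card_eq_fintype_card, hcard]
  have hnt : Nontrivial Ω := Fintype.one_lt_card_iff_nontrivial.mp (by omega)
  have hA360 : Nat.card (alternatingGroup Ω) = 360 := by
    have h := two_mul_nat_card_alternatingGroup (α := Ω)
    rw [Nat.card_perm, hΩ] at h
    have h6 : (6 : ℕ).factorial = 720 := by decide
    omega
  have hsimple : IsSimpleGroup (alternatingGroup Ω) := alternatingGroup.isSimpleGroup (by omega)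
  -- transitivity
  have htr : IsPretransitive (closure ({x, y} : Set (Perm Ω))) Ω :=
    Cfsg.Agent.Helper41.JPC.isPretransitive_closure_pair' hxt (by rw [hcard]) hy
      (by rw [hy5]; norm_num)
  -- the fixed point of `y`
  have hexa : ∃ a, a ∉ y.support := by
    by_contra h
    push Not at h
    have : y.support = Finset.univ := Finset.eq_univ_iff_forall.mpr h
    rw [this, Finset.card_univ, hcard] at hy5
    omega
  obtain ⟨a, ha⟩ := hexa
  have hya : y a = a := notMem_support.mp ha
  have huniq : ∀ b, y b = b → b = a := by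
    intro b hb
    by_contra hne
    have hcompl : (y.supportᶜ).card = 1 := by rw [Finset.card_compl, hy5, hcard]
    have hsub : ({a, b} : Finset Ω) ⊆ y.supportᶜ := by
      intro c hc
      rw [Finset.mem_insert, Finset.mem_singleton] at hc
      rw [Finset.mem_compl, notMem_support]
      rcases hc with rfl | rfl
      · exact hya
      · exact hb
    have := Finset.card_le_card hsub
    rw [Finset.card_pair (Ne.symm hne), hcompl] at this
    omega
  -- the stabilizer of `a`
  have hidx : (stabilizer (closure ({x, y} : Set (Perm Ω))) a).index = 6 := by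
    rw [index_stabilizer_of_transitive, hΩ]
  have hcardG : Nat.card (stabilizer (closure ({x, y} : Set (Perm Ω))) a) * 6 =
      Nat.card (closure ({x, y} : Set (Perm Ω))) := by
    rw [← hidx]
    exact Subgroup.card_mul_index _
  have hyS : (⟨y, hyG⟩ : closure ({x, y} : Set (Perm Ω))) ∈
      stabilizer (closure ({x, y} : Set (Perm Ω))) a := by
    rw [mem_stabilizer_iff]
    exact hya
  have hord : orderOf (⟨y, hyG⟩ : closure ({x, y} : Set (Perm Ω))) = 5 := by
    rw [Subgroup.orderOf_mk, hy.orderOf, hy5]
  have h5S : 5 ∣ Nat.card (stabilizer (closure ({x, y} : Set (Perm Ω))) a) := by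
    have := orderOf_dvd_natCard
      (⟨⟨y, hyG⟩, hyS⟩ : stabilizer (closure ({x, y} : Set (Perm Ω))) a)
    rwa [Subgroup.orderOf_mk, hord] at this
  -- `|G|` divides 360
  have hGdvd : Nat.card (closure ({x, y} : Set (Perm Ω))) ∣ 360 := by
    rw [← hA360]
    exact Subgroup.card_dvd_of_le hGA
  -- the subgroup of `A₆`
  have hHcard : Nat.card ((closure ({x, y} : Set (Perm Ω))).subgroupOf (alternatingGroup Ω)) =
      Nat.card (closure ({x, y} : Set (Perm Ω))) :=
    Nat.card_congr (Subgroup.subgroupOfEquivOfLe hGA).toEquiv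
  have hHidx : Nat.card ((closure ({x, y} : Set (Perm Ω))).subgroupOf (alternatingGroup Ω)) *
      ((closure ({x, y} : Set (Perm Ω))).subgroupOf (alternatingGroup Ω)).index = 360 := by
    rw [Subgroup.card_mul_index, hA360]
  by_cases hH : (closure ({x, y} : Set (Perm Ω))).subgroupOf (alternatingGroup Ω) = ⊤
  · right
    rw [← hHcard, hH, Subgroup.card_top, hA360]
  · have hbound := Cfsg.Agent.Helper5.card_le_factorial_index _ hH
    rw [hA360] at hbound
    have hidx6 : 6 ≤ ((closure ({x, y} : Set (Perm Ω))).subgroupOf (alternatingGroup Ω)).index := by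
      by_contra hlt
      push Not at hlt
      have h1 : ((closure ({x, y} : Set (Perm Ω))).subgroupOf (alternatingGroup Ω)).index.factorial ≤
          (5 : ℕ).factorial := Nat.factorial_le (by omega)
      have h5 : (5 : ℕ).factorial = 120 := by decide
      omega
    rw [hHcard] at hHidx
    have hGle : Nat.card (closure ({x, y} : Set (Perm Ω))) ≤ 60 := by nlinarith
    obtain ⟨k, hk⟩ := h5S
    have hGpos : 0 < Nat.card (closure ({x, y} : Set (Perm Ω))) := Nat.card_pos
    have hk12 : k = 1 ∨ k = 2 := by
      rw [hk] at hcardG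
      omega
    rcases hk12 with rfl | rfl
    · -- `|G| = 30`: contradiction by (B)
      exfalso
      have hS5 : Nat.card (stabilizer (closure ({x, y} : Set (Perm Ω))) a) = 5 := by omega
      have hG30 : Nat.card (closure ({x, y} : Set (Perm Ω))) = 30 := by omega
      have hP5 : Nat.card (zpowers (⟨y, hyG⟩ : closure ({x, y} : Set (Perm Ω)))) = 5 := by
        rw [Nat.card_zpowers, hord]
      have hPS : zpowers (⟨y, hyG⟩ : closure ({x, y} : Set (Perm Ω))) =
          stabilizer (closure ({x, y} : Set (Perm Ω))) a := by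
        apply Subgroup.eq_of_le_of_card_ge
        · rw [zpowers_le]; exact hyS
        · rw [hP5, hS5]
      have hN : normalizer ((zpowers (⟨y, hyG⟩ : closure ({x, y} : Set (Perm Ω))) :
          Subgroup (closure ({x, y} : Set (Perm Ω)))) : Set (closure ({x, y} : Set (Perm Ω)))) ≤
          zpowers (⟨y, hyG⟩ : closure ({x, y} : Set (Perm Ω))) := by
        intro n hn
        rw [mem_normalizer_iff] at hn
        have h1 := (hn (n⁻¹ * ⟨y, hyG⟩ * n)).mpr (by
          have : n * (n⁻¹ * ⟨y, hyG⟩ * n) * n⁻¹ = (⟨y, hyG⟩ : closure ({x, y} : Set (Perm Ω))) := by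
            group
          rw [this]
          exact mem_zpowers _)
        rw [hPS, mem_stabilizer_iff] at h1
        rw [hPS, mem_stabilizer_iff]
        -- `h1 : (n⁻¹ * y * n) • a = a`
        have h2 : y ((n : Perm Ω) a) = (n : Perm Ω) a := by
          have h3 : ((n⁻¹ * ⟨y, hyG⟩ * n : closure ({x, y} : Set (Perm Ω))) : Perm Ω) a = a := h1
          simp only [Subgroup.coe_mul, Subgroup.coe_inv, Perm.mul_apply] at h3
          have h4 := congrArg (n : Perm Ω) h3
          simpa using h4
        exact huniq _ h2
      exact Cfsg.Agent.Helper33.JPC.no_sharp_frobenius (K := closure ({x, y} : Set (Perm Ω)))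
        (zpowers (⟨y, hyG⟩ : closure ({x, y} : Set (Perm Ω)))) (ℓ := 5) Nat.prime_five hP5 hN
        (by rw [hG30]) (by norm_num) (by norm_num)
    · left
      omega

end Cfsg.Agent.Helper70.JPC
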