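import Mathlib
import Cfsg.Prelude.Def_Transfer
import Cfsg.Prelude.Def_Solvable

set_option autoImplicit false
set_option linter.style.haveILetI false
set_option linter.unusedSectionVars false

/-!
# Sections `V ⋊ ⟨y⟩` without an element of order equal to the exponent
-/

open Subgroup
open scoped commutatorElement

universe u

namespace Cfsg.Agent.Helper70

/-- Every element of `V ⊔ zpowers y = ⊤` (with `V` normal) is of the form `v * z`. -/
theorem exists_mul_of_sup_eq_top {K : Type*} [Group K] (V : Subgroup K) [V.Normal] (W : Subgroup K)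
    (htop : V ⊔ W = ⊤) (k : K) : ∃ v ∈ V, ∃ z ∈ W, v * z = k := by
  have hk : k ∈ ((V ⊔ W : Subgroup K) : Set K) := by rw [htop]; exact Set.mem_univ k
  rw [Subgroup.normal_mul] at hk
  exact Set.mem_mul.mp hk

/-- The abstract bad section: `K = V ⋊ ⟨y⟩` with `V` an abelian normal `p`-subgroup, `y` a
`p'`-element acting faithfully and without fixed points. -/
theorem section_key {K : Type*} [Group K] [Finite K] {p : ℕ} [hp : Fact p.Prime]
    (V : Subgroup K) [hVn : V.Normal] (hVp : IsPGroup p V)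
    (hVab : ∀ a ∈ V, ∀ b ∈ V, a * b = b * a)
    (y : K) (hy : (orderOf y).Coprime p) (htop : V ⊔ Subgroup.zpowers y = ⊤)
    (hfix : ∀ v ∈ V, y * v = v * y → v = 1)
    (hfaith : ∀ z ∈ Subgroup.zpowers y, (∀ v ∈ V, z * v = v * z) → z = 1)
    (hy1 : y ≠ 1) :
    Cfsg.pPrimeCore p K = ⊥ ∧ ∀ k : K, orderOf k ≠ Monoid.exponent K := by
  obtain ⟨a, ha⟩ := IsPGroup.iff_card.mp hVp
  constructor
  · unfold Cfsg.pPrimeCore
    rw [sSup_eq_bot]
    rintro R ⟨hRn, hRc⟩
    have hdisj : Disjoint R V := by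
      apply Subgroup.disjoint_of_coprime_natCard
      rw [ha]
      exact Nat.Coprime.pow_right a hRc
    rw [eq_bot_iff]
    intro r hr
    obtain ⟨v, hv, z, hz, hvz⟩ := exists_mul_of_sup_eq_top V (Subgroup.zpowers y) htop r
    have hcomm : ∀ w ∈ V, Commute r w := fun w hw =>
      Subgroup.commute_of_normal_of_disjoint R V hRn hVn hdisj r w hr hw
    have hz1 : z = 1 := by
      apply hfaith z hz
      intro w hw
      have hzr : z = v⁻¹ * r := by rw [← hvz]; group
      rw [hzr]
      have h1 : r * w = w * r := (hcomm w hw).eq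
      have h2 : v⁻¹ * w = w * v⁻¹ := hVab _ (V.inv_mem hv) _ hw
      calc v⁻¹ * r * w = v⁻¹ * (r * w) := by group
        _ = v⁻¹ * (w * r) := by rw [h1]
        _ = (v⁻¹ * w) * r := by group
        _ = (w * v⁻¹) * r := by rw [h2]
        _ = w * (v⁻¹ * r) := by group
    rw [hz1, mul_one] at hvz
    rw [← hvz] at hr ⊢
    have : v ∈ R ⊓ V := ⟨hr, hv⟩
    rw [hdisj.eq_bot] at this
    exact this
  · intro k hk
    obtain ⟨n, hn⟩ : ∃ n, n = orderOf y := ⟨_, rfl⟩
    have hncop : n.Coprime p := hn ▸ hy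
    obtain ⟨φ, hφ⟩ : ∃ φ : K →* K ⧸ V, φ = QuotientGroup.mk' V := ⟨_, rfl⟩
    have hφs : Function.Surjective φ := hφ ▸ QuotientGroup.mk'_surjective V
    have hker : ∀ x : K, φ x = 1 ↔ x ∈ V := by
      intro x; rw [hφ]; exact QuotientGroup.eq_one_iff x
    -- p-elements dividing a number prime to p are trivial
    have hVtriv : ∀ x ∈ V, ∀ m : ℕ, m.Coprime p → x ^ m = 1 → x = 1 := by
      intro x hx m hm hxm
      obtain ⟨j, hj⟩ := hVp ⟨x, hx⟩
      have hj' : x ^ p ^ j = 1 := by
        have := congrArg Subtype.val hj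
        simpa using this
      have h1 : orderOf x ∣ p ^ j := orderOf_dvd_of_pow_eq_one hj'
      have h2 : orderOf x ∣ m := orderOf_dvd_of_pow_eq_one hxm
      have h3 : orderOf x = 1 :=
        Nat.eq_one_of_dvd_coprimes (Nat.Coprime.pow_right j hm) h2 h1
      exact orderOf_eq_one_iff.mp h3
    -- the order of `φ y` is `n`
    have hφy : orderOf (φ y) = n := by
      apply Nat.dvd_antisymm
      · rw [hn]; exact orderOf_map_dvd φ y
      · rw [hn]
        apply orderOf_dvd_of_pow_eq_one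
        have h1 : φ (y ^ orderOf (φ y)) = 1 := by rw [map_pow, pow_orderOf_eq_one]
        have h2 : y ^ orderOf (φ y) ∈ V := (hker _).mp h1
        apply hVtriv _ h2 n hncop
        rw [← pow_mul, mul_comm, pow_mul, hn, pow_orderOf_eq_one, one_pow]
    -- the quotient is generated by `φ y`
    have hQ : Subgroup.zpowers (φ y) = ⊤ := by
      have h1 := congrArg (Subgroup.map φ) htop
      rw [Subgroup.map_sup, MonoidHom.map_zpowers, Subgroup.map_top_of_surjective φ hφs] at h1
      have h2 : V.map φ = ⊥ := by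
        rw [eq_bot_iff]
        rintro _ ⟨v, hv, rfl⟩
        exact (hker v).mpr hv
      rw [h2, bot_sup_eq] at h1
      exact h1
    have hcardQ : Nat.card (K ⧸ V) = n := by
      rw [← hφy, ← Nat.card_zpowers, hQ, Subgroup.card_top]
    -- `n ∣ orderOf (φ k)`
    have hne : n ∣ orderOf k := by
      rw [hk, hn]; exact Monoid.order_dvd_exponent y
    have hd1 : orderOf (φ k) ∣ n := by rw [← hcardQ]; exact orderOf_dvd_natCard _
    have hd2 : n ∣ orderOf (φ k) := by
      have h1 : φ (k ^ orderOf (φ k)) = 1 := by rw [map_pow, pow_orderOf_eq_one]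
      have h2 : k ^ orderOf (φ k) ∈ V := (hker _).mp h1
      obtain ⟨j, hj⟩ := hVp ⟨_, h2⟩
      have hj' : (k ^ orderOf (φ k)) ^ p ^ j = 1 := by
        have := congrArg Subtype.val hj
        simpa using this
      rw [← pow_mul] at hj'
      have h3 : orderOf k ∣ orderOf (φ k) * p ^ j := orderOf_dvd_of_pow_eq_one hj'
      exact (Nat.Coprime.pow_right j hncop).dvd_of_dvd_mul_right (hne.trans h3)
    have hd : orderOf (φ k) = n := Nat.dvd_antisymm hd1 hd2
    have hgen : Subgroup.zpowers (φ k) = ⊤ := by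
      apply Subgroup.eq_top_of_card_eq
      rw [Nat.card_zpowers, hd, hcardQ]
    -- `y = v' * k ^ i`
    have hyk : φ y ∈ Subgroup.zpowers (φ k) := by rw [hgen]; exact Subgroup.mem_top _
    obtain ⟨i, hi⟩ := Subgroup.mem_zpowers_iff.mp hyk
    have hv' : y * (k ^ i)⁻¹ ∈ V := by
      rw [← hker, map_mul, map_inv, map_zpow, hi, mul_inv_cancel]
    -- `u = k ^ n ∈ V` is centralised by `y`
    have hu : k ^ n ∈ V := by
      rw [← hker, map_pow, ← hcardQ]
      exact pow_card_eq_one'
    have hu1 : k ^ n = 1 := by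
      apply hfix _ hu
      have e : y = (y * (k ^ i)⁻¹) * k ^ i := by group
      have c1 : (y * (k ^ i)⁻¹) * k ^ n = k ^ n * (y * (k ^ i)⁻¹) := hVab _ hv' _ hu
      have c2 : k ^ i * k ^ n = k ^ n * k ^ i := by
        rw [← zpow_natCast k n, ← zpow_add, ← zpow_add, add_comm]
      calc y * k ^ n = (y * (k ^ i)⁻¹) * (k ^ i * k ^ n) := by group
        _ = (y * (k ^ i)⁻¹) * (k ^ n * k ^ i) := by rw [c2]
        _ = ((y * (k ^ i)⁻¹) * k ^ n) * k ^ i := by group
        _ = (k ^ n * (y * (k ^ i)⁻¹)) * k ^ i := by rw [c1]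
        _ = k ^ n * y := by group
    -- `p ∣ orderOf k`
    have hVne : V ≠ ⊥ := by
      intro hV
      apply hy1
      apply hfaith y (Subgroup.mem_zpowers y)
      intro v hv
      rw [hV, Subgroup.mem_bot] at hv
      rw [hv, mul_one, one_mul]
    obtain ⟨v, hv1⟩ := (Subgroup.ne_bot_iff_exists_ne_one).mp hVne
    have hpk : p ∣ orderOf k := by
      have hvV : (v : K) ∈ V := v.2
      obtain ⟨j, hj⟩ := hVp v
      have hj' : (v : K) ^ p ^ j = 1 := by
        have := congrArg Subtype.val hj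
        simpa using this
      have h1 : orderOf (v : K) ∣ p ^ j := orderOf_dvd_of_pow_eq_one hj'
      obtain ⟨j', -, hj'eq⟩ := (Nat.dvd_prime_pow hp.out).mp h1
      have hj'pos : j' ≠ 0 := by
        intro h0
        rw [h0, pow_zero, orderOf_eq_one_iff] at hj'eq
        exact hv1 (Subtype.ext hj'eq)
      have h2 : p ∣ orderOf (v : K) := by
        rw [hj'eq]; exact dvd_pow_self p hj'pos
      rw [hk]
      exact h2.trans (Monoid.order_dvd_exponent _)
    have h3 : orderOf k ∣ n := orderOf_dvd_of_pow_eq_one hu1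
    have h4 : p ∣ n := hpk.trans h3
    have h5 := Nat.Coprime.eq_one_of_dvd hncop.symm h4
    exact hp.out.one_lt.ne' h5

/-- Coprime action: if `c = z x z⁻¹ x⁻¹` is a `p`-element commuting with the `p'`-element `z`,
then `c = 1`. -/
theorem commutator_eq_one_of_commute_of_coprime {H : Type*} [Group H] {p : ℕ}
    (z x : H) (hz : (orderOf z).Coprime p)
    (hc : Commute (z * x * z⁻¹ * x⁻¹) z) (hcp : ∃ j, (z * x * z⁻¹ * x⁻¹) ^ p ^ j = 1) :
    z * x * z⁻¹ * x⁻¹ = 1 := by
  obtain ⟨c, hcdef⟩ : ∃ c, c = z * x * z⁻¹ * x⁻¹ := ⟨_, rfl⟩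
  rw [← hcdef] at hc hcp ⊢
  have hzx : z * x * z⁻¹ = c * x := by rw [hcdef]; group
  have key : ∀ m : ℕ, z ^ m * x * (z ^ m)⁻¹ = c ^ m * x := by
    intro m
    induction m with
    | zero => simp
    | succ m ih =>
      have hcm : z * c ^ m = c ^ m * z := ((hc.pow_left m).eq).symm
      calc z ^ (m + 1) * x * (z ^ (m + 1))⁻¹
          = z * (z ^ m * x * (z ^ m)⁻¹) * z⁻¹ := by rw [pow_succ']; group
        _ = z * (c ^ m * x) * z⁻¹ := by rw [ih]
        _ = (z * c ^ m) * x * z⁻¹ := by group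
        _ = (c ^ m * z) * x * z⁻¹ := by rw [hcm]
        _ = c ^ m * (z * x * z⁻¹) := by group
        _ = c ^ m * (c * x) := by rw [hzx]
        _ = c ^ (m + 1) * x := by rw [pow_succ]; group
  have h1 := key (orderOf z)
  rw [pow_orderOf_eq_one] at h1
  have h2 : c ^ orderOf z = 1 := by
    have : x = c ^ orderOf z * x := by simpa using h1
    calc c ^ orderOf z = (c ^ orderOf z * x) * x⁻¹ := by group
      _ = x * x⁻¹ := by rw [← this]
      _ = 1 := by group
  obtain ⟨j, hj⟩ := hcp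
  have h3 : orderOf c ∣ orderOf z := orderOf_dvd_of_pow_eq_one h2
  have h4 : orderOf c ∣ p ^ j := orderOf_dvd_of_pow_eq_one hj
  have h5 : orderOf c = 1 := Nat.eq_one_of_dvd_coprimes (Nat.Coprime.pow_right j hz) h3 h4
  exact orderOf_eq_one_iff.mp h5

/-- A minimal failure of Frobenius' condition produces a `p'`-reduced section with no element
whose order is the exponent. -/
theorem exists_bad_section {H : Type u} [Group H] [Finite H] {p : ℕ} [hp : Fact p.Prime]
    (X : Subgroup H) [hXn : X.Normal] (hX : IsPGroup p X) (g : H) (hg : (orderOf g).Coprime p)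
    (htop : X ⊔ Subgroup.zpowers g = ⊤)
    (hnc : ∃ x ∈ X, g * x ≠ x * g)
    (hmin : ∀ Q : Subgroup H, Q ≤ X → Q ≠ X → (∀ q ∈ Q, g * q * g⁻¹ ∈ Q) →
      ∀ q ∈ Q, g * q = q * g) :
    ∃ (N : Subgroup H) (_ : N.Normal), Cfsg.pPrimeCore p (H ⧸ N) = ⊥ ∧
      ∀ k : H ⧸ N, orderOf k ≠ Monoid.exponent (H ⧸ N) := by
  obtain ⟨a, ha⟩ := IsPGroup.iff_card.mp hX
  have hdisj : Disjoint (Subgroup.zpowers g) X := by
    apply Subgroup.disjoint_of_coprime_natCard
    rw [Nat.card_zpowers, ha]; exact Nat.Coprime.pow_right a hg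
  have hXpow : ∀ x ∈ X, ∃ j, x ^ p ^ j = 1 := by
    intro x hx
    obtain ⟨j, hj⟩ := hX ⟨x, hx⟩
    refine ⟨j, ?_⟩
    have := congrArg Subtype.val hj
    simpa using this
  have hzcomm : ∀ z ∈ Subgroup.zpowers g, ∀ c : H, g * c = c * g → z * c = c * z := by
    intro z hz c hc
    obtain ⟨i, rfl⟩ := Subgroup.mem_zpowers_iff.mp hz
    exact ((Commute.zpow_left (show Commute g c from hc) i)).eq
  -- the subgroup `C = C_X(g)`
  obtain ⟨C, hC⟩ : ∃ C : Subgroup H, C = X ⊓ Subgroup.centralizer {g} := ⟨_, rfl⟩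
  have hCmem : ∀ c, c ∈ C ↔ c ∈ X ∧ g * c = c * g := by
    intro c
    rw [hC, Subgroup.mem_inf, Subgroup.mem_centralizer_iff]
    simp
  have hXne : X ≠ ⊥ := by
    intro h
    obtain ⟨x, hx, hne⟩ := hnc
    rw [h, Subgroup.mem_bot] at hx
    subst hx
    simp at hne
  have hder_ne : ⁅X, X⁆ ≠ X := by
    haveI : Nontrivial X := (Subgroup.nontrivial_iff_ne_bot X).mpr hXne
    haveI : Group.IsNilpotent X := hX.isNilpotent
    have h1 := Group.IsSolvable.commutator_lt_top_of_nontrivial X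
    intro h
    rw [← Subgroup.map_subtype_commutator] at h
    have h2 : (commutator X).map X.subtype = (⊤ : Subgroup X).map X.subtype := by
      rw [h, ← MonoidHom.range_eq_map, Subgroup.range_subtype]
    exact h1.ne (Subgroup.map_injective X.subtype_injective h2)
  have hderC : ⁅X, X⁆ ≤ C := by
    haveI : (⁅X, X⁆ : Subgroup H).Normal := Subgroup.commutator_normal X X
    intro q hq
    rw [hCmem]
    refine ⟨Subgroup.commutator_le_self X hq, ?_⟩
    exact hmin ⁅X, X⁆ (Subgroup.commutator_le_self X) hder_ne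
      (fun q hq => Subgroup.Normal.conj_mem inferInstance q hq g) q hq
  have hCn : C.Normal := by
    constructor
    intro c hc h
    obtain ⟨x, hx, z, hz, rfl⟩ := exists_mul_of_sup_eq_top X (Subgroup.zpowers g) htop h
    have hc' := (hCmem c).mp hc
    have h1 : z * c * z⁻¹ = c := by
      rw [hzcomm z hz c hc'.2]; group
    have h2 : x * z * c * (x * z)⁻¹ = ⁅x, c⁆ * c := by
      rw [commutatorElement_def]
      calc x * z * c * (x * z)⁻¹ = x * (z * c * z⁻¹) * x⁻¹ := by group
        _ = x * c * x⁻¹ := by rw [h1]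
        _ = x * c * x⁻¹ * c⁻¹ * c := by group
    rw [h2]
    exact C.mul_mem (hderC (Subgroup.commutator_mem_commutator hx hc'.1)) hc
  -- the subgroup `D = C_{⟨g⟩}(X)`
  obtain ⟨D, hD⟩ : ∃ D : Subgroup H,
      D = Subgroup.zpowers g ⊓ Subgroup.centralizer (X : Set H) := ⟨_, rfl⟩
  have hDmem : ∀ d, d ∈ D ↔ d ∈ Subgroup.zpowers g ∧ ∀ x ∈ X, x * d = d * x := by
    intro d
    rw [hD, Subgroup.mem_inf, Subgroup.mem_centralizer_iff]
    rfl
  have hDn : D.Normal := by
    constructor
    intro d hd h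
    obtain ⟨x, hx, z, hz, rfl⟩ := exists_mul_of_sup_eq_top X (Subgroup.zpowers g) htop h
    have hd' := (hDmem d).mp hd
    have h1 : z * d = d * z := by
      obtain ⟨i, rfl⟩ := Subgroup.mem_zpowers_iff.mp hz
      obtain ⟨j, hj⟩ := Subgroup.mem_zpowers_iff.mp hd'.1
      rw [← hj, ← zpow_add, ← zpow_add, add_comm]
    have h2 : x * z * d * (x * z)⁻¹ = d := by
      calc x * z * d * (x * z)⁻¹ = x * (z * d) * z⁻¹ * x⁻¹ := by group
        _ = x * (d * z) * z⁻¹ * x⁻¹ := by rw [h1]
        _ = (x * d) * x⁻¹ := by group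
        _ = (d * x) * x⁻¹ := by rw [hd'.2 x hx]
        _ = d := by group
    rw [h2]; exact hd
  haveI := hCn
  haveI := hDn
  have hNn : (C ⊔ D).Normal := Subgroup.sup_normal C D
  have hNX : ∀ n ∈ C ⊔ D, n ∈ X → n ∈ C := by
    intro n hn hnX
    have hn' : n ∈ ((C ⊔ D : Subgroup H) : Set H) := hn
    rw [Subgroup.normal_mul] at hn'
    obtain ⟨c, hc, d, hd, rfl⟩ := Set.mem_mul.mp hn'
    have hcX : c ∈ X := ((hCmem c).mp hc).1
    have hdX : d ∈ X := by
      have : d = c⁻¹ * (c * d) := by group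
      rw [this]; exact X.mul_mem (X.inv_mem hcX) hnX
    have hd1 : d = 1 := by
      have : d ∈ Subgroup.zpowers g ⊓ X := ⟨((hDmem d).mp hd).1, hdX⟩
      rw [hdisj.eq_bot] at this
      exact this
    rw [hd1, mul_one]; exact hc
  -- the fixed points of `g` on `X / C` are trivial
  have hclaim : ∀ x ∈ X, g * x * g⁻¹ * x⁻¹ ∈ C → x ∈ C := by
    intro x hx hcx
    obtain ⟨Q, hQ⟩ : ∃ Q : Subgroup H, Q = C ⊔ Subgroup.zpowers x := ⟨_, rfl⟩
    have hQX : Q ≤ X := by
      rw [hQ]
      exact sup_le (fun c hc => ((hCmem c).mp hc).1) (by rw [Subgroup.zpowers_le]; exact hx)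
    have hxQ : x ∈ Q := hQ ▸ Subgroup.mem_sup_right (Subgroup.mem_zpowers x)
    have hQinv : ∀ q ∈ Q, g * q * g⁻¹ ∈ Q := by
      have hmap : Q.map (MulAut.conj g).toMonoidHom ≤ Q := by
        rw [hQ, Subgroup.map_sup, MonoidHom.map_zpowers]
        apply sup_le
        · rintro _ ⟨c, hc, rfl⟩
          apply Subgroup.mem_sup_left
          simp only [MulEquiv.coe_toMonoidHom, MulAut.conj_apply]
          exact hCn.conj_mem c hc g
        · rw [Subgroup.zpowers_le]
          simp only [MulEquiv.coe_toMonoidHom, MulAut.conj_apply]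
          have : g * x * g⁻¹ = (g * x * g⁻¹ * x⁻¹) * x := by group
          rw [this]
          exact Subgroup.mul_mem _ (Subgroup.mem_sup_left hcx)
            (Subgroup.mem_sup_right (Subgroup.mem_zpowers x))
      intro q hq
      have := hmap (Subgroup.mem_map_of_mem _ hq)
      simpa using this
    by_cases hQeq : Q = X
    · exfalso
      obtain ⟨x₀, hx₀, hne⟩ := hnc
      apply hne
      obtain ⟨φ, hφ⟩ : ∃ φ : H →* H ⧸ C, φ = QuotientGroup.mk' C := ⟨_, rfl⟩
      have hker : ∀ h : H, φ h = 1 ↔ h ∈ C := by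
        intro h; rw [hφ]; exact QuotientGroup.eq_one_iff h
      have hT : Q ≤ (Subgroup.centralizer {φ g}).comap φ := by
        rw [hQ]
        apply sup_le
        · intro c hc
          rw [Subgroup.mem_comap, Subgroup.mem_centralizer_iff]
          intro h _
          rw [(hker c).mpr hc]; simp
        · rw [Subgroup.zpowers_le, Subgroup.mem_comap, Subgroup.mem_centralizer_iff]
          intro h hh
          rw [Set.mem_singleton_iff] at hh
          subst hh
          have h1 : φ (g * x * g⁻¹ * x⁻¹) = 1 := (hker _).mpr hcx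
          simp only [map_mul, map_inv] at h1
          calc φ g * φ x = (φ g * φ x * (φ g)⁻¹ * (φ x)⁻¹) * (φ x * φ g) := by group
            _ = φ x * φ g := by rw [h1, one_mul]
      have hc' : g * x₀ * g⁻¹ * x₀⁻¹ ∈ C := by
        have h1 := hT (hQeq ▸ hx₀)
        rw [Subgroup.mem_comap, Subgroup.mem_centralizer_iff] at h1
        have h2 := h1 (φ g) rfl
        rw [← hker]
        simp only [map_mul, map_inv]
        rw [h2]; group
      have hcomm : Commute (g * x₀ * g⁻¹ * x₀⁻¹) g := ((hCmem _).mp hc').2.symm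
      have h3 := commutator_eq_one_of_commute_of_coprime g x₀ hg hcomm
        (hXpow _ ((hCmem _).mp hc').1)
      calc g * x₀ = (g * x₀ * g⁻¹ * x₀⁻¹) * (x₀ * g) := by group
        _ = x₀ * g := by rw [h3, one_mul]
    · exact (hCmem x).mpr ⟨hx, hmin Q hQX hQeq hQinv x hxQ⟩
  -- the section
  refine ⟨C ⊔ D, hNn, ?_⟩
  obtain ⟨φ, hφ⟩ : ∃ φ : H →* H ⧸ (C ⊔ D), φ = QuotientGroup.mk' (C ⊔ D) := ⟨_, rfl⟩
  have hφs : Function.Surjective φ := hφ ▸ QuotientGroup.mk'_surjective _
  have hker : ∀ h : H, φ h = 1 ↔ h ∈ C ⊔ D := by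
    intro h; rw [hφ]; exact QuotientGroup.eq_one_iff h
  haveI hVn : (X.map φ).Normal := hXn.map φ hφs
  apply section_key (X.map φ) (hX.map φ) ?_ (φ g) ?_ ?_ ?_ ?_ ?_
  · -- abelian
    rintro _ ⟨x₁, hx₁, rfl⟩ _ ⟨x₂, hx₂, rfl⟩
    have h1 : φ ⁅x₁, x₂⁆ = 1 :=
      (hker _).mpr (Subgroup.mem_sup_left (hderC (Subgroup.commutator_mem_commutator hx₁ hx₂)))
    rw [map_commutatorElement, commutatorElement_eq_one_iff_mul_comm] at h1
    exact h1
  · exact Nat.Coprime.coprime_dvd_left (orderOf_map_dvd φ g) hg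
  · rw [← MonoidHom.map_zpowers, ← Subgroup.map_sup, htop, Subgroup.map_top_of_surjective φ hφs]
  · -- fixed points
    rintro _ ⟨x, hx, rfl⟩ hcomm
    rw [hker]
    apply Subgroup.mem_sup_left
    apply hclaim x hx
    apply hNX
    · rw [← hker]
      simp only [map_mul, map_inv]
      rw [hcomm]; group
    · exact X.mul_mem (hXn.conj_mem x hx g) (X.inv_mem hx)
  · -- faithful
    intro z hz hzV
    rw [← MonoidHom.map_zpowers] at hz
    obtain ⟨w, hw, rfl⟩ := hz
    rw [hker]
    apply Subgroup.mem_sup_right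
    rw [hDmem]
    refine ⟨hw, ?_⟩
    intro x hx
    have hwo : (orderOf w).Coprime p :=
      Nat.Coprime.coprime_dvd_left (orderOf_dvd_of_mem_zpowers hw) hg
    have hcN : w * x * w⁻¹ * x⁻¹ ∈ C := by
      apply hNX
      · rw [← hker]
        simp only [map_mul, map_inv]
        rw [hzV (φ x) (Subgroup.mem_map_of_mem φ hx)]; group
      · exact X.mul_mem (hXn.conj_mem x hx w) (X.inv_mem hx)
    have hcw : Commute (w * x * w⁻¹ * x⁻¹) w := by
      have := hzcomm w hw _ ((hCmem _).mp hcN).2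
      exact this.symm
    have h3 := commutator_eq_one_of_commute_of_coprime w x hwo hcw
      (hXpow _ ((hCmem _).mp hcN).1)
    calc x * w = (w * x * w⁻¹ * x⁻¹)⁻¹ * (w * x) := by group
      _ = w * x := by rw [h3, inv_one, one_mul]
  · -- `φ g ≠ 1`
    intro h1
    rw [hker] at h1
    have hg' : g ∈ ((C ⊔ D : Subgroup H) : Set H) := h1
    rw [Subgroup.normal_mul] at hg'
    obtain ⟨c, hc, d, hd, hcd⟩ := Set.mem_mul.mp hg'
    have hdz := ((hDmem d).mp hd).1
    have hc1 : c = 1 := by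
      have hcz : c ∈ Subgroup.zpowers g := by
        have : c = g * d⁻¹ := by rw [← hcd]; group
        rw [this]
        exact Subgroup.mul_mem _ (Subgroup.mem_zpowers g) (Subgroup.inv_mem _ hdz)
      have : c ∈ Subgroup.zpowers g ⊓ X := ⟨hcz, ((hCmem c).mp hc).1⟩
      rw [hdisj.eq_bot] at this
      exact this
    rw [hc1, one_mul] at hcd
    obtain ⟨x₀, hx₀, hne⟩ := hnc
    apply hne
    rw [← hcd]
    exact (((hDmem d).mp hd).2 x₀ hx₀).symm

end Cfsg.Agent.Helper70
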