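import Mathlib
import Cfsg.Agent.Lib.Helper7.CWDefs

set_option autoImplicit false

/-!
CW server (helper7, S0406), piece (DL): a self-orthogonal binary code of length 24 has
dimension at most 12.
-/

open Matrix

namespace Cfsg.Agent.Helper70.CW
open Cfsg Cfsg.Agent.Helper7.CW

/-- (DL) a self-orthogonal binary code of length 24 has dimension `≤ 12`. -/
theorem finrank_le (C : Submodule (ZMod 2) (Fin 24 → ZMod 2))
    (hO : ∀ v ∈ C, ∀ w ∈ C, ∑ i, v i * w i = 0) : Module.finrank (ZMod 2) C ≤ 12 := by
  classical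
  set B : LinearMap.BilinForm (ZMod 2) (Fin 24 → ZMod 2) :=
    Matrix.toBilin' (1 : Matrix (Fin 24) (Fin 24) (ZMod 2)) with hB
  have hBapp : ∀ x y, B x y = ∑ i, x i * y i := by
    intro x y
    rw [hB, Matrix.toBilin'_apply', Matrix.one_mulVec]
    rfl
  have hN : B.Nondegenerate :=
    (Matrix.nondegenerate_of_det_ne_zero (by rw [Matrix.det_one]; exact one_ne_zero)).toBilin'
  have hle : C ≤ B.orthogonal C := by
    intro w hw
    rw [LinearMap.BilinForm.mem_orthogonal_iff]
    intro v hv
    show B v w = 0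
    rw [hBapp]
    exact hO v hv w hw
  have h1 := LinearMap.BilinForm.finrank_orthogonal hN C
  have h2 : Module.finrank (ZMod 2) C ≤ Module.finrank (ZMod 2) (B.orthogonal C) :=
    Submodule.finrank_mono hle
  have h3 : Module.finrank (ZMod 2) (Fin 24 → ZMod 2) = 24 := by
    rw [Module.finrank_fin_fun]
  omega

end Cfsg.Agent.Helper70.CW
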