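import Mathlib

/-!
# Products of an abelian group and a class-two group: element-level Itô-type computation
-/

set_option autoImplicit false

namespace Cfsg.Agent.Helper70.AbCl2

open scoped commutatorElement

variable {G : Type*} [Group G]

theorem comm_mul_left (x y z : G) : ⁅x * y, z⁆ = x * ⁅y, z⁆ * x⁻¹ * ⁅x, z⁆ := by
  simp only [commutatorElement_def]; group

theorem comm_mul_right (x y z : G) : ⁅x, y * z⁆ = ⁅x, y⁆ * (y * ⁅x, z⁆ * y⁻¹) := by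
  simp only [commutatorElement_def]; group

theorem conj_comm (g x y : G) : g * ⁅x, y⁆ * g⁻¹ = ⁅g * x * g⁻¹, g * y * g⁻¹⁆ := by
  simp only [commutatorElement_def]; group

/-- The factorization data: `A` abelian, `B` of class at most two, `G = AB`. -/
structure Fac (A B : Subgroup G) : Prop where
  commA : ∀ x ∈ A, ∀ y ∈ A, x * y = y * x
  fac : ∀ g : G, ∃ a ∈ A, ∃ b ∈ B, g = a * b
  cl2 : ∀ x ∈ B, ∀ y ∈ B, ∀ t ∈ B, ⁅x, y⁆ * t = t * ⁅x, y⁆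

/-- `w` is a central element of `B`. -/
def IsCen (B : Subgroup G) (w : G) : Prop := w ∈ B ∧ ∀ t ∈ B, w * t = t * w

variable {A B : Subgroup G}

theorem Fac.fac' (h : Fac A B) (g : G) : ∃ b ∈ B, ∃ a ∈ A, g = b * a := by
  obtain ⟨a, ha, b, hb, e⟩ := h.fac g⁻¹
  refine ⟨b⁻¹, B.inv_mem hb, a⁻¹, A.inv_mem ha, ?_⟩
  rw [← mul_inv_rev, ← e, inv_inv]

theorem IsCen.inv {w : G} (hw : IsCen B w) : IsCen B w⁻¹ := by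
  refine ⟨B.inv_mem hw.1, fun t ht => ?_⟩
  have := hw.2 t ht
  calc w⁻¹ * t = w⁻¹ * (t * w) * w⁻¹ := by group
    _ = w⁻¹ * (w * t) * w⁻¹ := by rw [this]
    _ = t * w⁻¹ := by group

theorem conj_cen {w b : G} (hw : IsCen B w) (hb : b ∈ B) : b * w * b⁻¹ = w := by
  rw [← hw.2 b hb]; group

theorem conjB_gen (h : Fac A B) {b a w : G} (hb : b ∈ B) (ha : a ∈ A) (hw : IsCen B w) :
    ∃ a' ∈ A, b * ⁅a, w⁆ * b⁻¹ = ⁅a', w⁆ := by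
  obtain ⟨a', ha', b', hb', e⟩ := h.fac (b * a * b⁻¹)
  refine ⟨a', ha', ?_⟩
  rw [conj_comm, e, conj_cen hw hb, comm_mul_left]
  have h1 : ⁅b', w⁆ = 1 := commutatorElement_eq_one_iff_commute.2 (hw.2 b' hb').symm
  rw [h1]; group

theorem key (h : Fac A B) {a a1 w w1 : G} (ha : a ∈ A) (ha1 : a1 ∈ A) (hw : IsCen B w)
    (hw1 : IsCen B w1) :
    ∃ a3 ∈ A, ∃ b3 ∈ B, ∃ b2 ∈ B,
      ⁅⁅w1, a1⁆, a1 * (w1 * ⁅a, w⁆ * w1⁻¹) * a1⁻¹⁆ = a3 * ⁅b3, b2⁆ * a3⁻¹ := by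
  obtain ⟨b2, hb2, a2, ha2, e1⟩ := h.fac' (a1 * w * a1⁻¹)
  obtain ⟨a3, ha3, b3, hb3, e2⟩ := h.fac (w1 * a * w1⁻¹)
  refine ⟨a3, ha3, b3, hb3, b2, hb2, ?_⟩
  have E1 : ∀ x ∈ A, a1 * ⁅x, w⁆ * a1⁻¹ = ⁅x, b2⁆ := by
    intro x hx
    have h1 : a1 * x * a1⁻¹ = x := by rw [h.commA a1 ha1 x hx]; group
    have h2 : ⁅x, a2⁆ = 1 := commutatorElement_eq_one_iff_commute.2 (h.commA x hx a2 ha2)
    rw [conj_comm, e1, h1, comm_mul_right, h2]; group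
  have E2 : w1 * ⁅a, w⁆ * w1⁻¹ = ⁅a3, w⁆ := by
    have h1 : w1 * w * w1⁻¹ = w := by rw [hw1.2 w hw.1]; group
    have h2 : ⁅b3, w⁆ = 1 := commutatorElement_eq_one_iff_commute.2 (hw.2 b3 hb3).symm
    rw [conj_comm, e2, h1, comm_mul_left, h2]; group
  have E3 : w1 * ⁅a, b2⁆ * w1⁻¹ = a3 * ⁅b3, b2⁆ * a3⁻¹ * ⁅a3, b2⁆ := by
    have h1 : w1 * b2 * w1⁻¹ = b2 := by rw [hw1.2 b2 hb2]; group
    rw [conj_comm, e2, h1, comm_mul_left]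
  have hv : a1 * (w1 * ⁅a, w⁆ * w1⁻¹) * a1⁻¹ = ⁅a3, b2⁆ := by rw [E2, E1 a3 ha3]
  have hc : ⁅w1, a1⁆ * (a1 * (w1 * ⁅a, w⁆ * w1⁻¹) * a1⁻¹) * ⁅w1, a1⁆⁻¹
      = w1 * (a1 * ⁅a, w⁆ * a1⁻¹) * w1⁻¹ := by
    simp only [commutatorElement_def]; group
  rw [hv] at hc ⊢
  have hd : ⁅⁅w1, a1⁆, ⁅a3, b2⁆⁆ = (⁅w1, a1⁆ * ⁅a3, b2⁆ * ⁅w1, a1⁆⁻¹) * ⁅a3, b2⁆⁻¹ := by
    simp only [commutatorElement_def]
  rw [hd, hc, E1 a ha, E3]; group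

theorem gens_commute (h : Fac A B) (K N : Subgroup G) [hKn : K.Normal] [hNn : N.Normal]
    (hNK : ⁅N, N⁆ ≤ K) (hK : ∀ x ∈ B, ∀ y ∈ B, ⁅x, y⁆ ∈ K → ⁅x, y⁆ = 1)
    {a a1 w w1 : G} (ha : a ∈ A) (ha1 : a1 ∈ A) (hw : IsCen B w) (hw1 : IsCen B w1)
    (hwN : w ∈ N) (hw1N : w1 ∈ N) : Commute ⁅a1, w1⁆ ⁅a, w⁆ := by
  -- first the twisted form
  have step : ∀ a ∈ A, ∀ a1 ∈ A, Commute ⁅a1⁻¹, w1⁆ (w1 * ⁅a, w⁆ * w1⁻¹) := by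
    intro a ha a1 ha1
    obtain ⟨a3, ha3, b3, hb3, b2, hb2, e⟩ := key h ha ha1 hw hw1
    have hcN : ⁅w1, a1⁆ ∈ N := by
      have : ⁅w1, a1⁆ = w1 * (a1 * w1⁻¹ * a1⁻¹) := by simp only [commutatorElement_def]; group
      rw [this]
      exact N.mul_mem hw1N (hNn.conj_mem _ (N.inv_mem hw1N) a1)
    have huN : ⁅a, w⁆ ∈ N := by
      have : ⁅a, w⁆ = (a * w * a⁻¹) * w⁻¹ := by simp only [commutatorElement_def]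
      rw [this]
      exact N.mul_mem (hNn.conj_mem _ hwN a) (N.inv_mem hwN)
    have hvN : a1 * (w1 * ⁅a, w⁆ * w1⁻¹) * a1⁻¹ ∈ N :=
      hNn.conj_mem _ (hNn.conj_mem _ huN w1) a1
    have hmem : a3 * ⁅b3, b2⁆ * a3⁻¹ ∈ K := by
      rw [← e]; exact hNK (Subgroup.commutator_mem_commutator hcN hvN)
    have hd : ⁅b3, b2⁆ ∈ K := by
      have := hKn.conj_mem _ hmem a3⁻¹
      have e2 : a3⁻¹ * (a3 * ⁅b3, b2⁆ * a3⁻¹) * a3⁻¹⁻¹ = ⁅b3, b2⁆ := by group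
      rwa [e2] at this
    have hd1 := hK b3 hb3 b2 hb2 hd
    rw [hd1] at e
    have e3 : ⁅⁅w1, a1⁆, a1 * (w1 * ⁅a, w⁆ * w1⁻¹) * a1⁻¹⁆ = 1 := by rw [e]; group
    have hcomm : Commute ⁅w1, a1⁆ (a1 * (w1 * ⁅a, w⁆ * w1⁻¹) * a1⁻¹) :=
      commutatorElement_eq_one_iff_commute.1 e3
    have e4 : ⁅a1⁻¹, w1⁆ = a1⁻¹ * ⁅w1, a1⁆ * a1 := by
      simp only [commutatorElement_def]; group
    rw [e4]
    have hc' := hcomm.eq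
    show a1⁻¹ * ⁅w1, a1⁆ * a1 * (w1 * ⁅a, w⁆ * w1⁻¹) = w1 * ⁅a, w⁆ * w1⁻¹ * (a1⁻¹ * ⁅w1, a1⁆ * a1)
    calc a1⁻¹ * ⁅w1, a1⁆ * a1 * (w1 * ⁅a, w⁆ * w1⁻¹)
        = a1⁻¹ * (⁅w1, a1⁆ * (a1 * (w1 * ⁅a, w⁆ * w1⁻¹) * a1⁻¹)) * a1 := by group
      _ = a1⁻¹ * ((a1 * (w1 * ⁅a, w⁆ * w1⁻¹) * a1⁻¹) * ⁅w1, a1⁆) * a1 := by rw [hc']
      _ = w1 * ⁅a, w⁆ * w1⁻¹ * (a1⁻¹ * ⁅w1, a1⁆ * a1) := by group
  obtain ⟨a', ha', e⟩ := conjB_gen h (B.inv_mem hw1.1) ha hw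
  have e' : ⁅a, w⁆ = w1 * ⁅a', w⁆ * w1⁻¹ := by rw [← e]; group
  rw [e']
  have := step a' ha' a1⁻¹ (A.inv_mem ha1)
  rwa [inv_inv] at this

end Cfsg.Agent.Helper70.AbCl2
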