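import Mathlib
import Cfsg.Agent.Lib.Helper70.AbCl2A

/-!
# Products of an abelian group and a class-two group: the normal closure of an element of `B'`
-/

set_option autoImplicit false

namespace Cfsg.Agent.Helper70.AbCl2

open scoped commutatorElement

variable {G : Type*} [Group G] {A B : Subgroup G}

theorem isCen_of_mem_commutator (h : Fac A B) {w : G} (hw : w ∈ ⁅B, B⁆) : IsCen B w := by
  have hle : ⁅B, B⁆ ≤ B ⊓ Subgroup.centralizer (B : Set G) := by
    rw [Subgroup.commutator_le]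
    intro x hx y hy
    refine Subgroup.mem_inf.2 ⟨?_, ?_⟩
    · rw [commutatorElement_def]
      exact B.mul_mem (B.mul_mem (B.mul_mem hx hy) (B.inv_mem hx)) (B.inv_mem hy)
    · rw [Subgroup.mem_centralizer_iff]
      intro t ht
      exact (h.cl2 x hx y hy t ht).symm
  have := hle hw
  rw [Subgroup.mem_inf, Subgroup.mem_centralizer_iff] at this
  exact ⟨this.1, fun t ht => (this.2 t ht).symm⟩

/-- The generating set of `[A, Z]`. -/
def genSet (A : Subgroup G) (z : G) : Set G :=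
  {g | ∃ a ∈ A, ∃ w ∈ Subgroup.zpowers z, g = ⁅a, w⁆}

/-- `M = [A, ⟨z⟩]`. -/
def Msub (A : Subgroup G) (z : G) : Subgroup G := Subgroup.closure (genSet A z)

theorem Msub_normal (h : Fac A B) {z : G} (hz : z ∈ ⁅B, B⁆) : (Msub A z).Normal := by
  have hZ : ∀ w ∈ Subgroup.zpowers z, IsCen B w := fun w hw =>
    isCen_of_mem_commutator h ((Subgroup.zpowers_le.2 hz) hw)
  have key : ∀ g : G, Msub A z ≤ (Msub A z).comap (MulAut.conj g).toMonoidHom := by
    intro g
    unfold Msub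
    rw [Subgroup.closure_le]
    rintro s ⟨a, ha, w, hw, rfl⟩
    show (MulAut.conj g) ⁅a, w⁆ ∈ Subgroup.closure (genSet A z)
    rw [MulAut.conj_apply]
    obtain ⟨a', ha', b', hb', e⟩ := h.fac g
    obtain ⟨a'', ha'', e2⟩ := conjB_gen h hb' ha (hZ w hw)
    have e3 : g * ⁅a, w⁆ * g⁻¹ = ⁅a' * a'', w⁆ * ⁅a', w⁆⁻¹ := by
      rw [comm_mul_left, ← e2, e]; group
    rw [e3]
    refine Subgroup.mul_mem _ (Subgroup.subset_closure ⟨a' * a'', A.mul_mem ha' ha'', w, hw, rfl⟩)
      (Subgroup.inv_mem _ (Subgroup.subset_closure ⟨a', ha', w, hw, rfl⟩))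
  exact ⟨fun m hm g => key g hm⟩

theorem derived_abelian (h : Fac A B) {z : G} (hz : z ∈ ⁅B, B⁆)
    (hK : ∀ x ∈ B, ∀ y ∈ B,
      ⁅x, y⁆ ∈ ⁅Subgroup.normalClosure ({z} : Set G), Subgroup.normalClosure ({z} : Set G)⁆ →
        ⁅x, y⁆ = 1) :
    ⁅⁅Subgroup.normalClosure ({z} : Set G), Subgroup.normalClosure ({z} : Set G)⁆,
      ⁅Subgroup.normalClosure ({z} : Set G), Subgroup.normalClosure ({z} : Set G)⁆⁆ = ⊥ := by
  set N := Subgroup.normalClosure ({z} : Set G) with hN
  have hzN : z ∈ N := Subgroup.subset_normalClosure (Set.mem_singleton z)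
  have hZN : Subgroup.zpowers z ≤ N := Subgroup.zpowers_le.2 hzN
  have hZ : ∀ w ∈ Subgroup.zpowers z, IsCen B w := fun w hw =>
    isCen_of_mem_commutator h ((Subgroup.zpowers_le.2 hz) hw)
  -- generators commute
  have hcomm : ∀ x ∈ genSet A z, ∀ y ∈ genSet A z, x * y = y * x := by
    rintro x ⟨a1, ha1, w1, hw1, rfl⟩ y ⟨a, ha, w, hw, rfl⟩
    exact (gens_commute h ⁅N, N⁆ N le_rfl hK ha ha1 (hZ w hw) (hZ w1 hw1) (hZN hw) (hZN hw1)).eq
  -- M abelian
  have hMab : ∀ x ∈ Msub A z, ∀ y ∈ Msub A z, x * y = y * x := by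
    intro x hx y hy
    have := (Subgroup.closureCommGroupOfComm hcomm).mul_comm ⟨x, hx⟩ ⟨y, hy⟩
    exact congrArg Subtype.val this
  have hMn : (Msub A z).Normal := Msub_normal h hz
  -- N' ≤ M
  have hcen : ∀ g : G, ⁅g, z⁆ ∈ Msub A z := by
    intro g
    obtain ⟨a, ha, b, hb, e⟩ := h.fac g
    have h1 : ⁅b, z⁆ = 1 :=
      commutatorElement_eq_one_iff_commute.2 ((isCen_of_mem_commutator h hz).2 b hb).symm
    have : ⁅g, z⁆ = ⁅a, z⁆ := by rw [e, comm_mul_left, h1]; group
    rw [this]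
    exact Subgroup.subset_closure ⟨a, ha, z, Subgroup.mem_zpowers z, rfl⟩
  have hNle : N ≤ (Subgroup.center (G ⧸ Msub A z)).comap (QuotientGroup.mk' (Msub A z)) := by
    apply Subgroup.normalClosure_le_normal
    rintro x hx
    rw [Set.mem_singleton_iff] at hx
    rw [hx]
    show (QuotientGroup.mk' (Msub A z)) z ∈ Subgroup.center (G ⧸ Msub A z)
    rw [Subgroup.mem_center_iff]
    intro q
    obtain ⟨g, rfl⟩ := QuotientGroup.mk'_surjective (Msub A z) q
    have : (QuotientGroup.mk' (Msub A z)) ⁅g, z⁆ = 1 :=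
      (QuotientGroup.eq_one_iff _).2 (hcen g)
    rw [map_commutatorElement, commutatorElement_eq_one_iff_commute] at this
    exact this.eq
  have hN'M : ⁅N, N⁆ ≤ Msub A z := by
    rw [Subgroup.commutator_le]
    intro x hx y hy
    rw [← QuotientGroup.eq_one_iff, ← QuotientGroup.mk'_apply, map_commutatorElement,
      commutatorElement_eq_one_iff_commute]
    have := hNle hx
    rw [Subgroup.mem_comap, Subgroup.mem_center_iff] at this
    exact (this _).symm
  rw [eq_bot_iff]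
  refine le_trans (Subgroup.commutator_mono hN'M hN'M) ?_
  rw [Subgroup.commutator_le]
  intro x hx y hy
  rw [Subgroup.mem_bot, commutatorElement_eq_one_iff_commute]
  exact hMab x hx y hy

end Cfsg.Agent.Helper70.AbCl2
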