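import Mathlib
import Cfsg.Agent.Lib.Helper70.AbCl2B
import Cfsg.Agent.S0564
import Cfsg.Agent.S0572

/-!
# Products of an abelian group and a class-two group: the derived length bound
-/

set_option autoImplicit false

namespace Cfsg.Agent.Helper70.AbCl2

open scoped commutatorElement

universe u

theorem omega_lt_of_dvd_of_lt {m n : ℕ} (hn : 0 < n) (hd : m ∣ n) (hlt : m < n) :
    m.primeFactorsList.length < n.primeFactorsList.length := by
  obtain ⟨k, rfl⟩ := hd
  have hm : m ≠ 0 := by rintro rfl; simp at hn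
  have hk : k ≠ 0 := by rintro rfl; simp at hn
  have hk2 : 2 ≤ k := by
    by_contra hcon
    have : k = 1 := by omega
    subst this; simp at hlt
  have h1 := (Nat.perm_primeFactorsList_mul hm hk).length_eq
  rw [h1, List.length_append]
  have : k.primeFactorsList ≠ [] := by
    intro h0
    rw [Nat.primeFactorsList_eq_nil] at h0
    omega
  have := List.length_pos_iff.2 this
  omega

variable {G : Type u} [Group G] {A B : Subgroup G}

theorem Fac.map (h : Fac A B) (N : Subgroup G) [N.Normal] :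
    Fac (A.map (QuotientGroup.mk' N)) (B.map (QuotientGroup.mk' N)) := by
  refine ⟨?_, ?_, ?_⟩
  · rintro _ ⟨x, hx, rfl⟩ _ ⟨y, hy, rfl⟩
    rw [← map_mul, ← map_mul, h.commA x hx y hy]
  · intro q
    obtain ⟨g, rfl⟩ := QuotientGroup.mk'_surjective N q
    obtain ⟨a, ha, b, hb, e⟩ := h.fac g
    exact ⟨_, ⟨a, ha, rfl⟩, _, ⟨b, hb, rfl⟩, by rw [e, map_mul]⟩
  · rintro _ ⟨x, hx, rfl⟩ _ ⟨y, hy, rfl⟩ _ ⟨t, ht, rfl⟩
    rw [← map_commutatorElement, ← map_mul, ← map_mul, h.cl2 x hx y hy t ht]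

theorem Fac.nilpotentA (h : Fac A B) : Group.IsNilpotent A := by
  refine ⟨⟨1, ?_⟩⟩
  rw [upperCentralSeries_one, eq_top_iff]
  intro x _
  rw [Subgroup.mem_center_iff]
  intro g
  exact Subtype.ext (h.commA g g.2 x x.2)

theorem Fac.nilpotentB (h : Fac A B) : Group.IsNilpotent B := by
  refine ⟨⟨2, ?_⟩⟩
  rw [eq_top_iff]
  intro x _
  rw [show (2 : ℕ) = 1 + 1 from rfl, mem_upperCentralSeries_succ_iff]
  intro y
  rw [upperCentralSeries_one, Subgroup.mem_center_iff]
  intro g
  apply Subtype.ext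
  have := h.cl2 x x.2 y y.2 g g.2
  simp only [commutatorElement_def] at this ⊢
  simpa using this.symm

theorem ito_case [Finite G] (h : Fac A B) (hB : ⁅B, B⁆ = ⊥) (n : ℕ) :
    derivedSeries G (2 * (1 + n)) = ⊥ := by
  have : IsMulCommutative A := ⟨⟨fun x y => Subtype.ext (h.commA x x.2 y y.2)⟩⟩
  have : IsMulCommutative B := ⟨⟨fun x y => by
    apply Subtype.ext
    have : ⁅(x : G), (y : G)⁆ ∈ ⁅B, B⁆ := Subgroup.commutator_mem_commutator x.2 y.2
    rw [hB, Subgroup.mem_bot, commutatorElement_eq_one_iff_commute] at this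
    exact this.eq⟩⟩
  have h2 := Cfsg.Agent.S0572.result A B h.fac
  rw [eq_bot_iff, ← h2]
  exact derivedSeries_antitone G (by omega)

theorem main_aux : ∀ (n : ℕ) (G : Type u) [Group G] [Finite G] (A B : Subgroup G), Fac A B →
    (Nat.card ↥⁅B, B⁆).primeFactorsList.length ≤ n → derivedSeries G (2 * (1 + n)) = ⊥ := by
  intro n
  induction n with
  | zero =>
    intro G _ _ A B h hn
    apply ito_case h
    have h0 : (Nat.card ↥⁅B, B⁆).primeFactorsList = [] := List.length_eq_zero_iff.1 (by omega)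
    rw [Nat.primeFactorsList_eq_nil] at h0
    have hpos : 0 < Nat.card ↥⁅B, B⁆ := Nat.card_pos
    have h1 : Nat.card ↥⁅B, B⁆ = 1 := by omega
    exact Subgroup.card_eq_one.1 h1
  | succ n ih =>
    intro G _ _ A B h hn
    by_cases hB' : ⁅B, B⁆ = ⊥
    · exact ito_case h hB' (n + 1)
    -- choose z
    have hne : ({z : G | z ∈ ⁅B, B⁆ ∧ z ≠ 1} : Set G).Nonempty := by
      by_contra hcon
      rw [Set.not_nonempty_iff_eq_empty] at hcon
      apply hB'
      rw [eq_bot_iff]
      intro x hx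
      rw [Subgroup.mem_bot]
      by_contra hx1
      have : x ∈ ({z : G | z ∈ ⁅B, B⁆ ∧ z ≠ 1} : Set G) := ⟨hx, hx1⟩
      rw [hcon] at this
      exact this
    obtain ⟨z, ⟨hz, hz1⟩, hmin⟩ := Set.exists_min_image _
      (fun z : G => Nat.card ↥(Subgroup.normalClosure ({z} : Set G))) (Set.toFinite _) hne
    set N := Subgroup.normalClosure ({z} : Set G) with hN
    have hzN : z ∈ N := Subgroup.subset_normalClosure (Set.mem_singleton z)
    have hsol : Group.IsSolvable G :=
      Cfsg.Agent.S0564.result A B h.nilpotentA h.nilpotentB h.fac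
    have hNbot : N ≠ ⊥ := by
      intro hb
      rw [hb, Subgroup.mem_bot] at hzN
      exact hz1 hzN
    have hlt : ⁅N, N⁆ < N := Group.IsSolvable.commutator_lt_of_ne_bot hNbot
    have hK : ∀ x ∈ B, ∀ y ∈ B, ⁅x, y⁆ ∈ ⁅N, N⁆ → ⁅x, y⁆ = 1 := by
      intro x hx y hy hmem
      by_contra hd1
      have hdB : ⁅x, y⁆ ∈ ⁅B, B⁆ := Subgroup.commutator_mem_commutator hx hy
      have h1 := hmin ⁅x, y⁆ ⟨hdB, hd1⟩
      have h2 : Subgroup.normalClosure ({⁅x, y⁆} : Set G) ≤ ⁅N, N⁆ :=
        Subgroup.normalClosure_le_normal (by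
          intro t ht
          rw [Set.mem_singleton_iff] at ht
          rw [ht]; exact hmem)
      have h3 : Nat.card ↥N ≤ Nat.card ↥⁅N, N⁆ :=
        le_trans h1 (Subgroup.card_le_of_le h2)
      exact absurd (Subgroup.eq_of_le_of_card_ge hlt.le h3) hlt.ne
    have hab := derived_abelian h hz hK
    -- the quotient
    have hF := h.map N
    have hmapc : ⁅B.map (QuotientGroup.mk' N), B.map (QuotientGroup.mk' N)⁆ =
        (⁅B, B⁆).map (QuotientGroup.mk' N) := (Subgroup.map_commutator B B _).symm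
    have hdvd : Nat.card ↥((⁅B, B⁆).map (QuotientGroup.mk' N)) ∣ Nat.card ↥⁅B, B⁆ :=
      Subgroup.card_map_dvd _ _
    have hlt2 : Nat.card ↥((⁅B, B⁆).map (QuotientGroup.mk' N)) < Nat.card ↥⁅B, B⁆ := by
      by_contra hge
      rw [not_lt] at hge
      have hbij := ((QuotientGroup.mk' N).subgroupMap_surjective ⁅B, B⁆).bijective_of_nat_card_le hge
      have h1 : (QuotientGroup.mk' N).subgroupMap ⁅B, B⁆ ⟨z, hz⟩ =
          (QuotientGroup.mk' N).subgroupMap ⁅B, B⁆ 1 := by
        apply Subtype.ext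
        rw [map_one]
        show (QuotientGroup.mk' N) z = 1
        exact (QuotientGroup.eq_one_iff z).2 hzN
      have h2 := hbij.1 h1
      exact hz1 (congrArg Subtype.val h2)
    have hom := omega_lt_of_dvd_of_lt Nat.card_pos hdvd hlt2
    have hq := ih (G ⧸ N) (A.map (QuotientGroup.mk' N)) (B.map (QuotientGroup.mk' N)) hF
      (by rw [hmapc]; omega)
    have hle : derivedSeries G (2 * (1 + n)) ≤ N := by
      have := map_derivedSeries_eq (QuotientGroup.mk'_surjective N) (2 * (1 + n))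
      rw [hq, Subgroup.map_eq_bot_iff, QuotientGroup.ker_mk'] at this
      exact this
    have e : 2 * (1 + (n + 1)) = (2 * (1 + n)) + 1 + 1 := by ring
    rw [e, derivedSeries_succ, derivedSeries_succ, eq_bot_iff, ← hab]
    exact Subgroup.commutator_mono (Subgroup.commutator_mono hle hle)
      (Subgroup.commutator_mono hle hle)

end Cfsg.Agent.Helper70.AbCl2
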