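import Mathlib
import Cfsg.Agent.Lib.Helper33.Syl

set_option autoImplicit false
set_option linter.style.haveILetI false
set_option linter.unusedSectionVars false

/-!
# Alperin's fusion theorem, original form

Tame Sylow intersections `P ⊓ Q`, factors that are `p`-elements of `N_G(P ⊓ Q)`,
and a final element of `N_G(P)`.  Left conjugation convention: `MulAut.conj g • K = g K g⁻¹`.
-/

open Pointwise

namespace Cfsg.Agent.Helper70

open Cfsg.Agent.Helper33

variable {G : Type*} [Group G]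

/-- `P ⊓ Q` is a tame intersection: both `N_P(P ⊓ Q)` and `N_Q(P ⊓ Q)` have index prime to `p`
in `N_G(P ⊓ Q)`.  Stated exactly as in the frozen statements. -/
def IsTame (p : ℕ) (P Q : Subgroup G) : Prop :=
  ¬ p ∣ (P ⊓ Subgroup.normalizer ((P ⊓ Q : Subgroup G) : Set G)).relIndex
      (Subgroup.normalizer ((P ⊓ Q : Subgroup G) : Set G)) ∧
  ¬ p ∣ (Q ⊓ Subgroup.normalizer ((P ⊓ Q : Subgroup G) : Set G)).relIndex
      (Subgroup.normalizer ((P ⊓ Q : Subgroup G) : Set G))

/-- `x` has `p`-power order. -/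
def IsPElt (p : ℕ) (x : G) : Prop := ∃ k : ℕ, orderOf x = p ^ k

theorem IsPElt.inv {p : ℕ} {x : G} (h : IsPElt p x) : IsPElt p x⁻¹ := by
  obtain ⟨k, hk⟩ := h
  exact ⟨k, by rw [orderOf_inv, hk]⟩

/-- `AlpChain p P K g`: conjugation by `g` on `K` is a composite of conjugations by `p`-elements
`x_i ∈ N_G(P ⊓ Q_i)` for tame intersections `P ⊓ Q_i`, the successive images of `K` staying in
`P ⊓ Q_i`; here `g = x_n ⋯ x_1` (left conjugation). -/
inductive AlpChain (p : ℕ) (P : Subgroup G) : Subgroup G → G → Prop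
  | refl (K : Subgroup G) : AlpChain p P K 1
  | step (K : Subgroup G) (Q : Sylow p G) (x g : G) :
      IsTame p P (Q : Subgroup G) →
      x ∈ Subgroup.normalizer ((P ⊓ (Q : Subgroup G) : Subgroup G) : Set G) →
      IsPElt p x → K ≤ P ⊓ (Q : Subgroup G) →
      AlpChain p P (MulAut.conj x • K) g → AlpChain p P K (g * x)

theorem AlpChain.mono {p : ℕ} {P K K' : Subgroup G} {g : G} (h : AlpChain p P K g)
    (hK : K' ≤ K) : AlpChain p P K' g := by
  induction h generalizing K' with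
  | refl K => exact AlpChain.refl K'
  | step K Q x g ht hx hp hle _ ih =>
    exact AlpChain.step K' Q x g ht hx hp (hK.trans hle) (ih (conj_smul_le_conj_smul hK))

theorem AlpChain.trans {p : ℕ} {P K : Subgroup G} {g h : G} (h1 : AlpChain p P K g)
    (h2 : AlpChain p P (MulAut.conj g • K) h) : AlpChain p P K (h * g) := by
  induction h1 generalizing h with
  | refl K =>
    rw [mul_one]
    simpa using h2
  | step K Q x g ht hx hp hle _ ih =>
    rw [← mul_assoc]
    refine AlpChain.step K Q x (h * g) ht hx hp hle (ih ?_)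
    rwa [conj_mul_smul] at h2

theorem AlpChain.conj_le {p : ℕ} {P K : Subgroup G} {g : G} (h : AlpChain p P K g)
    (hK : K ≤ P) : MulAut.conj g • K ≤ P := by
  induction h with
  | refl K => simpa using hK
  | step K Q x g ht hx hp hle _ ih =>
    rw [conj_mul_smul]
    apply ih
    calc MulAut.conj x • K ≤ MulAut.conj x • (P ⊓ (Q : Subgroup G)) := conj_smul_le_conj_smul hle
      _ = P ⊓ (Q : Subgroup G) := smul_eq_of_mem_normalizer hx
      _ ≤ P := inf_le_left

theorem AlpChain.single {p : ℕ} {P K : Subgroup G} (Q : Sylow p G) {x : G}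
    (ht : IsTame p P (Q : Subgroup G))
    (hx : x ∈ Subgroup.normalizer ((P ⊓ (Q : Subgroup G) : Subgroup G) : Set G))
    (hp : IsPElt p x) (hK : K ≤ P ⊓ (Q : Subgroup G)) : AlpChain p P K x := by
  have := AlpChain.step K Q x 1 ht hx hp hK (AlpChain.refl _)
  rwa [one_mul] at this

/-- Products of `p`-elements of `N_G(P ⊓ R)`, for a tame intersection `P ⊓ R`. -/
theorem AlpChain.of_mem_closure {p : ℕ} {P : Subgroup G} (R : Sylow p G)
    (ht : IsTame p P (R : Subgroup G)) {y : G}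
    (hy : y ∈ Subgroup.closure {x : G | x ∈ Subgroup.normalizer
      ((P ⊓ (R : Subgroup G) : Subgroup G) : Set G) ∧ IsPElt p x}) :
    y ∈ Subgroup.normalizer ((P ⊓ (R : Subgroup G) : Subgroup G) : Set G) ∧
      AlpChain p P (P ⊓ (R : Subgroup G)) y ∧ AlpChain p P (P ⊓ (R : Subgroup G)) y⁻¹ := by
  induction hy using Subgroup.closure_induction with
  | mem x hx =>
    exact ⟨hx.1, AlpChain.single R ht hx.1 hx.2 le_rfl,
      AlpChain.single R ht (inv_mem hx.1) hx.2.inv le_rfl⟩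
  | one =>
    refine ⟨one_mem _, AlpChain.refl _, ?_⟩
    rw [inv_one]
    exact AlpChain.refl _
  | mul x y _ _ hx hy =>
    obtain ⟨nx, cx, cx'⟩ := hx
    obtain ⟨ny, cy, cy'⟩ := hy
    refine ⟨mul_mem nx ny, ?_, ?_⟩
    · refine cy.trans ?_
      rw [smul_eq_of_mem_normalizer ny]
      exact cx
    · rw [mul_inv_rev]
      refine cx'.trans ?_
      rw [smul_eq_of_mem_normalizer (inv_mem nx)]
      exact cy'
  | inv x _ hx =>
    obtain ⟨nx, cx, cx'⟩ := hx
    exact ⟨inv_mem nx, cx', by rwa [inv_inv]⟩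

section fin

variable [Finite G] {p : ℕ} [Fact p.Prime]

/-- `Q ~ P via z` in Alperin's sense. -/
def AlpRel (P Q : Sylow p G) (z : G) : Prop :=
  AlpChain p (P : Subgroup G) ((P : Subgroup G) ⊓ (Q : Subgroup G)) z ∧
    MulAut.conj z • (Q : Subgroup G) = (P : Subgroup G)

theorem AlpRel.trans' {P Q S : Sylow p G} {x z : G}
    (hle : (P : Subgroup G) ⊓ (Q : Subgroup G) ≤ (S : Subgroup G))
    (h1 : AlpRel P S x) (h2 : AlpRel P (x • Q) z) : AlpRel P Q (z * x) := by
  have c1 : AlpChain p (P : Subgroup G) ((P : Subgroup G) ⊓ (Q : Subgroup G)) x :=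
    h1.1.mono (le_inf inf_le_left hle)
  have c1le : MulAut.conj x • ((P : Subgroup G) ⊓ (Q : Subgroup G)) ≤ (P : Subgroup G) :=
    c1.conj_le inf_le_left
  have c2 : AlpChain p (P : Subgroup G) (MulAut.conj x • ((P : Subgroup G) ⊓ (Q : Subgroup G))) z := by
    refine h2.1.mono (le_inf c1le ?_)
    rw [Sylow.coe_subgroup_smul]
    exact conj_smul_le_conj_smul inf_le_right
  refine ⟨c1.trans c2, ?_⟩
  rw [conj_mul_smul, ← Sylow.coe_subgroup_smul]
  exact h2.2

theorem alpRel_self (P : Sylow p G) : AlpRel P P 1 :=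
  ⟨AlpChain.refl _, by simp⟩

theorem sylow_eq_of_inf_eq {P Q : Sylow p G}
    (h : (P : Subgroup G) ⊓ (Q : Subgroup G) = (P : Subgroup G)) : Q = P := by
  have hle : (P : Subgroup G) ≤ (Q : Subgroup G) := inf_eq_left.mp h
  exact (Sylow.ext (P.is_maximal' Q.isPGroup' hle)).symm ▸ rfl

theorem card_lt_card_of_lt {H K : Subgroup G} (h : H < K) : Nat.card H < Nat.card K := by
  rcases (Subgroup.card_le_of_le h.le).lt_or_eq with h1 | h1
  · exact h1
  · exact absurd (Subgroup.eq_of_le_of_card_ge h.le h1.ge) h.ne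

/-- Two Sylow `p`-subgroups of `N` are conjugate under the subgroup generated by the
`p`-elements of `N`. -/
theorem exists_conj_eq_mem_closure {T T' N : Subgroup G} (h : IsSylIn p T N)
    (h' : IsSylIn p T' N) :
    ∃ y ∈ Subgroup.closure {x : G | x ∈ N ∧ IsPElt p x}, MulAut.conj y • T' = T := by
  obtain ⟨M, hM⟩ : ∃ M : Subgroup G, M = Subgroup.closure {x : G | x ∈ N ∧ IsPElt p x} :=
    ⟨_, rfl⟩
  have hMN : M ≤ N := by
    rw [hM, Subgroup.closure_le]
    intro x hx
    exact hx.1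
  have hle : ∀ U : Subgroup G, IsPGroup p U → U ≤ N → U ≤ M := by
    intro U hU hUN t ht
    rw [hM]
    apply Subgroup.subset_closure
    refine ⟨hUN ht, ?_⟩
    obtain ⟨k, hk⟩ := (IsPGroup.iff_orderOf.mp hU) ⟨t, ht⟩
    exact ⟨k, by rw [← hk]; exact (Subgroup.orderOf_mk t ht).symm⟩
  have h1 := h.of_le (hle T h.isPGroup h.le) hMN
  have h2 := h'.of_le (hle T' h'.isPGroup h'.le) hMN
  obtain ⟨y, hy, hyT⟩ := h1.exists_conj_eq h2
  exact ⟨y, hM ▸ hy, hyT⟩

theorem isSylIn_inf_normalizer_of_le {S T N : Subgroup G} (hS : IsPGroup p S)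
    (hT : IsSylIn p T N) (hTS : T ≤ S) : S ⊓ N = T :=
  hT.eq_of_le (hS.to_le inf_le_left) inf_le_right (le_inf hTS hT.le)

/-- Main induction of Alperin's theorem. -/
theorem exists_alpRel_aux (P : Sylow p G) : ∀ n : ℕ, ∀ Q : Sylow p G,
    Nat.card (P : Subgroup G) - Nat.card ((P : Subgroup G) ⊓ (Q : Subgroup G) : Subgroup G) = n →
      ∃ z, AlpRel P Q z := by
  intro n
  induction n using Nat.strong_induction_on with
  | _ n IH =>
  have hcardle : ∀ S : Sylow p G,
      Nat.card ((P : Subgroup G) ⊓ (S : Subgroup G) : Subgroup G) ≤ Nat.card (P : Subgroup G) :=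
    fun S => Subgroup.card_le_of_le inf_le_left
  have IH' : ∀ Q S : Sylow p G,
      Nat.card (P : Subgroup G) - Nat.card ((P : Subgroup G) ⊓ (Q : Subgroup G) : Subgroup G) = n →
      Nat.card ((P : Subgroup G) ⊓ (Q : Subgroup G) : Subgroup G) <
        Nat.card ((P : Subgroup G) ⊓ (S : Subgroup G) : Subgroup G) → ∃ z, AlpRel P S z := by
    intro Q S hn hlt
    have h1 := hcardle S
    have h2 := hcardle Q
    exact IH _ (by omega) S rfl
  -- Claim A: the case where `N_P(P ⊓ Q)` is Sylow in `N_G(P ⊓ Q)`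
  have claimA : ∀ Q : Sylow p G,
      Nat.card (P : Subgroup G) - Nat.card ((P : Subgroup G) ⊓ (Q : Subgroup G) : Subgroup G) = n →
      IsSylIn p ((P : Subgroup G) ⊓ Subgroup.normalizer
        (((P : Subgroup G) ⊓ (Q : Subgroup G) : Subgroup G) : Set G))
        (Subgroup.normalizer (((P : Subgroup G) ⊓ (Q : Subgroup G) : Subgroup G) : Set G)) →
      ∃ z, AlpRel P Q z := by
    intro Q hn hsyl
    by_cases hHP : (P : Subgroup G) ⊓ (Q : Subgroup G) = (P : Subgroup G)
    · rw [sylow_eq_of_inf_eq hHP]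
      exact ⟨1, alpRel_self P⟩
    obtain ⟨H, hH⟩ : ∃ H : Subgroup G, H = (P : Subgroup G) ⊓ (Q : Subgroup G) := ⟨_, rfl⟩
    rw [← hH] at hsyl hHP
    obtain ⟨N, hN⟩ : ∃ N : Subgroup G, N = Subgroup.normalizer (H : Set G) := ⟨_, rfl⟩
    rw [← hN] at hsyl
    have hHQ : H ≠ (Q : Subgroup G) := by
      intro h
      apply hHP
      have hQP : (Q : Subgroup G) ≤ (P : Subgroup G) := by
        rw [← h, hH]; exact inf_le_left
      have := Q.is_maximal' P.isPGroup' hQP
      rw [h, this]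
    have hgrowQ : H < (Q : Subgroup G) ⊓ N := by
      rw [hN]
      exact IsSylIn.normalizer_growth Q.isPGroup' (hH ▸ inf_le_right) hHQ
    have hgrowP : H < (P : Subgroup G) ⊓ N := by
      rw [hN]
      exact IsSylIn.normalizer_growth P.isPGroup' (hH ▸ inf_le_left) hHP
    obtain ⟨T, hT, hQT⟩ := exists_isSylIn_ge (p := p) (Q := (Q : Subgroup G) ⊓ N) (H := N)
      (Q.isPGroup'.to_le inf_le_left) inf_le_right
    obtain ⟨R, hTR⟩ := hT.isPGroup.exists_le_sylow
    have hHT : H ≤ T := hgrowQ.le.trans hQT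
    have hHPR : H ≤ (P : Subgroup G) ⊓ (R : Subgroup G) :=
      le_inf (hH ▸ inf_le_left) (hHT.trans hTR)
    -- `R ~ P`
    have hR : ∃ z, AlpRel P R z := by
      by_cases hlt : Nat.card H < Nat.card ((P : Subgroup G) ⊓ (R : Subgroup G) : Subgroup G)
      · exact IH' Q R hn (hH ▸ hlt)
      · have hPR : (P : Subgroup G) ⊓ (R : Subgroup G) = H :=
          (Subgroup.eq_of_le_of_card_ge hHPR (not_lt.mp hlt)).symm
        have hRN : (R : Subgroup G) ⊓ N = T := isSylIn_inf_normalizer_of_le R.isPGroup' hT hTR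
        have htame : IsTame p (P : Subgroup G) (R : Subgroup G) := by
          unfold IsTame
          rw [hPR, ← hN, hRN]
          exact ⟨hsyl.not_dvd, hT.not_dvd⟩
        obtain ⟨y, hy, hyT⟩ := exists_conj_eq_mem_closure hsyl hT
        have hy' : y ∈ Subgroup.closure {x : G | x ∈ Subgroup.normalizer
            (((P : Subgroup G) ⊓ (R : Subgroup G) : Subgroup G) : Set G) ∧ IsPElt p x} := by
          rw [hPR, ← hN]; exact hy
        obtain ⟨hyN, cy, -⟩ := AlpChain.of_mem_closure R htame hy'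
        rw [hPR] at hyN cy
        have hPNR' : (P : Subgroup G) ⊓ N ≤ ((y • R : Sylow p G) : Subgroup G) := by
          rw [Sylow.coe_subgroup_smul, ← hyT]
          exact conj_smul_le_conj_smul hTR
        have hlt' : Nat.card H <
            Nat.card ((P : Subgroup G) ⊓ ((y • R : Sylow p G) : Subgroup G) : Subgroup G) :=
          lt_of_lt_of_le (card_lt_card_of_lt hgrowP)
            (Subgroup.card_le_of_le (le_inf inf_le_left hPNR'))
        obtain ⟨z', hz'⟩ := IH' Q (y • R) hn (hH ▸ hlt')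
        refine ⟨z' * y, ?_, ?_⟩
        · rw [hPR]
          refine cy.trans ?_
          rw [smul_eq_of_mem_normalizer hyN]
          exact hz'.1.mono (le_inf (hH ▸ inf_le_left) (hgrowP.le.trans hPNR'))
        · rw [conj_mul_smul, ← Sylow.coe_subgroup_smul]
          exact hz'.2
    obtain ⟨z, hz⟩ := hR
    -- now `Q ~ P`
    have hQR : (Q : Subgroup G) ⊓ N ≤ (Q : Subgroup G) ⊓ (R : Subgroup G) :=
      le_inf inf_le_left (hQT.trans hTR)
    have hle2 : MulAut.conj z • ((Q : Subgroup G) ⊓ (R : Subgroup G)) ≤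
        (P : Subgroup G) ⊓ ((z • Q : Sylow p G) : Subgroup G) := by
      refine le_inf ?_ ?_
      · rw [← hz.2]
        exact conj_smul_le_conj_smul inf_le_right
      · rw [Sylow.coe_subgroup_smul]
        exact conj_smul_le_conj_smul inf_le_left
    have hlt2 : Nat.card ((P : Subgroup G) ⊓ (Q : Subgroup G) : Subgroup G) <
        Nat.card ((P : Subgroup G) ⊓ ((z • Q : Sylow p G) : Subgroup G) : Subgroup G) := by
      rw [← hH]
      calc Nat.card H < Nat.card ((Q : Subgroup G) ⊓ N : Subgroup G) := card_lt_card_of_lt hgrowQ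
        _ ≤ Nat.card ((Q : Subgroup G) ⊓ (R : Subgroup G) : Subgroup G) :=
          Subgroup.card_le_of_le hQR
        _ = Nat.card (MulAut.conj z • ((Q : Subgroup G) ⊓ (R : Subgroup G)) : Subgroup G) :=
          (card_conj_smul z _).symm
        _ ≤ _ := Subgroup.card_le_of_le hle2
    obtain ⟨z'', hz''⟩ := IH' Q (z • Q) hn hlt2
    exact ⟨z'' * z, AlpRel.trans' (hH ▸ hHPR.trans inf_le_right) hz hz''⟩
  -- Claim B: general case
  intro Q hn
  by_cases hHP : (P : Subgroup G) ⊓ (Q : Subgroup G) = (P : Subgroup G)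
  · rw [sylow_eq_of_inf_eq hHP]
    exact ⟨1, alpRel_self P⟩
  obtain ⟨H, hH⟩ : ∃ H : Subgroup G, H = (P : Subgroup G) ⊓ (Q : Subgroup G) := ⟨_, rfl⟩
  rw [← hH] at hHP
  obtain ⟨N, hN⟩ : ∃ N : Subgroup G, N = Subgroup.normalizer (H : Set G) := ⟨_, rfl⟩
  have hgrowP : H < (P : Subgroup G) ⊓ N := by
    rw [hN]
    exact IsSylIn.normalizer_growth P.isPGroup' (hH ▸ inf_le_left) hHP
  obtain ⟨T₀, hT₀, hPT₀⟩ := exists_isSylIn_ge (p := p) (Q := (P : Subgroup G) ⊓ N) (H := N)
    (P.isPGroup'.to_le inf_le_left) inf_le_right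
  obtain ⟨S, hT₀S⟩ := hT₀.isPGroup.exists_le_sylow
  have hPNS : (P : Subgroup G) ⊓ N ≤ (P : Subgroup G) ⊓ (S : Subgroup G) :=
    le_inf inf_le_left (hPT₀.trans hT₀S)
  have hltS : Nat.card ((P : Subgroup G) ⊓ (Q : Subgroup G) : Subgroup G) <
      Nat.card ((P : Subgroup G) ⊓ (S : Subgroup G) : Subgroup G) := by
    rw [← hH]
    exact lt_of_lt_of_le (card_lt_card_of_lt hgrowP) (Subgroup.card_le_of_le hPNS)
  obtain ⟨x, hx⟩ := IH' Q S hn hltS
  have hHS : H ≤ (P : Subgroup G) ⊓ (S : Subgroup G) := hgrowP.le.trans hPNS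
  suffices hsuff : ∃ z, AlpRel P (x • Q) z by
    obtain ⟨z, hz⟩ := hsuff
    exact ⟨z * x, AlpRel.trans' (hH ▸ hHS.trans inf_le_right) hx hz⟩
  have hH'P : MulAut.conj x • H ≤ (P : Subgroup G) :=
    (hx.1.mono hHS).conj_le (hH ▸ inf_le_left)
  have hH'Q : MulAut.conj x • H ≤ ((x • Q : Sylow p G) : Subgroup G) := by
    rw [Sylow.coe_subgroup_smul]
    exact conj_smul_le_conj_smul (hH ▸ inf_le_right)
  by_cases hlt : Nat.card H <
      Nat.card ((P : Subgroup G) ⊓ ((x • Q : Sylow p G) : Subgroup G) : Subgroup G)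
  · exact IH' Q (x • Q) hn (hH ▸ hlt)
  · have hPQ' : (P : Subgroup G) ⊓ ((x • Q : Sylow p G) : Subgroup G) = MulAut.conj x • H :=
      (Subgroup.eq_of_le_of_card_ge (le_inf hH'P hH'Q)
        (by rw [card_conj_smul]; exact not_lt.mp hlt)).symm
    apply claimA (x • Q)
    · rw [hPQ', card_conj_smul, hH]
      exact hn
    · rw [hPQ', normalizer_conj_smul, ← hN]
      have hSN : (S : Subgroup G) ⊓ N = T₀ := isSylIn_inf_normalizer_of_le S.isPGroup' hT₀ hT₀S
      have : (P : Subgroup G) ⊓ MulAut.conj x • N = MulAut.conj x • T₀ := by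
        rw [← hSN, conj_smul_inf, hx.2]
      rw [this]
      exact hT₀.conj x

theorem exists_alpRel (P Q : Sylow p G) : ∃ z, AlpRel P Q z :=
  exists_alpRel_aux P _ Q rfl

/-- **Alperin's fusion theorem** (original form): if `K ≤ P` and `g K g⁻¹ ≤ P` then `g = y * z`
with `y ∈ N_G(P)` and `z` a product of `p`-elements normalizing tame intersections along which
`K` is carried. -/
theorem alperin (P : Sylow p G) {K : Subgroup G} (hK : K ≤ (P : Subgroup G)) {g : G}
    (hg : MulAut.conj g • K ≤ (P : Subgroup G)) :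
    ∃ y z : G, y ∈ Subgroup.normalizer ((P : Subgroup G) : Set G) ∧
      AlpChain p (P : Subgroup G) K z ∧ g = y * z := by
  obtain ⟨z, hz⟩ := exists_alpRel P (g⁻¹ • P)
  have hKQ : K ≤ ((g⁻¹ • P : Sylow p G) : Subgroup G) := by
    rw [Sylow.coe_subgroup_smul]
    exact conj_smul_le_iff_le_inv.mp hg
  refine ⟨g * z⁻¹, z, ?_, hz.1.mono (le_inf hK hKQ), by group⟩
  have h1 : MulAut.conj (z * g⁻¹) • (P : Subgroup G) = (P : Subgroup G) := by
    rw [conj_mul_smul, ← Sylow.coe_subgroup_smul]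
    exact hz.2
  have h2 := mem_normalizer_iff_smul_eq.mpr h1
  have h3 := inv_mem h2
  have h4 : (z * g⁻¹)⁻¹ = g * z⁻¹ := by group
  rwa [h4] at h3


end fin

end Cfsg.Agent.Helper70
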