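import Mathlib
import Cfsg.Agent.Lib.Helper7.CWDefs

set_option autoImplicit false

/-!
CW server (helper7, S0406), piece (A8): a binary code of length 24 and minimum weight `≥ 8` has at
most `759` words of weight `8`.
-/

open Matrix

namespace Cfsg.Agent.Helper70.CW
open Cfsg Cfsg.Agent.Helper7.CW

/-- the support of a binary word -/
def wsupp (w : Fin 24 → ZMod 2) : Finset (Fin 24) := Finset.univ.filter (fun i => w i ≠ 0)

theorem hammingNorm_eq_card_wsupp (w : Fin 24 → ZMod 2) : hammingNorm w = (wsupp w).card := rfl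

theorem mem_wsupp (w : Fin 24 → ZMod 2) (i : Fin 24) : i ∈ wsupp w ↔ w i ≠ 0 := by
  unfold wsupp
  rw [Finset.mem_filter]
  exact ⟨fun h => h.2, fun h => ⟨Finset.mem_univ _, h⟩⟩

theorem zmod2_add_ne (a b : ZMod 2) (h : a + b ≠ 0) : (a ≠ 0 ∧ b = 0) ∨ (b ≠ 0 ∧ a = 0) := by
  revert h; revert a b; decide

theorem zmod2_add_eq (a b : ZMod 2) (h : a + b = 0) : a = b := by
  revert h; revert a b; decide

/-- two distinct octads meet in at most four points -/
theorem inter_card_le (C : Submodule (ZMod 2) (Fin 24 → ZMod 2))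
    (hW : ∀ w ∈ C, w ≠ 0 → 8 ≤ hammingNorm w) (v w : Fin 24 → ZMod 2) (hv : v ∈ C) (hw : w ∈ C)
    (hv8 : hammingNorm v = 8) (hw8 : hammingNorm w = 8) (hne : v ≠ w) :
    (wsupp v ∩ wsupp w).card ≤ 4 := by
  classical
  have hu : v + w ∈ C := C.add_mem hv hw
  have hu0 : v + w ≠ 0 := by
    intro h
    apply hne
    funext i
    exact zmod2_add_eq _ _ (congrFun h i)
  have h8 := hW _ hu hu0
  have hsub : wsupp (v + w) ⊆ (wsupp v \ wsupp w) ∪ (wsupp w \ wsupp v) := by
    intro i hi
    rw [mem_wsupp] at hi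
    rw [Finset.mem_union, Finset.mem_sdiff, Finset.mem_sdiff, mem_wsupp, mem_wsupp]
    rcases zmod2_add_ne _ _ hi with h | h
    · left
      exact ⟨h.1, fun h' => h' h.2⟩
    · right
      exact ⟨h.1, fun h' => h' h.2⟩
  have h1 := Finset.card_le_card hsub
  have h2 := Finset.card_union_le (wsupp v \ wsupp w) (wsupp w \ wsupp v)
  have h3 := Finset.card_sdiff_add_card_inter (wsupp v) (wsupp w)
  have h4 := Finset.card_sdiff_add_card_inter (wsupp w) (wsupp v)
  rw [Finset.inter_comm] at h4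
  rw [hammingNorm_eq_card_wsupp] at h8 hv8 hw8
  omega

/-- (A8) at most 759 words of weight 8. -/
theorem octads_le (C : Submodule (ZMod 2) (Fin 24 → ZMod 2))
    (hW : ∀ w ∈ C, w ≠ 0 → 8 ≤ hammingNorm w) :
    {w : Fin 24 → ZMod 2 | w ∈ C ∧ hammingNorm w = 8}.ncard ≤ 759 := by
  classical
  obtain ⟨O, hO⟩ : ∃ O : Finset (Fin 24 → ZMod 2),
      O = Finset.univ.filter (fun w => w ∈ C ∧ hammingNorm w = 8) := ⟨_, rfl⟩
  have hmemO : ∀ w, w ∈ O ↔ (w ∈ C ∧ hammingNorm w = 8) := by
    intro w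
    rw [hO, Finset.mem_filter]
    exact ⟨fun h => h.2, fun h => ⟨Finset.mem_univ _, h⟩⟩
  have hset : {w : Fin 24 → ZMod 2 | w ∈ C ∧ hammingNorm w = 8} = (O : Set (Fin 24 → ZMod 2)) := by
    ext w
    rw [Finset.mem_coe, hmemO]
    rfl
  rw [hset, Set.ncard_coe_finset]
  have hdisj : (O : Set (Fin 24 → ZMod 2)).PairwiseDisjoint
      (fun w => (wsupp w).powersetCard 5) := by
    intro v hv w hw hne
    rw [Finset.mem_coe, hmemO] at hv hw
    show Disjoint ((wsupp v).powersetCard 5) ((wsupp w).powersetCard 5)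
    rw [Finset.disjoint_left]
    intro T hTv hTw
    rw [Finset.mem_powersetCard] at hTv hTw
    have hT : T ⊆ wsupp v ∩ wsupp w := Finset.subset_inter hTv.1 hTw.1
    have h1 := Finset.card_le_card hT
    have h2 := inter_card_le C hW v w hv.1 hw.1 hv.2 hw.2 hne
    omega
  have hcardU : (O.biUnion (fun w => (wsupp w).powersetCard 5)).card = O.card * 56 := by
    rw [Finset.card_biUnion hdisj]
    rw [Finset.sum_congr rfl (g := fun _ => 56)]
    · rw [Finset.sum_const, smul_eq_mul]
    · intro w hw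
      rw [hmemO] at hw
      rw [Finset.card_powersetCard, ← hammingNorm_eq_card_wsupp, hw.2]
      rfl
  have hsubU : O.biUnion (fun w => (wsupp w).powersetCard 5) ⊆
      (Finset.univ : Finset (Fin 24)).powersetCard 5 := by
    intro T hT
    rw [Finset.mem_biUnion] at hT
    obtain ⟨w, _, hTw⟩ := hT
    rw [Finset.mem_powersetCard] at hTw ⊢
    exact ⟨Finset.subset_univ _, hTw.2⟩
  have hle := Finset.card_le_card hsubU
  rw [hcardU, Finset.card_powersetCard, Finset.card_univ, Fintype.card_fin] at hle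
  have hch : Nat.choose 24 5 = 42504 := by decide
  rw [hch] at hle
  omega

end Cfsg.Agent.Helper70.CW
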