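import Mathlib
import Cfsg.Agent.Lib.Helper7.CWDefs

set_option autoImplicit false

/-!
CW server (helper7, S0406), piece (N4a): at most `1104` vectors `y = 4z` with `∑ y² = 32`.
-/

open Matrix

namespace Cfsg.Agent.Helper70.CW
open Cfsg Cfsg.Agent.Helper7.CW

/-- the vector with `±4` in positions `p.1.1`, `p.1.2` -/
def pairVec (p : (Fin 24 × Fin 24) × (Bool × Bool)) : V :=
  Pi.single p.1.1 (if p.2.1 then 4 else -4) + Pi.single p.1.2 (if p.2.2 then 4 else -4)

set_option maxRecDepth 100000 in
theorem card_lt_pairs :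
    ((Finset.univ : Finset (Fin 24 × Fin 24)).filter (fun p => p.1 < p.2)).card = 276 := by
  decide

/-- (N4a) -/
theorem count_D :
    {y : V | (∀ i, (4 : ℤ) ∣ y i) ∧ ∑ i, y i ^ 2 = 32}.ncard ≤ 1104 := by
  classical
  obtain ⟨T, hT⟩ : ∃ T : Finset V, T =
    (((Finset.univ : Finset (Fin 24 × Fin 24)).filter (fun p => p.1 < p.2)) ×ˢ
      (Finset.univ : Finset (Bool × Bool))).image pairVec := ⟨_, rfl⟩
  have hTcard : T.card ≤ 1104 := by
    rw [hT]
    refine le_trans Finset.card_image_le ?_
    rw [Finset.card_product, card_lt_pairs, Finset.card_univ, Fintype.card_prod,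
      Fintype.card_bool]
  have hsub : {y : V | (∀ i, (4 : ℤ) ∣ y i) ∧ ∑ i, y i ^ 2 = 32} ⊆ (T : Set V) := by
    intro y hy
    have h4 : ∀ i, (4 : ℤ) ∣ y i := hy.1
    have h32 : ∑ i, y i ^ 2 = 32 := hy.2
    clear hy
    -- every coordinate is `0` or `±4`
    have hsq : ∀ i, y i ^ 2 ≤ 32 := by
      intro i
      rw [← h32]
      exact Finset.single_le_sum (f := fun i => y i ^ 2) (fun j _ => sq_nonneg (y j))
        (Finset.mem_univ i)
    have hval : ∀ i, y i = 0 ∨ y i = 4 ∨ y i = -4 := by
      intro i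
      obtain ⟨c, hc⟩ := h4 i
      have h1 := hsq i
      rw [hc] at h1
      have hc2 : c ^ 2 ≤ 2 := by nlinarith
      have hc1 : -1 ≤ c ∧ c ≤ 1 := by
        constructor <;> nlinarith
      obtain ⟨hl, hu⟩ := hc1
      interval_cases c
      · right; right; rw [hc]; norm_num
      · left; rw [hc]; norm_num
      · right; left; rw [hc]; norm_num
    obtain ⟨s, hs⟩ : ∃ s : Finset (Fin 24), s = Finset.univ.filter (fun i => y i ≠ 0) :=
      ⟨_, rfl⟩
    have hsum : ∑ i, y i ^ 2 = 16 * (s.card : ℤ) := by
      have h1 : ∀ i, y i ^ 2 = if y i ≠ 0 then 16 else 0 := by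
        intro i
        rcases hval i with h | h | h
        · rw [h]; simp
        · rw [h]; norm_num
        · rw [h]; norm_num
      rw [Finset.sum_congr rfl (fun i _ => h1 i), ← Finset.sum_filter, Finset.sum_const,
        nsmul_eq_mul, mul_comm, hs]
    have hcard : s.card = 2 := by
      rw [hsum] at h32
      omega
    obtain ⟨a, b, hab, hsab⟩ := Finset.card_eq_two.mp hcard
    have hmem : ∀ k, k ∈ s ↔ y k ≠ 0 := by
      intro k
      rw [hs, Finset.mem_filter]
      simp
    have ha0 : y a ≠ 0 := (hmem a).mp (by rw [hsab]; simp)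
    have hb0 : y b ≠ 0 := (hmem b).mp (by rw [hsab]; simp)
    have hk0 : ∀ k, k ≠ a → k ≠ b → y k = 0 := by
      intro k hka hkb
      by_contra hne
      have := (hmem k).mpr hne
      rw [hsab] at this
      simp at this
      tauto
    -- `y` as a pair vector
    have hform : ∀ a b : Fin 24, a ≠ b → y a ≠ 0 → y b ≠ 0 → (∀ k, k ≠ a → k ≠ b → y k = 0) →
        y = pairVec ((a, b), (decide (y a = 4), decide (y b = 4))) := by
      intro a b hab ha0 hb0 hk0
      funext k
      unfold pairVec
      simp only [Pi.add_apply]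
      by_cases hka : k = a
      · subst hka
        rw [Pi.single_eq_same, Pi.single_eq_of_ne hab, add_zero]
        rcases hval k with h | h | h
        · exact absurd h ha0
        · simp [h]
        · simp [h]
      · by_cases hkb : k = b
        · subst hkb
          rw [Pi.single_eq_same, Pi.single_eq_of_ne hka, zero_add]
          rcases hval k with h | h | h
          · exact absurd h hb0
          · simp [h]
          · simp [h]
        · rw [Pi.single_eq_of_ne hka, Pi.single_eq_of_ne hkb, add_zero]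
          exact hk0 k hka hkb
    rw [hT, Finset.mem_coe, Finset.mem_image]
    rcases lt_or_gt_of_ne hab with hlt | hlt
    · refine ⟨((a, b), (decide (y a = 4), decide (y b = 4))), ?_, (hform a b hab ha0 hb0 hk0).symm⟩
      rw [Finset.mem_product, Finset.mem_filter]
      exact ⟨⟨Finset.mem_univ _, hlt⟩, Finset.mem_univ _⟩
    · refine ⟨((b, a), (decide (y b = 4), decide (y a = 4))), ?_,
        (hform b a hab.symm hb0 ha0 (fun k h1 h2 => hk0 k h2 h1)).symm⟩
      rw [Finset.mem_product, Finset.mem_filter]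
      exact ⟨⟨Finset.mem_univ _, hlt⟩, Finset.mem_univ _⟩
  calc {y : V | (∀ i, (4 : ℤ) ∣ y i) ∧ ∑ i, y i ^ 2 = 32}.ncard
      ≤ (T : Set V).ncard := Set.ncard_le_ncard hsub (Finset.finite_toSet T)
    _ = T.card := Set.ncard_coe_finset T
    _ ≤ 1104 := hTcard

end Cfsg.Agent.Helper70.CW
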