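import Mathlib

/-!
# Camina–Herzog: groups in which every 2-element has odd class size (part A)

Basic tools: `step0` (a 2-element normalising `⟨r⟩`, `r` a 2-element, centralises `r`),
`exists_sylow` (a Sylow 2-subgroup of `G` inside `C_G(x)` containing a given 2-subgroup),
the subgroup `Om` of involutions of a Sylow 2-subgroup.
-/

set_option autoImplicit false

namespace Cfsg.Agent.Helper70.CamHer

open Subgroup

universe u

variable {G : Type u} [Group G]

/-- hypothesis: every 2-element has odd class size -/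
def HH (G : Type u) [Group G] : Prop :=
  ∀ x : G, (∃ k : ℕ, orderOf x = 2 ^ k) → ¬ 2 ∣ (Subgroup.centralizer ({x} : Set G)).index

theorem two_elt_of_isPGroup {T : Subgroup G} (hT : IsPGroup 2 T) {x : G} (hx : x ∈ T) :
    ∃ k : ℕ, orderOf x = 2 ^ k := by
  obtain ⟨k, hk⟩ := hT ⟨x, hx⟩
  have h1 : x ^ (2 ^ k) = 1 := by
    have := congrArg Subtype.val hk
    simpa using this
  obtain ⟨j, _, hj⟩ := (Nat.dvd_prime_pow Nat.prime_two).1 (orderOf_dvd_of_pow_eq_one h1)
  exact ⟨j, hj⟩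

theorem pow_two_pow_eq_one {x : G} (hx : ∃ k : ℕ, orderOf x = 2 ^ k) :
    ∃ m : ℕ, x ^ (2 ^ m) = 1 := by
  obtain ⟨k, hk⟩ := hx
  exact ⟨k, by rw [← hk]; exact pow_orderOf_eq_one x⟩

theorem mem_cent_singleton {x y : G} : y ∈ centralizer ({x} : Set G) ↔ x * y = y * x := by
  rw [Subgroup.mem_centralizer_iff]
  constructor
  · intro h; exact h x (Set.mem_singleton x)
  · intro h z hz; rw [Set.mem_singleton_iff.1 hz]; exact h

/-- Step 0: under (H), a 2-element normalising `⟨r⟩` (`r` a 2-element) centralises `r`. -/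
theorem step0 [Finite G] (hH : HH G) {r g : G} (hr : ∃ k : ℕ, orderOf r = 2 ^ k)
    (hg : ∃ m : ℕ, g ^ (2 ^ m) = 1) (hn : g * r * g⁻¹ ∈ zpowers r) : g * r = r * g := by
  classical
  set C : Subgroup G := centralizer ({r} : Set G) with hC
  set N : Subgroup G := normalizer ((zpowers r : Subgroup G) : Set G) with hN
  have hodd : ¬ 2 ∣ C.index := hH r hr
  have hgN : g ∈ N := by
    apply mem_normalizer_fintype
    intro n hn'
    obtain ⟨i, rfl⟩ := Subgroup.mem_zpowers_iff.1 hn'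
    have : g * r ^ i * g⁻¹ = (g * r * g⁻¹) ^ i := (conj_zpow).symm
    rw [this]
    exact Subgroup.zpow_mem _ hn i
  have hCN : C ≤ N := by
    intro c hc
    apply mem_normalizer_fintype
    intro n hn'
    obtain ⟨i, rfl⟩ := Subgroup.mem_zpowers_iff.1 hn'
    have hcr : Commute c r := (mem_cent_singleton.1 hc).symm
    have : c * r ^ i * c⁻¹ = r ^ i := by
      rw [(hcr.zpow_right i).eq, mul_inv_cancel_right]
    rw [this]
    exact Subgroup.zpow_mem_zpowers r i
  haveI hnorm : (C.subgroupOf N).Normal := by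
    constructor
    intro c hc n
    rw [Subgroup.mem_subgroupOf] at hc ⊢
    have hn1 : (n : G)⁻¹ * r * ((n : G)⁻¹)⁻¹ ∈ zpowers r :=
      ((Subgroup.mem_normalizer_iff.1 (N.inv_mem n.2)) r).1 (Subgroup.mem_zpowers r)
    obtain ⟨i, hi⟩ := Subgroup.mem_zpowers_iff.1 hn1
    have hcr : Commute (c : G) r := (mem_cent_singleton.1 hc).symm
    have hci : Commute (c : G) (r ^ i) := hcr.zpow_right i
    have hr' : r = (n : G) * r ^ i * (n : G)⁻¹ := by rw [hi]; group
    rw [hC, mem_cent_singleton]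
    push_cast
    calc r * ((n : G) * (c : G) * (n : G)⁻¹)
        = ((n : G) * r ^ i * (n : G)⁻¹) * ((n : G) * (c : G) * (n : G)⁻¹) := by rw [← hr']
      _ = (n : G) * (r ^ i * (c : G)) * (n : G)⁻¹ := by group
      _ = (n : G) * ((c : G) * r ^ i) * (n : G)⁻¹ := by rw [hci.eq]
      _ = ((n : G) * (c : G) * (n : G)⁻¹) * ((n : G) * r ^ i * (n : G)⁻¹) := by group
      _ = ((n : G) * (c : G) * (n : G)⁻¹) * r := by rw [← hr']
  have hidx : ¬ 2 ∣ (C.subgroupOf N).index := by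
    intro h
    apply hodd
    have h2 := Subgroup.relIndex_mul_index hCN
    rw [← h2]
    exact Dvd.dvd.mul_right h _
  let q : ↥N ⧸ C.subgroupOf N := QuotientGroup.mk ⟨g, hgN⟩
  obtain ⟨m, hm⟩ := hg
  have hq1 : q ^ (2 ^ m) = 1 := by
    have h1 : (⟨g, hgN⟩ : N) ^ (2 ^ m) = 1 := Subtype.ext (by simpa using hm)
    show (QuotientGroup.mk (⟨g, hgN⟩ : N) : ↥N ⧸ C.subgroupOf N) ^ (2 ^ m) = 1
    rw [← QuotientGroup.mk_pow, h1]
    rfl
  have hq2 : orderOf q ∣ Nat.card (↥N ⧸ C.subgroupOf N) := orderOf_dvd_natCard q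
  have hq3 : orderOf q ∣ 2 ^ m := orderOf_dvd_of_pow_eq_one hq1
  have hcop : Nat.Coprime (2 ^ m) (Nat.card (↥N ⧸ C.subgroupOf N)) := by
    apply Nat.Coprime.pow_left
    rw [Nat.Prime.coprime_iff_not_dvd Nat.prime_two]
    exact hidx
  have hq4 : orderOf q = 1 :=
    Nat.Coprime.eq_one_of_dvd (Nat.Coprime.coprime_dvd_left hq3 hcop) hq2
  have hq5 : q = 1 := orderOf_eq_one_iff.1 hq4
  have hgC : (⟨g, hgN⟩ : N) ∈ C.subgroupOf N := (QuotientGroup.eq_one_iff _).1 hq5
  rw [Subgroup.mem_subgroupOf] at hgC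
  exact (mem_cent_singleton.1 hgC).symm

/-- Under (H) for the single element `x`: a Sylow 2-subgroup of `G` inside `C_G(x)`,
containing `x` and a prescribed 2-subgroup of `C_G(x)`. -/
theorem exists_sylow [Finite G] (x : G) (hx : ∃ k : ℕ, orderOf x = 2 ^ k)
    (hodd : ¬ 2 ∣ (centralizer ({x} : Set G)).index) (T : Subgroup G) (hT : IsPGroup 2 T)
    (hTC : T ≤ centralizer ({x} : Set G)) :
    ∃ R : Sylow 2 G, T ≤ (R : Subgroup G) ∧ (R : Subgroup G) ≤ centralizer ({x} : Set G) ∧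
      x ∈ (R : Subgroup G) := by
  classical
  haveI : Fact (Nat.Prime 2) := ⟨Nat.prime_two⟩
  set C : Subgroup G := centralizer ({x} : Set G) with hC
  have hxC : x ∈ C := by rw [hC, mem_cent_singleton]
  obtain ⟨Q, hQ⟩ := (hT.comap_subtype (K := C)).exists_le_sylow
  have hcard : Nat.card ((Q : Subgroup C).map C.subtype) = 2 ^ (Nat.card G).factorization 2 := by
    rw [Subgroup.card_map_of_injective C.subtype_injective, Q.card_eq_multiplicity]
    congr 1
    rw [← Subgroup.card_mul_index C,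
      Nat.factorization_mul Nat.card_pos.ne' Subgroup.index_ne_zero_of_finite,
      Finsupp.add_apply, Nat.factorization_eq_zero_of_not_dvd hodd, add_zero]
  refine ⟨Sylow.ofCard _ hcard, ?_, ?_, ?_⟩
  · intro t ht
    rw [Sylow.coe_ofCard]
    exact Subgroup.mem_map.2 ⟨⟨t, hTC ht⟩, hQ (Subgroup.mem_comap.2 ht), rfl⟩
  · rw [Sylow.coe_ofCard]
    exact Subgroup.map_subtype_le _
  · rw [Sylow.coe_ofCard]
    haveI hnorm : (zpowers (⟨x, hxC⟩ : C)).Normal := by
      constructor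
      intro n hn g
      obtain ⟨i, rfl⟩ := Subgroup.mem_zpowers_iff.1 hn
      have hcomm : Commute g (⟨x, hxC⟩ : C) := by
        have h1 : x * (g : G) = (g : G) * x := mem_cent_singleton.1 g.2
        exact Subtype.ext h1.symm
      rw [(hcomm.zpow_right i).eq, mul_inv_cancel_right]
      exact Subgroup.zpow_mem_zpowers _ i
    have hp : IsPGroup 2 (zpowers (⟨x, hxC⟩ : C)) := by
      obtain ⟨k, hk⟩ := hx
      apply IsPGroup.of_card (n := k)
      rw [Nat.card_zpowers, Subgroup.orderOf_mk, hk]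
    have hle := hp.le_sylow_of_normal Q
    exact Subgroup.mem_map.2 ⟨⟨x, hxC⟩, hle (Subgroup.mem_zpowers _), rfl⟩

/-- involutions of a Sylow 2-subgroup commute -/
theorem inv_comm [Finite G] (hH : HH G) (S : Sylow 2 G) {a b : G} (ha : a ∈ (S : Subgroup G))
    (hb : b ∈ (S : Subgroup G)) (ha2 : a ^ 2 = 1) (hb2 : b ^ 2 = 1) : a * b = b * a := by
  have e1 : a * a = 1 := by rw [← pow_two, ha2]
  have hbi : b⁻¹ = b := by rw [inv_eq_iff_mul_eq_one, ← pow_two, hb2]
  have hr := two_elt_of_isPGroup S.2 (mul_mem ha hb)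
  have hn : a * (a * b) * a⁻¹ ∈ zpowers (a * b) := by
    have : a * (a * b) * a⁻¹ = (a * b)⁻¹ := by
      calc a * (a * b) * a⁻¹ = (a * a) * b * a⁻¹ := by group
        _ = b * a⁻¹ := by rw [e1, one_mul]
        _ = b⁻¹ * a⁻¹ := by rw [hbi]
        _ = (a * b)⁻¹ := by rw [mul_inv_rev]
    rw [this]
    exact inv_mem (Subgroup.mem_zpowers _)
  have h := step0 hH hr ⟨1, by rw [pow_one]; exact ha2⟩ hn
  have h2 : a * (a * b) = a * (b * a) := by rw [h, mul_assoc]
  exact mul_left_cancel h2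

/-- the involutions of a Sylow 2-subgroup (with 1) -/
def Om [Finite G] (hH : HH G) (S : Sylow 2 G) : Subgroup G where
  carrier := {x | x ∈ (S : Subgroup G) ∧ x ^ 2 = 1}
  one_mem' := ⟨one_mem _, one_pow 2⟩
  mul_mem' := by
    intro a b ha hb
    refine ⟨mul_mem ha.1 hb.1, ?_⟩
    have hc : Commute a b := inv_comm hH S ha.1 hb.1 ha.2 hb.2
    rw [hc.mul_pow, ha.2, hb.2, one_mul]
  inv_mem' := by
    intro a ha
    exact ⟨inv_mem ha.1, by rw [inv_pow, ha.2, inv_one]⟩

theorem mem_Om [Finite G] (hH : HH G) (S : Sylow 2 G) {x : G} :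
    x ∈ Om hH S ↔ x ∈ (S : Subgroup G) ∧ x ^ 2 = 1 := Iff.rfl

theorem Om_mem [Finite G] {hH : HH G} {S : Sylow 2 G} {x : G} (h : x ∈ Om hH S) :
    x ∈ (S : Subgroup G) := ((mem_Om hH S).1 h).1

theorem Om_sq [Finite G] {hH : HH G} {S : Sylow 2 G} {x : G} (h : x ∈ Om hH S) :
    x ^ 2 = 1 := ((mem_Om hH S).1 h).2

theorem mem_Om_of [Finite G] {hH : HH G} {S : Sylow 2 G} {x : G} (h1 : x ∈ (S : Subgroup G))
    (h2 : x ^ 2 = 1) : x ∈ Om hH S := (mem_Om hH S).2 ⟨h1, h2⟩

theorem Om_comm [Finite G] {hH : HH G} {S : Sylow 2 G} {a b : G} (ha : a ∈ Om hH S)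
    (hb : b ∈ Om hH S) : a * b = b * a :=
  inv_comm hH S (Om_mem ha) (Om_mem hb) (Om_sq ha) (Om_sq hb)

theorem card_Om [Finite G] (hH : HH G) (S₁ S₂ : Sylow 2 G) :
    Nat.card (Om hH S₁) = Nat.card (Om hH S₂) := by
  haveI : Fact (Nat.Prime 2) := ⟨Nat.prime_two⟩
  obtain ⟨g, rfl⟩ := MulAction.exists_smul_eq G S₁ S₂
  have key : Om hH (g • S₁) = (Om hH S₁).map (MulAut.conj g).toMonoidHom := by
    ext x
    rw [mem_Om, Subgroup.mem_map, Sylow.coe_subgroup_smul,
      Subgroup.mem_pointwise_smul_iff_inv_smul_mem]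
    have hsm : (MulAut.conj g)⁻¹ • x = g⁻¹ * x * g := by
      rw [← map_inv]; simp [MulAut.smul_def, MulAut.conj_apply]
    rw [hsm]
    constructor
    · rintro ⟨h1, h2⟩
      have hxx : x * x = 1 := by rw [← pow_two]; exact h2
      refine ⟨g⁻¹ * x * g, mem_Om_of h1 ?_, ?_⟩
      · calc (g⁻¹ * x * g) ^ 2 = g⁻¹ * (x * x) * g := by rw [pow_two]; group
          _ = 1 := by rw [hxx]; group
      · show (MulAut.conj g) (g⁻¹ * x * g) = x
        rw [MulAut.conj_apply]; group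
    · rintro ⟨y, hy, rfl⟩
      have hyy : y * y = 1 := by rw [← pow_two]; exact Om_sq hy
      have e : (MulAut.conj g).toMonoidHom y = g * y * g⁻¹ := by
        show (MulAut.conj g) y = _
        rw [MulAut.conj_apply]
      rw [e]
      refine ⟨?_, ?_⟩
      · have : g⁻¹ * (g * y * g⁻¹) * g = y := by group
        rw [this]; exact Om_mem hy
      · calc (g * y * g⁻¹) ^ 2 = g * (y * y) * g⁻¹ := by rw [pow_two]; group
          _ = 1 := by rw [hyy]; group
  rw [key, Subgroup.card_map_of_injective (MulAut.conj g).injective]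

end Cfsg.Agent.Helper70.CamHer
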