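import Cfsg.Agent.Lib.Helper70.CamHerA

/-!
# Camina–Herzog (part B): Step A, `Ω₁(S) ≤ Z(S)` under (H)
-/

set_option autoImplicit false

namespace Cfsg.Agent.Helper70.CamHer

open Subgroup

universe u

variable {G : Type u} [Group G]

/-- the subgroup of elements commuting with `J₀` and moved by `s` only by elements of `J₀` -/
def XX (J₀ : Subgroup G) (s : G) : Subgroup G where
  carrier := {x | (∀ z ∈ J₀, Commute x z) ∧ x⁻¹ * (s⁻¹ * x * s) ∈ J₀}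
  one_mem' := by
    refine ⟨fun z _ => Commute.one_left z, ?_⟩
    have : (1 : G)⁻¹ * (s⁻¹ * 1 * s) = 1 := by group
    rw [this]; exact one_mem _
  mul_mem' := by
    rintro x y ⟨hx1, hx2⟩ ⟨hy1, hy2⟩
    refine ⟨fun z hz => (hx1 z hz).mul_left (hy1 z hz), ?_⟩
    have hcomm' : y⁻¹ * (x⁻¹ * (s⁻¹ * x * s)) = (x⁻¹ * (s⁻¹ * x * s)) * y⁻¹ :=
      ((hy1 _ hx2).inv_left).eq
    have e : (x * y)⁻¹ * (s⁻¹ * (x * y) * s)
        = (x⁻¹ * (s⁻¹ * x * s)) * (y⁻¹ * (s⁻¹ * y * s)) := by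
      calc (x * y)⁻¹ * (s⁻¹ * (x * y) * s)
          = (y⁻¹ * (x⁻¹ * (s⁻¹ * x * s))) * (s⁻¹ * y * s) := by group
        _ = ((x⁻¹ * (s⁻¹ * x * s)) * y⁻¹) * (s⁻¹ * y * s) := by rw [hcomm']
        _ = _ := by group
    rw [e]; exact mul_mem hx2 hy2
  inv_mem' := by
    rintro x ⟨hx1, hx2⟩
    refine ⟨fun z hz => (hx1 z hz).inv_left, ?_⟩
    have hzi : (x⁻¹ * (s⁻¹ * x * s))⁻¹ ∈ J₀ := inv_mem hx2
    have e : (x⁻¹)⁻¹ * (s⁻¹ * x⁻¹ * s) = x * (x⁻¹ * (s⁻¹ * x * s))⁻¹ * x⁻¹ := by group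
    rw [e, (hx1 _ hzi).eq, mul_inv_cancel_right]
    exact hzi

theorem mem_XX {J₀ : Subgroup G} {s x : G} :
    x ∈ XX J₀ s ↔ (∀ z ∈ J₀, Commute x z) ∧ x⁻¹ * (s⁻¹ * x * s) ∈ J₀ := Iff.rfl

/-- Step A: under (H), every involution of a Sylow 2-subgroup `S` is central in `S`. -/
theorem Om_central [Finite G] (hH : HH G) (S : Sylow 2 G) :
    ∀ j ∈ Om hH S, ∀ s ∈ (S : Subgroup G), s * j = j * s := by
  classical
  haveI : Fact (Nat.Prime 2) := ⟨Nat.prime_two⟩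
  by_contra hcon
  push_neg at hcon
  let A : Set G := {s | s ∈ (S : Subgroup G) ∧ ∃ j ∈ Om hH S, s * j ≠ j * s}
  have hA : A.Nonempty := by
    obtain ⟨j, hj, s, hs, hne⟩ := hcon
    exact ⟨s, hs, j, hj, hne⟩
  obtain ⟨s, hsA, hsmin⟩ := Set.exists_min_image A orderOf (Set.toFinite A) hA
  obtain ⟨hsS, j₁, hj₁, hne₁⟩ := hsA
  -- s² centralises J
  have hs2 : ∀ j ∈ Om hH S, s ^ 2 * j = j * s ^ 2 := by
    intro j hj
    by_contra hne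
    have hmem : s ^ 2 ∈ A := ⟨pow_mem hsS 2, j, hj, hne⟩
    have hle := hsmin _ hmem
    obtain ⟨k, hk⟩ := two_elt_of_isPGroup S.2 hsS
    have hk0 : k ≠ 0 := by
      rintro rfl
      rw [pow_zero, orderOf_eq_one_iff] at hk
      apply hne₁; rw [hk, one_mul, mul_one]
    rw [orderOf_pow, hk] at hle
    have hg : Nat.gcd (2 ^ k) 2 = 2 := Nat.gcd_eq_right (dvd_pow_self 2 hk0)
    rw [hg] at hle
    have h1 : 2 ^ k / 2 < 2 ^ k := Nat.div_lt_self (by positivity) (by norm_num)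
    omega
  have hs2elt := two_elt_of_isPGroup S.2 hsS
  obtain ⟨R, hTR, hRC, hsR⟩ := exists_sylow s hs2elt (hH s hs2elt)
      ((S : Subgroup G) ⊓ centralizer ({s} : Set G)) (S.2.to_le inf_le_left) inf_le_right
  -- basic facts
  have hJ'Cs : ∀ u ∈ Om hH R, s * u = u * s := fun u hu => mem_cent_singleton.1 (hRC (Om_mem hu))
  have hJ0J' : ∀ z ∈ Om hH S, s * z = z * s → z ∈ Om hH R := by
    intro z hz hzs
    exact mem_Om_of (hTR ⟨Om_mem hz, mem_cent_singleton.2 hzs⟩) (Om_sq hz)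
  have hconj : ∀ j ∈ Om hH S, s⁻¹ * j * s ∈ Om hH S := by
    intro j hj
    refine mem_Om_of (mul_mem (mul_mem (inv_mem hsS) (Om_mem hj)) hsS) ?_
    have hjj : j * j = 1 := by rw [← pow_two]; exact Om_sq hj
    calc (s⁻¹ * j * s) ^ 2 = s⁻¹ * (j * j) * s := by rw [pow_two]; group
      _ = 1 := by rw [hjj]; group
  have hz : ∀ j ∈ Om hH S, s * (j⁻¹ * (s⁻¹ * j * s)) = (j⁻¹ * (s⁻¹ * j * s)) * s := by
    intro j hj
    have hj' := hconj j hj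
    have h2 := hs2 j hj
    have hc : j * (s⁻¹ * j * s) = (s⁻¹ * j * s) * j := Om_comm hj hj'
    have hji : j⁻¹ = j := by rw [inv_eq_iff_mul_eq_one, ← pow_two]; exact Om_sq hj
    have h3 : s⁻¹ * (s⁻¹ * j * s) * s = j := by
      have e : s⁻¹ * (s⁻¹ * j * s) * s = (s ^ 2)⁻¹ * (j * s ^ 2) := by rw [pow_two]; group
      rw [e, ← h2]; group
    rw [hji]
    have h4 : s⁻¹ * (j * (s⁻¹ * j * s)) * s = j * (s⁻¹ * j * s) := by
      calc s⁻¹ * (j * (s⁻¹ * j * s)) * s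
          = (s⁻¹ * j * s) * (s⁻¹ * (s⁻¹ * j * s) * s) := by group
        _ = (s⁻¹ * j * s) * j := by rw [h3]
        _ = j * (s⁻¹ * j * s) := hc.symm
    calc s * (j * (s⁻¹ * j * s)) = s * (s⁻¹ * (j * (s⁻¹ * j * s)) * s) := by rw [h4]
      _ = j * (s⁻¹ * j * s) * s := by group
  -- the subgroup X₁
  set J₀ : Subgroup G := Om hH S ⊓ centralizer ({s} : Set G) with hJ₀
  have hJX : ∀ j ∈ Om hH S, j ∈ XX J₀ s := by
    intro j hj
    refine mem_XX.2 ⟨fun z hz => Om_comm hj hz.1, ?_⟩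
    exact Subgroup.mem_inf.2 ⟨(Om hH S).mul_mem ((Om hH S).inv_mem hj) (hconj j hj),
      mem_cent_singleton.2 (hz j hj)⟩
  have hJ'X : ∀ u ∈ Om hH R, u ∈ XX J₀ s := by
    intro u hu
    refine mem_XX.2
      ⟨fun z hz => Om_comm hu (hJ0J' z hz.1 (mem_cent_singleton.1 hz.2)), ?_⟩
    have e : u⁻¹ * (s⁻¹ * u * s) = 1 := by
      rw [mul_assoc s⁻¹, ← hJ'Cs u hu, inv_mul_cancel_left, inv_mul_cancel]
    rw [e]; exact one_mem _
  -- Sylow theory in X₁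
  have hJ'p : IsPGroup 2 ((Om hH R).subgroupOf (XX J₀ s)) :=
    (R.2.to_le (fun u hu => Om_mem hu)).comap_subtype
  obtain ⟨P, hP⟩ := hJ'p.exists_le_sylow
  have hJp : IsPGroup 2 ((Om hH S).subgroupOf (XX J₀ s)) :=
    (S.2.to_le (fun u hu => Om_mem hu)).comap_subtype
  obtain ⟨P₂, hP₂⟩ := hJp.exists_le_sylow
  obtain ⟨g, hg⟩ := MulAction.exists_smul_eq (↥(XX J₀ s)) P₂ P
  obtain ⟨S₁, hS₁⟩ := (P.2.map (XX J₀ s).subtype).exists_le_sylow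
  have hJ'S₁ : Om hH R ≤ Om hH S₁ := by
    intro u hu
    refine mem_Om_of (hS₁ (Subgroup.mem_map.2 ⟨⟨u, hJ'X u hu⟩, hP ?_, rfl⟩)) (Om_sq hu)
    exact Subgroup.mem_subgroupOf.2 hu
  have hOmS₁ : Om hH R = Om hH S₁ :=
    Subgroup.eq_of_le_of_card_ge hJ'S₁ (card_Om hH S₁ R).le
  have hgj : ∀ j ∈ Om hH S, (g : G) * j * (g : G)⁻¹ ∈ Om hH R := by
    intro j hj
    rw [hOmS₁]
    have hjP₂ : (⟨j, hJX j hj⟩ : XX J₀ s) ∈ P₂ := hP₂ (Subgroup.mem_subgroupOf.2 hj)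
    have hmem : g * ⟨j, hJX j hj⟩ * g⁻¹ ∈ (P : Subgroup (XX J₀ s)) := by
      rw [← hg, Sylow.coe_subgroup_smul, Subgroup.mem_pointwise_smul_iff_inv_smul_mem]
      have e : (MulAut.conj g)⁻¹ • (g * ⟨j, hJX j hj⟩ * g⁻¹) = (⟨j, hJX j hj⟩ : XX J₀ s) := by
        rw [← map_inv]; simp [MulAut.smul_def, mul_assoc]
      rw [e]; exact hjP₂
    refine mem_Om_of (hS₁ (Subgroup.mem_map.2 ⟨_, hmem, rfl⟩)) ?_
    have hjj : j * j = 1 := by rw [← pow_two]; exact Om_sq hj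
    calc ((g : G) * j * (g : G)⁻¹) ^ 2 = (g : G) * (j * j) * (g : G)⁻¹ := by rw [pow_two]; group
      _ = 1 := by rw [hjj]; group
  -- conclusion
  obtain ⟨hg1, hg2⟩ := mem_XX.1 g.2
  apply hne₁
  have hu := hgj j₁ hj₁
  have hus := hJ'Cs _ hu
  obtain ⟨z, hz_def⟩ : ∃ z, z = (g : G)⁻¹ * (s⁻¹ * (g : G) * s) := ⟨_, rfl⟩
  rw [← hz_def] at hg2
  have hsg : s⁻¹ * (g : G) * s = (g : G) * z := by rw [hz_def]; group
  obtain ⟨j', hj'_def⟩ : ∃ j', j' = s⁻¹ * j₁ * s := ⟨_, rfl⟩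
  have hj'J : j' ∈ Om hH S := by rw [hj'_def]; exact hconj j₁ hj₁
  have hzj' : z * j' = j' * z := Om_comm hg2.1 hj'J
  have h1 : s⁻¹ * ((g : G) * j₁ * (g : G)⁻¹) * s = (g : G) * j' * (g : G)⁻¹ := by
    calc s⁻¹ * ((g : G) * j₁ * (g : G)⁻¹) * s
        = (s⁻¹ * (g : G) * s) * (s⁻¹ * j₁ * s) * (s⁻¹ * (g : G) * s)⁻¹ := by group
      _ = ((g : G) * z) * j' * ((g : G) * z)⁻¹ := by rw [hsg, ← hj'_def]
      _ = (g : G) * (z * j') * z⁻¹ * (g : G)⁻¹ := by group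
      _ = (g : G) * (j' * z) * z⁻¹ * (g : G)⁻¹ := by rw [hzj']
      _ = (g : G) * j' * (g : G)⁻¹ := by group
  have h2 : s⁻¹ * ((g : G) * j₁ * (g : G)⁻¹) * s = (g : G) * j₁ * (g : G)⁻¹ := by
    rw [mul_assoc s⁻¹, ← hus, inv_mul_cancel_left]
  have h3 : j' = j₁ := by
    have h4 := h1.symm.trans h2
    exact mul_left_cancel (mul_right_cancel h4)
  rw [hj'_def] at h3
  calc s * j₁ = s * (s⁻¹ * j₁ * s) := by rw [h3]
    _ = j₁ * s := by group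

end Cfsg.Agent.Helper70.CamHer
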