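import Cfsg.Agent.Lib.Helper70.CamHerB

/-!
# Camina–Herzog (part C): inheritance of (H) and the main theorem
-/

set_option autoImplicit false

namespace Cfsg.Agent.Helper70.CamHer

open Subgroup

universe u

variable {G : Type u} [Group G]

theorem zpowers_sq_eq_one {t z : G} (ht2 : t ^ 2 = 1) (hz : z ∈ zpowers t) : z ^ 2 = 1 := by
  obtain ⟨i, rfl⟩ := Subgroup.mem_zpowers_iff.1 hz
  rw [← zpow_natCast, ← zpow_mul, mul_comm, zpow_mul, zpow_natCast, ht2, one_zpow]

/-- (H) passes to the centraliser of an involution. -/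
theorem HH_centralizer [Finite G] (hH : HH G) {t : G} (ht2 : t ^ 2 = 1) :
    HH ↥(centralizer ({t} : Set G)) := by
  classical
  haveI : Fact (Nat.Prime 2) := ⟨Nat.prime_two⟩
  intro y hy
  have hy' : ∃ k : ℕ, orderOf (y : G) = 2 ^ k := by
    obtain ⟨k, hk⟩ := hy
    exact ⟨k, by rw [Subgroup.orderOf_coe, hk]⟩
  have hty : t ∈ centralizer ({(y : G)} : Set G) := by
    rw [mem_cent_singleton]
    exact (mem_cent_singleton.1 y.2).symm
  have hTp : IsPGroup 2 (zpowers t) := by
    rintro ⟨z, hz⟩
    exact ⟨1, Subtype.ext (by simpa using zpowers_sq_eq_one ht2 hz)⟩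
  obtain ⟨R, hTR, hRD, hyR⟩ := exists_sylow (y : G) hy' (hH _ hy') (zpowers t) hTp
    (by rw [Subgroup.zpowers_le]; exact hty)
  have htR : t ∈ (R : Subgroup G) := hTR (Subgroup.mem_zpowers t)
  have htOm : t ∈ Om hH R := mem_Om_of htR ht2
  have hRC : (R : Subgroup G) ≤ centralizer ({t} : Set G) := by
    intro r hr
    rw [mem_cent_singleton]
    exact (Om_central hH R t htOm r hr).symm
  have hcent : centralizer ({y} : Set ↥(centralizer ({t} : Set G)))
      = (centralizer ({(y : G)} : Set G)).subgroupOf (centralizer ({t} : Set G)) := by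
    ext z
    rw [mem_cent_singleton, Subgroup.mem_subgroupOf, mem_cent_singleton]
    constructor
    · intro h; exact congrArg Subtype.val h
    · intro h; exact Subtype.ext h
  rw [hcent]
  intro hdvd
  have h1 : (centralizer ({(y : G)} : Set G)).relIndex (centralizer ({t} : Set G))
      ∣ (R : Subgroup G).relIndex (centralizer ({t} : Set G)) :=
    Subgroup.relIndex_dvd_of_le_left _ hRD
  have h2 : (R : Subgroup G).relIndex (centralizer ({t} : Set G)) *
      (centralizer ({t} : Set G)).index = (R : Subgroup G).index :=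
    Subgroup.relIndex_mul_index hRC
  have h3 : ¬ 2 ∣ (R : Subgroup G).index := R.not_dvd_index
  apply h3
  rw [← h2]
  exact Dvd.dvd.mul_right (dvd_trans hdvd h1) _

/-- (H) passes to the quotient by a normal subgroup generated by an involution. -/
theorem HH_quot [Finite G] (hH : HH G) {t : G} (ht2 : t ^ 2 = 1) [hn : (zpowers t).Normal] :
    HH (G ⧸ zpowers t) := by
  intro q hq
  obtain ⟨g, rfl⟩ := QuotientGroup.mk_surjective q
  obtain ⟨k, hk⟩ := hq
  have h1 : g ^ (2 ^ k) ∈ zpowers t := by
    rw [← QuotientGroup.eq_one_iff, QuotientGroup.mk_pow, ← hk]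
    exact pow_orderOf_eq_one _
  have h2 : g ^ (2 ^ (k + 1)) = 1 := by
    rw [pow_succ, pow_mul]
    exact zpowers_sq_eq_one ht2 h1
  obtain ⟨j, _, hj⟩ := (Nat.dvd_prime_pow Nat.prime_two).1 (orderOf_dvd_of_pow_eq_one h2)
  have hodd := hH g ⟨j, hj⟩
  intro hdvd
  apply hodd
  have hle : (centralizer ({g} : Set G)).map (QuotientGroup.mk' (zpowers t)) ≤
      centralizer ({(QuotientGroup.mk g : G ⧸ zpowers t)} : Set (G ⧸ zpowers t)) := by
    rintro _ ⟨c, hc, rfl⟩
    rw [mem_cent_singleton]
    have h3 : g * c = c * g := mem_cent_singleton.1 hc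
    show (QuotientGroup.mk g : G ⧸ zpowers t) * QuotientGroup.mk c
      = QuotientGroup.mk c * QuotientGroup.mk g
    rw [← QuotientGroup.mk_mul, ← QuotientGroup.mk_mul, h3]
  exact dvd_trans hdvd (dvd_trans (Subgroup.index_dvd_of_le hle)
    (Subgroup.index_map_dvd _ (QuotientGroup.mk'_surjective _)))

/-- Camina–Herzog: under (H) the Sylow 2-subgroups are abelian (elementwise form). -/
theorem main_aux : ∀ n : ℕ, ∀ (G : Type u) [Group G] [Finite G], Nat.card G = n → HH G →
    ∀ P : Sylow 2 G, ∀ x ∈ (P : Subgroup G), ∀ y ∈ (P : Subgroup G), x * y = y * x := by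
  intro n
  induction n using Nat.strong_induction_on with
  | _ n ih =>
  intro G _ _ hn hH P x hx y hy
  classical
  haveI : Fact (Nat.Prime 2) := ⟨Nat.prime_two⟩
  by_cases hx1 : x = 1
  · rw [hx1, one_mul, mul_one]
  obtain ⟨k, hk⟩ := two_elt_of_isPGroup P.2 hx
  have hk0 : k ≠ 0 := by
    rintro rfl
    rw [pow_zero, orderOf_eq_one_iff] at hk
    exact hx1 hk
  obtain ⟨k', rfl⟩ := Nat.exists_eq_succ_of_ne_zero hk0
  obtain ⟨t, ht⟩ : ∃ t, t = x ^ (2 ^ k') := ⟨_, rfl⟩
  have ht2 : t ^ 2 = 1 := by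
    rw [ht, ← pow_mul, ← pow_succ, ← hk]
    exact pow_orderOf_eq_one x
  have ht1 : t ≠ 1 := by
    intro h
    rw [ht] at h
    have h1 := orderOf_dvd_of_pow_eq_one h
    rw [hk] at h1
    have h2 := (Nat.pow_dvd_pow_iff_le_right (by norm_num : 1 < 2)).1 h1
    omega
  have htx : t ∈ zpowers x := by rw [ht]; exact Subgroup.npow_mem_zpowers x _
  have htP : t ∈ (P : Subgroup G) := by rw [ht]; exact pow_mem hx _
  have htOm : t ∈ Om hH P := mem_Om_of htP ht2
  have htc : ∀ s ∈ (P : Subgroup G), s * t = t * s := Om_central hH P t htOm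
  by_cases hC : centralizer ({t} : Set G) = ⊤
  · -- quotient branch
    have hcen : ∀ g : G, g * t = t * g := by
      intro g
      have h1 : g ∈ centralizer ({t} : Set G) := by rw [hC]; exact Subgroup.mem_top g
      exact (mem_cent_singleton.1 h1).symm
    have hnorm : (zpowers t).Normal := by
      constructor
      intro n hn g
      obtain ⟨i, rfl⟩ := Subgroup.mem_zpowers_iff.1 hn
      have hcomm : Commute g t := hcen g
      rw [(hcomm.zpow_right i).eq, mul_inv_cancel_right]
      exact Subgroup.zpow_mem_zpowers t i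
    have hcard : Nat.card (G ⧸ zpowers t) < n := by
      have h1 := Subgroup.card_mul_index (zpowers t)
      have h2 : 2 ≤ Nat.card (zpowers t) := by
        rw [Nat.card_zpowers]
        have h3 : orderOf t ≠ 1 := by rwa [Ne, orderOf_eq_one_iff]
        have h4 : 0 < orderOf t := orderOf_pos t
        omega
      have h5 : 0 < (zpowers t).index := Nat.pos_of_ne_zero Subgroup.index_ne_zero_of_finite
      rw [← hn, ← h1]
      show (zpowers t).index < _
      calc (zpowers t).index < 2 * (zpowers t).index := by omega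
        _ ≤ Nat.card (zpowers t) * (zpowers t).index := Nat.mul_le_mul_right _ h2
    have hHq := HH_quot hH ht2
    obtain ⟨P', hP'⟩ := (P.2.map (QuotientGroup.mk' (zpowers t))).exists_le_sylow
    have hq := ih _ hcard (G ⧸ zpowers t) rfl hHq P' (QuotientGroup.mk' _ x)
      (hP' (Subgroup.mem_map_of_mem _ hx)) (QuotientGroup.mk' _ y)
      (hP' (Subgroup.mem_map_of_mem _ hy))
    have hc : (x * y)⁻¹ * (y * x) ∈ zpowers t := by
      rw [← QuotientGroup.eq]
      simpa using hq
    have hcx : (x * y)⁻¹ * (y * x) ∈ zpowers x := (Subgroup.zpowers_le.2 htx) hc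
    have hn' : y⁻¹ * x * y⁻¹⁻¹ ∈ zpowers x := by
      have e : y⁻¹ * x * y⁻¹⁻¹ = x * ((x * y)⁻¹ * (y * x))⁻¹ := by group
      rw [e]
      exact mul_mem (Subgroup.mem_zpowers x) (inv_mem hcx)
    have hyi : ∃ m : ℕ, (y⁻¹) ^ (2 ^ m) = 1 := by
      obtain ⟨m, hm⟩ := pow_two_pow_eq_one (two_elt_of_isPGroup P.2 hy)
      exact ⟨m, by rw [inv_pow, hm, inv_one]⟩
    have h := step0 hH ⟨k' + 1, hk⟩ hyi hn'
    calc x * y = y * (y⁻¹ * x) * y := by group
      _ = y * (x * y⁻¹) * y := by rw [h]
      _ = y * x := by group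
  · -- centraliser branch
    have hcard : Nat.card (centralizer ({t} : Set G)) < n := by
      rw [← hn]
      have h1 := Subgroup.card_mul_index (centralizer ({t} : Set G))
      have h2 : (centralizer ({t} : Set G)).index ≠ 1 := fun h => hC (Subgroup.index_eq_one.1 h)
      have h3 : (centralizer ({t} : Set G)).index ≠ 0 := Subgroup.index_ne_zero_of_finite
      have h4 : 0 < Nat.card (centralizer ({t} : Set G)) := Nat.card_pos
      have h5 : 2 ≤ (centralizer ({t} : Set G)).index := by omega
      rw [← h1]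
      calc Nat.card (centralizer ({t} : Set G)) < Nat.card (centralizer ({t} : Set G)) * 2 := by
            omega
        _ ≤ _ := Nat.mul_le_mul_left _ h5
    have hHC := HH_centralizer hH ht2
    have hxC : x ∈ centralizer ({t} : Set G) := mem_cent_singleton.2 (htc x hx).symm
    have hyC : y ∈ centralizer ({t} : Set G) := mem_cent_singleton.2 (htc y hy).symm
    obtain ⟨P', hP'⟩ := (P.2.comap_subtype (K := centralizer ({t} : Set G))).exists_le_sylow
    have h := ih _ hcard ↥(centralizer ({t} : Set G)) rfl hHC P' ⟨x, hxC⟩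
      (hP' (Subgroup.mem_comap.2 hx)) ⟨y, hyC⟩ (hP' (Subgroup.mem_comap.2 hy))
    exact congrArg Subtype.val h

/-- Camina–Herzog theorem. -/
theorem main [Finite G] (hH : HH G) (P : Sylow 2 G) :
    ∀ x ∈ (P : Subgroup G), ∀ y ∈ (P : Subgroup G), x * y = y * x :=
  main_aux _ G rfl hH P

end Cfsg.Agent.Helper70.CamHer
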