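import Mathlib
import Cfsg.Agent.S4216
import Cfsg.Agent.Lib.Helper2.Frobenius
import Cfsg.Agent.Lib.Helper2.PComplement
import Cfsg.Agent.Lib.Helper66.HallConj
import Cfsg.Agent.Lib.Helper66.NilpotentHall

/-!
# Deskins' theorem: a finite group with a maximal subgroup that is nilpotent of class `≤ 2`
is solvable.
-/

namespace Cfsg.Agent.Helper70.Deskins

open scoped commutatorElement Pointwise
open Subgroup

universe u
variable {G : Type u} [Group G]

/-- In a group of class at most two, commutators are central. -/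
theorem comm_central {H : Type*} [Group H] [Group.IsNilpotent H]
    (h : Group.nilpotencyClass H ≤ 2) (a b c : H) : ⁅a, b⁆ * c = c * ⁅a, b⁆ := by
  have h1 : Subgroup.upperCentralSeries H 2 = ⊤ :=
    Subgroup.upperCentralSeries_eq_top_iff_nilpotencyClass_le.mpr h
  have h2 : a ∈ Subgroup.upperCentralSeries H (1 + 1) := by
    show a ∈ Subgroup.upperCentralSeries H 2
    rw [h1]; trivial
  rw [Subgroup.mem_upperCentralSeries_succ_iff] at h2
  have h3 := h2 b
  rw [Subgroup.upperCentralSeries_one] at h3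
  exact (Subgroup.mem_center_iff.mp h3 c).symm

/-- The hypotheses of the core-free case. -/
structure Hyp (M : Subgroup G) : Prop where
  max : IsCoatom M
  core : M.normalCore = ⊥
  cl : ∀ a ∈ M, ∀ b ∈ M, ∀ c ∈ M, ⁅a, b⁆ * c = c * ⁅a, b⁆

theorem Hyp.normalizer_eq {M : Subgroup G} (h : Hyp M) {X : Subgroup G} (hX : X ≤ M)
    (hX1 : X ≠ ⊥) (hMX : M ≤ normalizer (X : Set G)) : normalizer (X : Set G) = M := by
  rcases eq_or_lt_of_le hMX with h1 | h1
  · exact h1.symm
  · exfalso
    have h2 : normalizer (X : Set G) = ⊤ := h.max.2 _ h1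
    have h3 : X.Normal := normalizer_eq_top_iff.mp h2
    have h4 : X ≤ M.normalCore := normal_le_normalCore.mpr hX
    rw [h.core] at h4
    exact hX1 (eq_bot_iff.mpr h4)

theorem Hyp.centralizer_eq {M : Subgroup G} (h : Hyp M) {x : G} (hx : x ∈ M) (hx1 : x ≠ 1)
    (hMx : M ≤ centralizer ({x} : Set G)) : centralizer ({x} : Set G) = M := by
  rcases eq_or_lt_of_le hMx with h1 | h1
  · exact h1.symm
  · exfalso
    have h2 : centralizer ({x} : Set G) = ⊤ := h.max.2 _ h1
    have hc : ∀ g : G, g * x = x * g := by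
      intro g
      have : g ∈ centralizer ({x} : Set G) := by rw [h2]; trivial
      exact mem_centralizer_singleton_iff.mp this
    have h3 : (zpowers x).Normal := by
      refine ⟨fun n hn g => ?_⟩
      obtain ⟨k, rfl⟩ := mem_zpowers_iff.mp hn
      have hcm : Commute g (x ^ k) := (show Commute g x from hc g).zpow_right k
      rw [hcm.eq, mul_inv_cancel_right]
      exact zpow_mem (mem_zpowers x) k
    have h4 : zpowers x ≤ M.normalCore := normal_le_normalCore.mpr (zpowers_le.mpr hx)
    rw [h.core] at h4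
    exact hx1 (mem_bot.mp (h4 (mem_zpowers x)))

/-- The centre of `M`, as a subgroup of `G`. -/
def cen (M : Subgroup G) : Subgroup G := M ⊓ centralizer (M : Set G)

theorem mem_cen {M : Subgroup G} {z : G} : z ∈ cen M ↔ z ∈ M ∧ ∀ m ∈ M, m * z = z * m := by
  simp [cen, mem_centralizer_iff]

theorem cen_le (M : Subgroup G) : cen M ≤ M := inf_le_left

theorem cen_ne_bot {M : Subgroup G} [Group.IsNilpotent M] (hM : M ≠ ⊥) : cen M ≠ ⊥ := by
  have : Nontrivial M := (Subgroup.nontrivial_iff_ne_bot M).mpr hM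
  have h := Group.IsNilpotent.center_ne_bot (G := M)
  obtain ⟨z, hz1⟩ := (Subgroup.ne_bot_iff_exists_ne_one).mp h
  intro hbot
  have hzc : (z : M) ∈ center M := z.2
  have : ((z : M) : G) ∈ cen M := by
    rw [mem_cen]
    refine ⟨(z : M).2, fun m hm => ?_⟩
    have := Subgroup.mem_center_iff.mp hzc ⟨m, hm⟩
    exact congrArg Subtype.val this
  rw [hbot, mem_bot] at this
  apply hz1
  ext
  simpa using this

theorem Hyp.comm_mem_cen {M : Subgroup G} (h : Hyp M) {a b : G} (ha : a ∈ M) (hb : b ∈ M) :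
    ⁅a, b⁆ ∈ cen M := by
  rw [mem_cen]
  exact ⟨commutator_mem_commutator ha hb |> fun hc => (commutator_le.mpr
    (fun x hx y hy => M.mul_mem (M.mul_mem (M.mul_mem hx hy) (M.inv_mem hx)) (M.inv_mem hy))
      : ⁅M, M⁆ ≤ M) hc, fun m hm => (h.cl a ha b hb m hm).symm⟩


theorem Hyp.normalizer_self {M : Subgroup G} (h : Hyp M) (hM : M ≠ ⊥) :
    normalizer (M : Set G) = M :=
  h.normalizer_eq le_rfl hM le_normalizer

theorem Hyp.centralizer_cen {M : Subgroup G} (h : Hyp M) {z : G} (hz : z ∈ cen M)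
    (hz1 : z ≠ 1) : centralizer ({z} : Set G) = M :=
  h.centralizer_eq (mem_cen.mp hz).1 hz1
    (fun m hm => mem_centralizer_singleton_iff.mpr ((mem_cen.mp hz).2 m hm))

/-- Key claim: for `g ∉ M`, no nontrivial element of `Z(M)` is conjugated into `M` by `g`. -/
theorem Hyp.claimB [Finite G] {M : Subgroup G} (h : Hyp M) (hZ : cen M ≠ ⊥) {g : G}
    (hg : g ∉ M) {z₀ : G} (hz₀ : z₀ ∈ cen M) (hz₀1 : z₀ ≠ 1) : g * z₀ * g⁻¹ ∉ M := by
  intro hzM
  have hM1 : M ≠ ⊥ := fun hb => hZ (eq_bot_iff.mpr (hb ▸ cen_le M))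
  have hC0 : centralizer ({z₀} : Set G) = M := h.centralizer_cen hz₀ hz₀1
  -- (1) `g⁻¹ Z g ≤ M`
  have h1 : ∀ w ∈ cen M, g⁻¹ * w * g ∈ M := by
    intro w hw
    have hcomm : (g * z₀ * g⁻¹) * w = w * (g * z₀ * g⁻¹) := (mem_cen.mp hw).2 _ hzM
    have : g⁻¹ * w * g ∈ centralizer ({z₀} : Set G) := by
      rw [mem_centralizer_singleton_iff]
      have e1 : g⁻¹ * w * g * z₀ = g⁻¹ * (w * (g * z₀ * g⁻¹)) * g := by group
      have e2 : z₀ * (g⁻¹ * w * g) = g⁻¹ * ((g * z₀ * g⁻¹) * w) * g := by group
      rw [e1, e2, hcomm]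
    rwa [hC0] at this
  obtain ⟨w, hw, hw1⟩ := (Subgroup.bot_or_exists_ne_one (cen M)).resolve_left hZ
  have hCw : centralizer ({w} : Set G) = M := h.centralizer_cen hw hw1
  -- (2) `g Z g⁻¹ ≤ M`
  have h2 : ∀ v ∈ cen M, g * v * g⁻¹ ∈ M := by
    intro v hv
    have hw' := h1 w hw
    have hcomm : (g⁻¹ * w * g) * v = v * (g⁻¹ * w * g) := (mem_cen.mp hv).2 _ hw'
    have : g * v * g⁻¹ ∈ centralizer ({w} : Set G) := by
      rw [mem_centralizer_singleton_iff]
      have e1 : g * v * g⁻¹ * w = g * (v * (g⁻¹ * w * g)) * g⁻¹ := by group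
      have e2 : w * (g * v * g⁻¹) = g * ((g⁻¹ * w * g) * v) * g⁻¹ := by group
      rw [e1, e2, hcomm]
    rwa [hCw] at this
  -- the subgroup `A = Z ⊔ gZg⁻¹`
  set A : Subgroup G := cen M ⊔ (cen M).map (MulAut.conj g).toMonoidHom with hA
  have hAM : A ≤ M := by
    refine sup_le (cen_le M) ?_
    rintro _ ⟨v, hv, rfl⟩
    exact h2 v hv
  have hAM' : ∀ a ∈ A, g⁻¹ * a * g ∈ M := by
    intro a ha
    have : A ≤ (M.map (MulAut.conj g).toMonoidHom) := by
      refine sup_le ?_ (Subgroup.map_mono (cen_le M))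
      intro w hw
      exact ⟨g⁻¹ * w * g, h1 w hw, by simp [MulAut.conj_apply, mul_assoc]⟩
    obtain ⟨m, hm, rfl⟩ := this ha
    simpa [MulAut.conj_apply, mul_assoc] using hm
  have hA1 : A ≠ ⊥ := fun hb => hZ (eq_bot_iff.mpr (hb ▸ le_sup_left))
  -- `M` normalizes `A`
  have hMA : M ≤ normalizer (A : Set G) := by
    intro m hm
    apply mem_normalizer_fintype
    intro a ha
    have haM : a ∈ M := hAM ha
    have e : m * a * m⁻¹ = ⁅m, a⁆ * a := by simp [commutatorElement_def]
    have : m * a * m⁻¹ ∈ A := by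
      rw [e]
      exact A.mul_mem (le_sup_left (a := cen M) (h.comm_mem_cen hm haM)) ha
    exact this
  have hNA : normalizer (A : Set G) = M := h.normalizer_eq hAM hA1 hMA
  -- `gMg⁻¹` normalizes `A`
  have hgMA : ∀ m ∈ M, g * m * g⁻¹ ∈ normalizer (A : Set G) := by
    intro m hm
    apply mem_normalizer_fintype
    intro a ha
    have ha' : g⁻¹ * a * g ∈ M := hAM' a ha
    have e : g * m * g⁻¹ * a * (g * m * g⁻¹)⁻¹ = (g * ⁅m, g⁻¹ * a * g⁆ * g⁻¹) * a := by
      simp only [commutatorElement_def]; group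
    have : g * m * g⁻¹ * a * (g * m * g⁻¹)⁻¹ ∈ A := by
      rw [e]
      refine A.mul_mem (le_sup_right (b := (cen M).map (MulAut.conj g).toMonoidHom) ?_) ha
      exact ⟨⁅m, g⁻¹ * a * g⁆, h.comm_mem_cen hm ha', by
        simp only [MulEquiv.coe_toMonoidHom, MulAut.conj_apply]⟩
    exact this
  -- hence `g` normalizes `M`
  apply hg
  rw [← h.normalizer_self hM1]
  apply mem_normalizer_fintype
  intro m hm
  have := hgMA m hm
  rwa [hNA] at this


section idx
variable [Finite G]

/-- `[A ⊔ K : A] = [K : A ⊓ K]` for `K` normal. -/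
theorem relIndex_sup_of_normal (A K : Subgroup G) [K.Normal] :
    A.relIndex (A ⊔ K) = A.relIndex K := by
  have h1 : (A ⊓ K).relIndex A * A.relIndex (A ⊔ K) = (A ⊓ K).relIndex (A ⊔ K) :=
    relIndex_mul_relIndex _ _ _ inf_le_left le_sup_left
  have h2 : (A ⊓ K).relIndex K * K.relIndex (A ⊔ K) = (A ⊓ K).relIndex (A ⊔ K) :=
    relIndex_mul_relIndex _ _ _ inf_le_right le_sup_right
  have h3 : K.relIndex (A ⊔ K) = K.relIndex A := relIndex_sup_right A K
  have h4 : (A ⊓ K).relIndex A = K.relIndex A := inf_relIndex_left A K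
  have h5 : (A ⊓ K).relIndex K = A.relIndex K := inf_relIndex_right A K
  rw [h3, h5] at h2
  rw [h4] at h1
  have hne : K.relIndex A ≠ 0 := by
    rw [Subgroup.relIndex]; exact Subgroup.index_ne_zero_of_finite
  have : K.relIndex A * A.relIndex (A ⊔ K) = K.relIndex A * A.relIndex K := by
    rw [h1, mul_comm, h2]
  exact Nat.eq_of_mul_eq_mul_left (Nat.pos_of_ne_zero hne) this

variable {p : ℕ} [Fact p.Prime]

/-- For `K` normal, `P ∩ K` is a Sylow `p`-subgroup of `K`. -/
noncomputable def sylowInf (P : Sylow p G) (K : Subgroup G) [K.Normal] : Sylow p K :=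
  (P.isPGroup'.comap_subtype (K := K)).toSylow (by
    change ¬ p ∣ (P : Subgroup G).relIndex K
    rw [← relIndex_sup_of_normal]
    intro h
    exact P.not_dvd_index (h.trans (relIndex_dvd_index_of_le le_sup_left)))

theorem coe_sylowInf (P : Sylow p G) (K : Subgroup G) [K.Normal] :
    ((sylowInf P K : Sylow p K) : Subgroup K) = (P : Subgroup G).subgroupOf K := rfl

theorem relIndex_normalizer_modEq {n : ℕ} {H : Subgroup G} (hH : Nat.card H = p ^ n) :
    H.relIndex (normalizer (H : Set G)) ≡ H.index [MOD p] := by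
  have := Sylow.card_quotient_normalizer_modEq_card_quotient hH
  rw [← Subgroup.index_eq_card, ← Subgroup.index_eq_card] at this
  exact this

end idx

/-- The Sylow `p`-subgroup of `M` is a Sylow `p`-subgroup of `G` with normalizer `M`. -/
theorem Hyp.exists_sylow [Finite G] {M : Subgroup G} (h : Hyp M) [hnil : Group.IsNilpotent M]
    (p : ℕ) [hp : Fact p.Prime] (hpM : p ∣ Nat.card M) :
    ∃ S : Sylow p G, (S : Subgroup G) ≤ M ∧ normalizer ((S : Subgroup G) : Set G) = M := by
  obtain ⟨P₀⟩ : Nonempty (Sylow p M) := inferInstance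
  have hn : (P₀ : Subgroup M).Normal := inferInstance
  set P : Subgroup G := (P₀ : Subgroup M).map M.subtype with hPdef
  have hPM : P ≤ M := map_subtype_le _
  have hP01 : (P₀ : Subgroup M) ≠ ⊥ := P₀.ne_bot_of_dvd_card hpM
  have hP1 : P ≠ ⊥ := by
    intro hb
    exact hP01 ((Subgroup.map_eq_bot_iff_of_injective _ M.subtype_injective).mp hb)
  have hMP : M ≤ normalizer (P : Set G) := by
    intro m hm
    apply mem_normalizer_fintype
    rintro _ ⟨x, hx, rfl⟩
    exact ⟨⟨m, hm⟩ * x * ⟨m, hm⟩⁻¹, hn.conj_mem x hx ⟨m, hm⟩, rfl⟩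
  have hNP : normalizer (P : Set G) = M := h.normalizer_eq hPM hP1 hMP
  have hPp : IsPGroup p P := P₀.2.map _
  have hidx : ¬ p ∣ P.index := by
    obtain ⟨n, hn⟩ := IsPGroup.iff_card.mp hPp
    have hmod := relIndex_normalizer_modEq (p := p) hn
    rw [hNP] at hmod
    have e : P.relIndex M = (P₀ : Subgroup M).index := by
      rw [Subgroup.relIndex]
      congr 1
      exact Subgroup.comap_map_eq_self_of_injective M.subtype_injective _
    rw [e] at hmod
    intro hd
    have : p ∣ (P₀ : Subgroup M).index := (Nat.modEq_zero_iff_dvd.mp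
      (hmod.trans (Nat.modEq_zero_iff_dvd.mpr hd)))
    exact P₀.not_dvd_index this
  refine ⟨hPp.toSylow hidx, ?_, ?_⟩
  · rw [IsPGroup.toSylow_coe]; exact hPM
  · rw [IsPGroup.toSylow_coe]; exact hNP


/-- By Grün's first theorem, `S ∩ G' ≤ Z(M)`. -/
theorem Hyp.inf_commutator_le_cen [Finite G] {M : Subgroup G} (h : Hyp M)
    [hnil : Group.IsNilpotent M] (hM : M ≠ ⊥) {p : ℕ} [hp : Fact p.Prime] (S : Sylow p G)
    (hSM : (S : Subgroup G) ≤ M) (hNS : normalizer ((S : Subgroup G) : Set G) = M) :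
    (S : Subgroup G) ⊓ commutator G ≤ cen M := by
  have hZ : cen M ≠ ⊥ := cen_ne_bot hM
  have hMM : ⁅M, M⁆ ≤ cen M := by
    rw [commutator_le]
    intro a ha b hb
    exact h.comm_mem_cen ha hb
  have hSS : ⁅(S : Subgroup G), (S : Subgroup G)⁆ ≤ cen M :=
    (commutator_mono hSM hSM).trans hMM
  rw [Cfsg.Agent.S4216.result S, hNS]
  refine sup_le (inf_le_right.trans hMM) (iSup_le fun z => ?_)
  rintro y ⟨hyS, x, hx, rfl⟩
  have hxc : x ∈ cen M := hSS hx
  by_cases hz : z ∈ M
  · have e : (MulAut.conj z).toMonoidHom x = x := by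
      simp only [MulEquiv.coe_toMonoidHom, MulAut.conj_apply]
      rw [(mem_cen.mp hxc).2 z hz, mul_inv_cancel_right]
    rw [e]; exact hxc
  · by_cases hx1 : x = 1
    · subst hx1
      rw [map_one]; exact one_mem _
    · exfalso
      have := h.claimB hZ hz hxc hx1
      apply this
      have hy : (MulAut.conj z).toMonoidHom x ∈ M := hSM hyS
      simpa only [MulEquiv.coe_toMonoidHom, MulAut.conj_apply] using hy

/-- Burnside's theorem inside a normal subgroup `N` with `N ∩ S ≤ Z(M)`. -/
theorem Hyp.hnpc_normal [Finite G] {M : Subgroup G} (h : Hyp M) {p : ℕ} [hp : Fact p.Prime]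
    (S : Sylow p G) (N : Subgroup G) [N.Normal] (hN : N ⊓ (S : Subgroup G) ≤ cen M) :
    Cfsg.HasNormalPComplement p N := by
  apply Cfsg.Agent.Helper2.hasNormalPComplement_of_normalizer_le_centralizer (sylowInf S N)
  intro n hn
  rw [mem_centralizer_iff]
  intro x hx
  have hxS : (x : G) ∈ (S : Subgroup G) := hx
  by_cases hbot : N ⊓ (S : Subgroup G) = ⊥
  · have h1 : (x : G) ∈ N ⊓ (S : Subgroup G) := ⟨x.2, hxS⟩
    rw [hbot, mem_bot] at h1
    have h2 : x = 1 := Subtype.ext h1
    rw [h2, one_mul, mul_one]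
  · have hP1M : N ⊓ (S : Subgroup G) ≤ M := hN.trans (cen_le M)
    have hMP1 : M ≤ normalizer ((N ⊓ (S : Subgroup G) : Subgroup G) : Set G) := by
      intro m hm
      apply mem_normalizer_fintype
      intro a ha
      have hac : a ∈ cen M := hN ha
      have e : m * a * m⁻¹ = a := by rw [(mem_cen.mp hac).2 m hm, mul_inv_cancel_right]
      rw [e]; exact ha
    have hNP1 := h.normalizer_eq hP1M hbot hMP1
    have hnG : (n : G) ∈ normalizer ((N ⊓ (S : Subgroup G) : Subgroup G) : Set G) := by
      apply mem_normalizer_fintype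
      intro a ha
      have h1 : (⟨a, ha.1⟩ : N) ∈ ((sylowInf S N : Sylow p N) : Subgroup N) := ha.2
      have h2 := (mem_normalizer_iff.mp hn ⟨a, ha.1⟩).mp h1
      exact ⟨(n * ⟨a, ha.1⟩ * n⁻¹).2, h2⟩
    rw [hNP1] at hnG
    have hxc : (x : G) ∈ cen M := hN ⟨x.2, hxS⟩
    have := (mem_cen.mp hxc).2 (n : G) hnG
    exact Subtype.ext this.symm

/-- `G` has a normal `p`-complement for every prime `p` dividing `|M|`. -/
theorem Hyp.hnpc [Finite G] {M : Subgroup G} (h : Hyp M) [hnil : Group.IsNilpotent M]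
    (hM : M ≠ ⊥) (p : ℕ) [hp : Fact p.Prime] (hpM : p ∣ Nat.card M) :
    Cfsg.HasNormalPComplement p G := by
  obtain ⟨S, hSM, hNS⟩ := h.exists_sylow p hpM
  have hfoc := h.inf_commutator_le_cen hM S hSM hNS
  set N : Subgroup G := ((S : Subgroup G).transferFocal).ker with hNdef
  have hN1 : N ⊓ (S : Subgroup G) ≤ cen M := by
    rw [hNdef, Subgroup.ker_transferFocal_inf_eq_focalSubgroup S,
      ← Subgroup.commutator_inf_eq_focalSubgroup S, inf_comm]
    exact hfoc
  have hpq : IsPGroup p (G ⧸ N) :=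
    (S.2.to_quotient _).of_equiv
      (Subgroup.transferFocal.quotientKerMulEquivQuotientFocalSubroupOf S).symm
  obtain ⟨j, hj⟩ := IsPGroup.iff_card.mp hpq
  have hidx : N.index = p ^ j := by rw [Subgroup.index_eq_card]; exact hj
  exact Cfsg.Agent.Helper2.hasNormalPComplement_of_normal_index_pow N inferInstance j hidx
    (h.hnpc_normal S N hN1)


theorem Hyp.hall [Finite G] {M : Subgroup G} (h : Hyp M) [hnil : Group.IsNilpotent M] :
    Nat.Coprime (Nat.card M) M.index := by
  apply Nat.coprime_of_dvd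
  intro p hp hpM hpI
  have := Fact.mk hp
  obtain ⟨S, hSM, -⟩ := h.exists_sylow p hpM
  exact S.not_dvd_index (hpI.trans (Subgroup.index_dvd_of_le hSM))

/-- If `B` normalizes `A` then every element of `A ⊔ B` is a product `a * b`. -/
theorem exists_mul_of_mem_sup {A B : Subgroup G} (hB : B ≤ normalizer (A : Set G)) {x : G}
    (hx : x ∈ A ⊔ B) : ∃ a ∈ A, ∃ b ∈ B, x = a * b := by
  rw [Subgroup.sup_eq_closure] at hx
  induction hx using Subgroup.closure_induction with
  | mem y hy =>
    rcases hy with hy | hy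
    · exact ⟨y, hy, 1, B.one_mem, (mul_one y).symm⟩
    · exact ⟨1, A.one_mem, y, hy, (one_mul y).symm⟩
  | one => exact ⟨1, A.one_mem, 1, B.one_mem, (mul_one 1).symm⟩
  | mul y z _ _ hy hz =>
    obtain ⟨a, ha, b, hb, rfl⟩ := hy
    obtain ⟨a', ha', b', hb', rfl⟩ := hz
    refine ⟨a * (b * a' * b⁻¹), A.mul_mem ha ((mem_normalizer_iff.mp (hB hb) a').mp ha'),
      b * b', B.mul_mem hb hb', by group⟩
  | inv y _ hy =>
    obtain ⟨a, ha, b, hb, rfl⟩ := hy
    refine ⟨b⁻¹ * a⁻¹ * b⁻¹⁻¹, (mem_normalizer_iff.mp (hB (B.inv_mem hb)) a⁻¹).mp (A.inv_mem ha),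
      b⁻¹, B.inv_mem hb, by group⟩

/-- The core-free case. -/
theorem Hyp.isSolvable [Finite G] {M : Subgroup G} (h : Hyp M) [hnil : Group.IsNilpotent M]
    (hM : M ≠ ⊥) : Group.IsSolvable G := by
  have hHall := h.hall
  obtain ⟨K, hKn, hKc⟩ := Cfsg.Agent.Helper66.exists_normal_complement_of_forall M hHall
    (fun p hp hpM => by have := Fact.mk hp; exact h.hnpc hM p hpM)
  have := hKn
  have hKM : K ⊓ M = ⊥ := hKc.disjoint.eq_bot
  have hKidx : K.index = Nat.card M := hKc.symm.index_eq_card
  have hMidx : M.index = Nat.card K := hKc.index_eq_card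
  have hKMcop : Nat.Coprime (Nat.card K) (Nat.card M) := by
    rw [← hMidx]; exact hHall.symm
  -- `K` is nilpotent
  have hKnil : Group.IsNilpotent K := by
    by_cases hK1 : Nat.card K = 1
    · have : Subsingleton K := (Nat.card_eq_one_iff_unique.mp hK1).1
      infer_instance
    · obtain ⟨r, hr, hrK⟩ := Nat.exists_prime_and_dvd hK1
      have := Fact.mk hr
      obtain ⟨R₀⟩ : Nonempty (Sylow r K) := inferInstance
      set R : Subgroup G := (R₀ : Subgroup K).map K.subtype with hRdef
      have hRK : R ≤ K := map_subtype_le _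
      have hRr : IsPGroup r R := R₀.2.map _
      have hR1 : R ≠ ⊥ := by
        intro hb
        exact R₀.ne_bot_of_dvd_card hrK
          ((Subgroup.map_eq_bot_iff_of_injective _ K.subtype_injective).mp hb)
      set H : Subgroup G := normalizer (R : Set G) with hHdef
      have hHK : H ⊔ K = ⊤ := Sylow.normalizer_sup_eq_top R₀
      have hN'idx : (K.subgroupOf H).index = Nat.card M := by
        show K.relIndex H = _
        rw [← Subgroup.relIndex_sup_right, hHK, Subgroup.relIndex_top_right, hKidx]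
      have hN'card : Nat.card (K.subgroupOf H) ∣ Nat.card K :=
        Subgroup.card_comap_dvd_of_injective K H.subtype H.subtype_injective
      have hcop : Nat.Coprime (Nat.card (K.subgroupOf H)) (K.subgroupOf H).index := by
        rw [hN'idx]
        exact Nat.Coprime.coprime_dvd_left hN'card hKMcop
      obtain ⟨M₁', hM₁'⟩ := Subgroup.exists_right_complement'_of_coprime hcop
      have hM₁'card : Nat.card M₁' = Nat.card M := by
        rw [← hM₁'.symm.index_eq_card, hN'idx]
      set M₁ : Subgroup G := M₁'.map H.subtype with hM₁def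
      have hM₁card : Nat.card M₁ = Nat.card M := by
        rw [hM₁def, Subgroup.card_map_of_injective H.subtype_injective, hM₁'card]
      have hM₁H : M₁ ≤ H := map_subtype_le _
      obtain ⟨g, hg⟩ := Cfsg.Agent.Helper66.wielandt_subconj M hHall M₁
        (fun r _ hd => hM₁card ▸ hd)
      have hMeq : M₁.map (MulAut.conj g).toMonoidHom = M := by
        apply Subgroup.eq_of_le_of_card_ge
        · rintro _ ⟨k, hk, rfl⟩
          exact hg k hk
        · rw [Subgroup.card_map_of_injective (MulAut.conj g).injective, hM₁card]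
      set R' : Subgroup G := R.map (MulAut.conj g).toMonoidHom with hR'def
      have hR'K : R' ≤ K := by
        rintro _ ⟨x, hx, rfl⟩
        exact hKn.conj_mem x (hRK hx) g
      have hR'r : IsPGroup r R' := hRr.map _
      have hR'1 : R' ≠ ⊥ := by
        intro hb
        exact hR1 ((Subgroup.map_eq_bot_iff_of_injective _ (MulAut.conj g).injective).mp hb)
      have hMR' : M ≤ normalizer (R' : Set G) := by
        intro m hm
        rw [← hMeq] at hm
        obtain ⟨k, hk, rfl⟩ := hm
        have hkH : k ∈ normalizer (R : Set G) := hM₁H hk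
        apply mem_normalizer_fintype
        rintro _ ⟨x, hx, rfl⟩
        refine ⟨k * x * k⁻¹, (mem_normalizer_iff.mp hkH x).mp hx, ?_⟩
        simp only [MulEquiv.coe_toMonoidHom, MulAut.conj_apply]
        group
      have htop : R' ⊔ M = ⊤ := by
        apply h.max.2
        refine lt_of_le_of_ne le_sup_right ?_
        intro he
        have hR'M : R' ≤ M := by rw [he]; exact le_sup_left
        have : R' ≤ K ⊓ M := le_inf hR'K hR'M
        rw [hKM] at this
        exact hR'1 (eq_bot_iff.mpr this)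
      have hKR' : K ≤ R' := by
        intro k hk
        have hk' : k ∈ R' ⊔ M := by rw [htop]; trivial
        obtain ⟨a, ha, b, hb, rfl⟩ := exists_mul_of_mem_sup hMR' hk'
        have hbK : b ∈ K := by
          have : a⁻¹ * (a * b) ∈ K := K.mul_mem (K.inv_mem (hR'K ha)) hk
          rwa [inv_mul_cancel_left] at this
        have : b ∈ K ⊓ M := ⟨hbK, hb⟩
        rw [hKM, mem_bot] at this
        rw [this, mul_one]; exact ha
      have hKr : IsPGroup r K := hR'r.to_le hKR'
      exact hKr.isNilpotent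
  have : Group.IsSolvable K := inferInstance
  -- `G ⧸ K` is an image of `M`
  have hsurj : Function.Surjective ((QuotientGroup.mk' K).comp M.subtype) := by
    intro q
    obtain ⟨x, rfl⟩ := QuotientGroup.mk'_surjective K q
    have hx : x ∈ K ⊔ M := by rw [hKc.sup_eq_top]; trivial
    have hMK : M ≤ normalizer (K : Set G) := by rw [normalizer_eq_top]; exact le_top
    obtain ⟨a, ha, b, hb, rfl⟩ := exists_mul_of_mem_sup hMK hx
    refine ⟨⟨b, hb⟩, ?_⟩
    simp only [MonoidHom.comp_apply, Subgroup.coe_subtype, QuotientGroup.mk'_apply]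
    rw [QuotientGroup.eq]
    have : b⁻¹ * (a * b) ∈ K := hKn.conj_mem' a ha b |> fun h => by simpa [mul_assoc] using h
    exact this
  have : Group.IsSolvable M := inferInstance
  have : Group.IsSolvable (G ⧸ K) := Group.isSolvable_of_surjective hsurj
  exact Group.isSolvable_of_ker_le_range K.subtype (QuotientGroup.mk' K)
    (by rw [QuotientGroup.ker_mk', Subgroup.range_subtype])


/-- The image of a coatom `M ≥ N` in `G ⧸ N` is a coatom. -/
theorem isCoatom_map_mk {M N : Subgroup G} [N.Normal] (hM : IsCoatom M) (hNM : N ≤ M) :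
    IsCoatom (M.map (QuotientGroup.mk' N)) := by
  have hcm : (M.map (QuotientGroup.mk' N)).comap (QuotientGroup.mk' N) = M := by
    rw [Subgroup.comap_map_eq, QuotientGroup.ker_mk', sup_of_le_left hNM]
  constructor
  · intro htop
    rw [htop, Subgroup.comap_top] at hcm
    exact hM.1 hcm.symm
  · intro L hL
    have h1 : M < L.comap (QuotientGroup.mk' N) := by
      refine lt_of_le_of_ne (Subgroup.map_le_iff_le_comap.mp hL.le) ?_
      intro he
      apply hL.ne
      rw [he, Subgroup.map_comap_eq_self_of_surjective (QuotientGroup.mk'_surjective N)]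
    have h2 := hM.2 _ h1
    rw [← Subgroup.map_comap_eq_self_of_surjective (QuotientGroup.mk'_surjective N) L, h2,
      Subgroup.map_top_of_surjective _ (QuotientGroup.mk'_surjective N)]

/-- **Deskins' theorem**, by induction on the order. -/
theorem main : ∀ (n : ℕ) (G : Type u) [Group G] [Finite G], Nat.card G = n →
    ∀ M : Subgroup G, IsCoatom M → Group.IsNilpotent M → Group.nilpotencyClass M ≤ 2 →
      Group.IsSolvable G := by
  intro n
  induction n using Nat.strong_induction_on with
  | _ n IH =>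
  intro G _ _ hn M hmax hnil hcl
  by_cases hcore : M.normalCore = ⊥
  · by_cases hM : M = ⊥
    · subst hM
      obtain ⟨g, hg⟩ : ∃ g : G, g ≠ 1 := by
        by_contra hcon
        push Not at hcon
        apply hmax.1
        rw [eq_top_iff]
        intro x _
        rw [hcon x]; exact one_mem _
      have hz : zpowers g = ⊤ := hmax.2 _ (bot_lt_iff_ne_bot.mpr (by
        intro hb
        exact hg ((Subgroup.zpowers_eq_bot).mp hb)))
      apply Group.isSolvable_of_comm
      intro a b
      have ha : a ∈ zpowers g := by rw [hz]; trivial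
      have hb : b ∈ zpowers g := by rw [hz]; trivial
      obtain ⟨i, rfl⟩ := mem_zpowers_iff.mp ha
      obtain ⟨j, rfl⟩ := mem_zpowers_iff.mp hb
      rw [← zpow_add, ← zpow_add, add_comm]
    · have hyp : Hyp M := ⟨hmax, hcore, fun a ha b hb c hc => by
        have := comm_central hcl (⟨a, ha⟩ : M) ⟨b, hb⟩ ⟨c, hc⟩
        exact congrArg Subtype.val this⟩
      exact hyp.isSolvable hM
  · set N : Subgroup G := M.normalCore with hNdef
    have hNM : N ≤ M := normalCore_le M
    have hNcard : 1 < Nat.card N := by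
      rw [Finite.one_lt_card_iff_nontrivial, Subgroup.nontrivial_iff_ne_bot]
      exact hcore
    have hlt : Nat.card (G ⧸ N) < n := by
      rw [← hn, Subgroup.card_eq_card_quotient_mul_card_subgroup N]
      have hq : 0 < Nat.card (G ⧸ N) := Nat.card_pos
      nlinarith
    have hmax' := isCoatom_map_mk hmax hNM
    have hf : Function.Surjective ((QuotientGroup.mk' N).subgroupMap M) :=
      (QuotientGroup.mk' N).subgroupMap_surjective M
    have hnil' : Group.IsNilpotent (M.map (QuotientGroup.mk' N)) :=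
      Group.nilpotent_of_surjective _ hf
    have hcl' : Group.nilpotencyClass (M.map (QuotientGroup.mk' N)) ≤ 2 :=
      (Group.nilpotencyClass_le_of_surjective _ hf).trans hcl
    have hq : Group.IsSolvable (G ⧸ N) := IH _ hlt (G ⧸ N) rfl _ hmax' hnil' hcl'
    have hMs : Group.IsSolvable M := inferInstance
    have hNs : Group.IsSolvable N :=
      Group.isSolvable_of_isSolvable_injective (Subgroup.inclusion_injective hNM)
    exact (Group.isSolvable_iff_subgroup_quotient N).mpr ⟨hNs, hq⟩

end Cfsg.Agent.Helper70.Deskins
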