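import Mathlib
import Cfsg.Prelude.Def_Local
import Cfsg.Agent.Lib.Helper24.SZConj

/-!
Frattini argument for Hall complements (Schur--Zassenhaus conjugacy form): if `Q ≤ R` are normal
subgroups of the finite group `H`, `Q` solvable and `|Q|` coprime to `|R : Q|`, then `Q` has a complement
`K` in `R` and `H = R N_H(K)`.
-/

set_option autoImplicit false

namespace Cfsg.Agent.Helper70.GY

open Cfsg Subgroup

universe u

theorem hall_frattini {H : Type u} [Group H] [Finite H] (Q R : Subgroup H) [hQn : Q.Normal]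
    [hRn : R.Normal] (hQR : Q ≤ R) (hsolv : Group.IsSolvable Q)
    (hcop : (Nat.card Q).Coprime (Q.relIndex R)) :
    ∃ K : Subgroup H, K ≤ R ∧ Nat.card K = Q.relIndex R ∧ R ≤ Q ⊔ K ∧
      ∀ g : H, ∃ r ∈ R, r * g ∈ normalizer (K : Set H) := by
  classical
  have hNn : (Q.subgroupOf R).Normal := hQn.subgroupOf R
  have eN : ↥(Q.subgroupOf R) ≃* ↥Q := subgroupOfEquivOfLe hQR
  have hcardN : Nat.card (Q.subgroupOf R) = Nat.card Q := Nat.card_congr eN.toEquiv
  have hidx : (Q.subgroupOf R).index = Q.relIndex R := rfl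
  have hsolvN : Group.IsSolvable ↥(Q.subgroupOf R) :=
    Group.isSolvable_of_isSolvable_injective (f := eN.toMonoidHom) eN.injective
  have hcopN : (Nat.card (Q.subgroupOf R)).Coprime (Q.subgroupOf R).index := by
    rw [hcardN, hidx]; exact hcop
  obtain ⟨K', hK'⟩ := exists_right_complement'_of_coprime hcopN
  have hcardK' : Nat.card K' = (Q.subgroupOf R).index := by
    have h1 := hK'.card_mul_card
    have h2 := (Q.subgroupOf R).card_mul_index
    have hpos : 0 < Nat.card (Q.subgroupOf R) := Nat.card_pos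
    exact Nat.eq_of_mul_eq_mul_left hpos (h1.trans h2.symm)
  refine ⟨K'.map R.subtype, map_subtype_le K', ?_, ?_, ?_⟩
  · rw [card_subtype, hcardK', hidx]
  · intro r hr
    have hmem : (⟨r, hr⟩ : R) ∈ (Q.subgroupOf R) ⊔ K' := by rw [hK'.sup_eq_top]; exact mem_top _
    have h1 : R.subtype ⟨r, hr⟩ ∈ ((Q.subgroupOf R) ⊔ K').map R.subtype := mem_map_of_mem _ hmem
    rw [Subgroup.map_sup] at h1
    have hle : (Q.subgroupOf R).map R.subtype ⊔ K'.map R.subtype ≤ Q ⊔ K'.map R.subtype := by
      apply sup_le_sup_right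
      rw [subgroupOf_map_subtype]
      exact inf_le_left
    exact hle h1
  · intro g
    have hKgR : (K'.map R.subtype).map (MulAut.conj g).toMonoidHom ≤ R := by
      rintro _ ⟨k, hk, rfl⟩
      have hkR : k ∈ R := map_subtype_le K' hk
      show g * k * g⁻¹ ∈ R
      exact hRn.conj_mem k hkR g
    have hcardK'' : Nat.card (((K'.map R.subtype).map (MulAut.conj g).toMonoidHom).subgroupOf R)
        = Nat.card K' := by
      rw [Nat.card_congr (subgroupOfEquivOfLe hKgR).toEquiv,
        card_map_of_injective (MulAut.conj g).injective, card_subtype]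
    have hK''c : (Q.subgroupOf R).IsComplement'
        (((K'.map R.subtype).map (MulAut.conj g).toMonoidHom).subgroupOf R) := by
      apply isComplement'_of_coprime
      · rw [hcardK'']; exact hK'.card_mul_card
      · rw [hcardK'', hcardK']; exact hcopN
    obtain ⟨r', hr'⟩ := Cfsg.Agent.Helper24.sz_conj (Q.subgroupOf R) hsolvN hcopN K' _ hK' hK''c
    refine ⟨(r' : H)⁻¹, R.inv_mem r'.2, ?_⟩
    apply mem_normalizer_fintype
    rintro _ ⟨k', hk', rfl⟩
    have h1 : (⟨g * (k' : H) * g⁻¹, hRn.conj_mem _ k'.2 g⟩ : R) ∈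
        ((K'.map R.subtype).map (MulAut.conj g).toMonoidHom).subgroupOf R := by
      rw [mem_subgroupOf]
      exact ⟨(k' : H), mem_map_of_mem _ hk', rfl⟩
    rw [hr'] at h1
    obtain ⟨k1, hk1, hk1e⟩ := h1
    have h2 : (r' : H) * (k1 : H) * (r' : H)⁻¹ = g * (k' : H) * g⁻¹ := by
      have := congrArg (fun x : R => (x : H)) hk1e
      simpa using this
    have h3 : (r' : H)⁻¹ * g * (k' : H) * ((r' : H)⁻¹ * g)⁻¹ = (k1 : H) := by
      calc (r' : H)⁻¹ * g * (k' : H) * ((r' : H)⁻¹ * g)⁻¹
          = (r' : H)⁻¹ * (g * (k' : H) * g⁻¹) * (r' : H) := by group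
        _ = (k1 : H) := by rw [← h2]; group
    show (r' : H)⁻¹ * g * (k' : H) * ((r' : H)⁻¹ * g)⁻¹ ∈ ((K'.map R.subtype : Subgroup H) : Set H)
    rw [h3]
    exact mem_map_of_mem _ hk1

end Cfsg.Agent.Helper70.GY
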