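import Mathlib
import Cfsg.Prelude.Def_Local
import Cfsg.Agent.S1947

/-!
Core of the Gaschütz--Yen argument, with the subgroups `Q = O_p(H)`, `R = O_{p,p'}(H)` and a Hall
complement `K` of `Q` in `R` given abstractly.
-/

set_option autoImplicit false

namespace Cfsg.Agent.Helper70.GY

open Cfsg Subgroup

universe u

theorem core_false {H : Type u} [Group H] [Finite H] {p : ℕ} [hp : Fact p.Prime] (hp2 : p ≠ 2)
    (Q R K : Subgroup H) [hQn : Q.Normal] [hRn : R.Normal] (hQp : IsPGroup p Q)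
    (hcent : centralizer (Q : Set H) ≤ Q)
    (hQinv : ∀ a : MulAut H, ∀ y : H, y ∈ Q → a y ∈ Q)
    (hRinv : ∀ a : MulAut H, ∀ y : H, y ∈ R → a y ∈ R)
    (hKR : K ≤ R) (hKcop : (Nat.card K).Coprime p) (hKne : K ≠ ⊥) (hRQK : R ≤ Q ⊔ K)
    (hfrat : ∀ g : H, ∃ r ∈ R, r * g ∈ normalizer (K : Set H))
    (hpR : p ∣ R.index)
    (htrans : ∀ U V : Subgroup H, Nat.card U = p → Nat.card V = p →
      ∃ a : MulAut H, U.map a.toMonoidHom = V) : False := by
  classical
  have hpp : p.Prime := hp.out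
  -- elements of `K ∩ Q` are trivial
  have hKQ : ∀ c : H, c ∈ K → c ∈ Q → c = 1 := by
    intro c hcK hcQ
    obtain ⟨j, hj⟩ := hQp ⟨c, hcQ⟩
    have hj' : c ^ (p ^ j) = 1 := by
      have := congrArg (fun x : Q => (x : H)) hj
      simpa using this
    have h1 : orderOf c ∣ p ^ j := orderOf_dvd_of_pow_eq_one hj'
    have h2 : orderOf c ∣ Nat.card K := by
      have : orderOf (⟨c, hcK⟩ : K) ∣ Nat.card K := orderOf_dvd_natCard _
      rwa [← orderOf_coe] at this
    have h3 : (orderOf c).Coprime (p ^ j) := (Nat.Coprime.coprime_dvd_left h2 hKcop).pow_right j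
    have h4 : orderOf c = 1 := Nat.Coprime.eq_one_of_dvd h3 h1
    exact orderOf_eq_one_iff.mp h4
  -- `Q ≠ ⊥`
  have hQne : Q ≠ ⊥ := by
    intro hQb
    have h1 : centralizer (Q : Set H) = ⊤ := by
      rw [hQb]; simp
    have h2 : (⊤ : Subgroup H) ≤ ⊥ := by rw [← hQb, ← h1]; exact hcent
    apply hKne
    exact le_bot_iff.mp (le_top.trans h2)
  -- central element of order `p` in `Q`
  have : Nontrivial Q := (nontrivial_iff_ne_bot Q).mpr hQne
  have : Nontrivial (center Q) := hQp.center_nontrivial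
  have hZp : IsPGroup p (center Q) := hQp.to_subgroup _
  obtain ⟨n, hn⟩ := IsPGroup.iff_card.mp hZp
  have hn0 : n ≠ 0 := by
    intro h0
    rw [h0, pow_zero] at hn
    have : Subsingleton (center Q) := (Nat.card_eq_one_iff_unique.mp hn).1
    exact not_subsingleton _ this
  have hpZ : p ∣ Nat.card (center Q) := by rw [hn]; exact dvd_pow_self p hn0
  obtain ⟨z, hz⟩ := exists_prime_orderOf_dvd_card' p hpZ
  have hz0 : orderOf ((z : Q) : H) = p := by rw [orderOf_coe, orderOf_coe]; exact hz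
  have hz0Q : ((z : Q) : H) ∈ Q := (z : Q).2
  have hz0c : ∀ y ∈ Q, ((z : Q) : H) * y = y * ((z : Q) : H) := by
    intro y hy
    have h1 := (mem_center_iff.mp z.2) ⟨y, hy⟩
    have := congrArg (fun x : Q => (x : H)) h1
    simpa using this.symm
  -- Claim A: every element of order `p` lies in `Z(Q)`
  have hA : ∀ x : H, orderOf x = p → x ∈ Q ∧ ∀ y ∈ Q, x * y = y * x := by
    intro x hx
    obtain ⟨a, ha⟩ := htrans (zpowers ((z : Q) : H)) (zpowers x)
      (by rw [Nat.card_zpowers, hz0]) (by rw [Nat.card_zpowers, hx])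
    have hxm : x ∈ (zpowers ((z : Q) : H)).map a.toMonoidHom := by rw [ha]; exact mem_zpowers x
    obtain ⟨w, hw, rfl⟩ := hxm
    have hwZ : w ∈ centralizer (Q : Set H) ⊓ Q := by
      have hle : zpowers ((z : Q) : H) ≤ centralizer (Q : Set H) ⊓ Q := by
        rw [zpowers_le, Subgroup.mem_inf]
        refine ⟨?_, hz0Q⟩
        rw [mem_centralizer_iff]
        intro y hy
        exact (hz0c y hy).symm
      exact hle hw
    refine ⟨hQinv a w hwZ.2, ?_⟩
    intro y hy
    have hy' : a⁻¹ y ∈ Q := hQinv a⁻¹ y hy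
    have hcomm : w * (a⁻¹ y) = (a⁻¹ y) * w := ((mem_centralizer_iff.mp hwZ.1) _ hy').symm
    have hay : a (a⁻¹ y) = y := by simp
    calc a.toMonoidHom w * y = a w * a (a⁻¹ y) := by rw [hay]; rfl
      _ = a (w * (a⁻¹ y)) := (map_mul a _ _).symm
      _ = a ((a⁻¹ y) * w) := by rw [hcomm]
      _ = a (a⁻¹ y) * a w := map_mul a _ _
      _ = y * a.toMonoidHom w := by rw [hay]; rfl
  -- Claim B: no element of order `p` centralizes `R`
  have hB : ∀ w : H, orderOf w = p → (∀ r ∈ R, r * w = w * r) → False := by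
    intro w hw hwR
    have hfix : ∀ x ∈ Q, x ^ p = 1 → ∀ k ∈ K, k * x = x * k := by
      intro x hxQ hxp k hk
      by_cases hx1 : x = 1
      · rw [hx1]; simp
      have hxo : orderOf x = p := orderOf_eq_prime hxp hx1
      obtain ⟨a, ha⟩ := htrans (zpowers w) (zpowers x)
        (by rw [Nat.card_zpowers, hw]) (by rw [Nat.card_zpowers, hxo])
      have hxm : x ∈ (zpowers w).map a.toMonoidHom := by rw [ha]; exact mem_zpowers x
      obtain ⟨v, hv, rfl⟩ := hxm
      have hvC : v ∈ centralizer (R : Set H) := by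
        have hle : zpowers w ≤ centralizer (R : Set H) := by
          rw [zpowers_le, mem_centralizer_iff]
          intro r hr
          exact hwR r hr
        exact hle hv
      have hk' : a⁻¹ k ∈ R := hRinv a⁻¹ k (hKR hk)
      have hcomm : (a⁻¹ k) * v = v * (a⁻¹ k) := (mem_centralizer_iff.mp hvC) _ hk'
      have hak : a (a⁻¹ k) = k := by simp
      calc k * a.toMonoidHom v = a (a⁻¹ k) * a v := by rw [hak]; rfl
        _ = a ((a⁻¹ k) * v) := (map_mul a _ _).symm
        _ = a (v * (a⁻¹ k)) := by rw [hcomm]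
        _ = a v * a (a⁻¹ k) := map_mul a _ _
        _ = a.toMonoidHom v * k := by rw [hak]; rfl
    have hpch : p ∣ p.choose 2 := by
      apply Nat.Prime.dvd_choose_self hpp (by norm_num)
      have := hpp.two_le
      omega
    have hKnorm : K ≤ normalizer (Q : Set H) := by
      rw [normalizer_eq_top]; exact le_top
    have hKcQ : K ≤ centralizer (Q : Set H) :=
      Cfsg.Agent.S1947.le_centralizer_of_centralizes_omega p p (dvd_refl p) hpch K hKcop
        (Nat.card Q) Q rfl hQp hKnorm (fun x hx hxp a ha => hfix x hx hxp a ha)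
    apply hKne
    rw [eq_bot_iff]
    intro k hk
    rw [mem_bot]
    exact hKQ k hk (hcent (hKcQ hk))
  -- `p ∣ |N_H(K)|`
  have hsup : normalizer (K : Set H) ⊔ R = ⊤ := by
    rw [eq_top_iff]
    intro g _
    obtain ⟨r, hr, hrg⟩ := hfrat g
    have : g = r⁻¹ * (r * g) := by group
    rw [this]
    exact mul_mem (mem_sup_right (R.inv_mem hr)) (mem_sup_left hrg)
  have hpN : p ∣ Nat.card (normalizer (K : Set H)) := by
    have h1 : R.index = R.relIndex (normalizer (K : Set H)) := by
      rw [← relIndex_top_right, ← hsup, relIndex_sup_right]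
    have h2 : R.relIndex (normalizer (K : Set H)) ∣ Nat.card (normalizer (K : Set H)) :=
      index_dvd_card _
    exact (h1 ▸ hpR).trans h2
  obtain ⟨y, hy⟩ := exists_prime_orderOf_dvd_card' p hpN
  have hyo : orderOf (y : H) = p := by rw [orderOf_coe]; exact hy
  obtain ⟨hyQ, hyc⟩ := hA (y : H) hyo
  -- `y` centralizes `K`
  have hyK : ∀ k ∈ K, k * (y : H) = (y : H) * k := by
    intro k hk
    have h1 : (y : H) * k * (y : H)⁻¹ ∈ K := (mem_normalizer_iff.mp y.2 k).mp hk
    have h2 : (y : H) * k * (y : H)⁻¹ * k⁻¹ ∈ K := K.mul_mem h1 (K.inv_mem hk)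
    have h3 : (y : H) * k * (y : H)⁻¹ * k⁻¹ ∈ Q := by
      have h4 : k * (y : H)⁻¹ * k⁻¹ ∈ Q := hQn.conj_mem _ (Q.inv_mem hyQ) k
      have : (y : H) * k * (y : H)⁻¹ * k⁻¹ = (y : H) * (k * (y : H)⁻¹ * k⁻¹) := by group
      rw [this]
      exact Q.mul_mem hyQ h4
    have h5 := hKQ _ h2 h3
    have : k * (y : H) = ((y : H) * k * (y : H)⁻¹ * k⁻¹)⁻¹ * ((y : H) * k) := by group
    rw [this, h5]; group
  apply hB (y : H) hyo
  intro r hr
  have hle : Q ⊔ K ≤ centralizer ({(y : H)} : Set H) := by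
    apply sup_le
    · intro q hq
      rw [mem_centralizer_iff]
      intro h hh
      rw [Set.mem_singleton_iff] at hh
      rw [hh]; exact hyc q hq
    · intro k hk
      rw [mem_centralizer_iff]
      intro h hh
      rw [Set.mem_singleton_iff] at hh
      rw [hh]; exact (hyK k hk).symm
  have := mem_centralizer_iff.mp (hle (hRQK hr)) (y : H) (Set.mem_singleton _)
  exact this.symm

end Cfsg.Agent.Helper70.GY
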