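import Mathlib
import Cfsg.Prelude.Def_Local
import Cfsg.Agent.Lib.Helper54.PSolv
import Cfsg.Agent.Lib.Helper63.PLen
import Cfsg.Agent.Lib.Helper70.GaschutzYenA
import Cfsg.Agent.Lib.Helper70.GaschutzYenB

/-!
The Gaschütz--Yen theorem: a `p`-soluble group (`p` odd) whose automorphism group permutes the subgroups
of order `p` transitively has `p`-length at most 1.  Elementary proof (no Hall--Higman Theorem B).
-/

set_option autoImplicit false

namespace Cfsg.Agent.Helper70.GY

open Cfsg Subgroup

universe u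

/-- `O_p(H / O_p(H)) = 1`. -/
theorem pCore_quotient_pCore_eq_bot {H : Type u} [Group H] [Finite H] (p : ℕ) [Fact p.Prime] :
    pCore p (H ⧸ pCore p H) = ⊥ := by
  rw [eq_bot_iff]
  intro x hx
  obtain ⟨g, rfl⟩ := QuotientGroup.mk'_surjective (pCore p H) x
  have hn : ((pCore p (H ⧸ pCore p H)).comap (QuotientGroup.mk' (pCore p H))).Normal :=
    Subgroup.Normal.comap inferInstance _
  have hpg : IsPGroup p ((pCore p (H ⧸ pCore p H)).comap (QuotientGroup.mk' (pCore p H))) := by
    apply IsPGroup.comap_of_ker_isPGroup Helper54.isPGroup_pCore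
    rw [QuotientGroup.ker_mk']
    exact Helper54.isPGroup_pCore
  have hle := Helper54.le_pCore hn hpg
  have hg : g ∈ pCore p H := hle hx
  rw [mem_bot]
  exact (QuotientGroup.eq_one_iff g).mpr hg

/-- maximality of `O_{p,p'}`. -/
theorem le_comap_pPrimeCore {H : Type u} [Group H] [Finite H] (p : ℕ) (Q : Subgroup H) [Q.Normal]
    {X : Subgroup H} (hXn : X.Normal) (hQX : Q ≤ X) (hc : (Q.relIndex X).Coprime p) :
    X ≤ (pPrimeCore p (H ⧸ Q)).comap (QuotientGroup.mk' Q) := by
  intro x hx
  rw [mem_comap]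
  have hn : (X.map (QuotientGroup.mk' Q)).Normal := hXn.map _ (QuotientGroup.mk'_surjective Q)
  have hcard : Nat.card (X.map (QuotientGroup.mk' Q)) = Q.relIndex X := by
    rw [← Helper63.relIndex_comap_mk' Q (X.map (QuotientGroup.mk' Q)), comap_map_eq,
      QuotientGroup.ker_mk', sup_of_le_left hQX]
  exact Helper54.le_pPrimeCore hn (by rw [hcard]; exact hc) (mem_map_of_mem _ hx)

/-- abstract form: `Q` plays `O_p(H)` and `R` plays `O_{p,p'}(H)`. -/
theorem main_abstract {H : Type u} [Group H] [Finite H] {p : ℕ} [hp : Fact p.Prime] (hp2 : p ≠ 2)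
    (Q R : Subgroup H) [hQn : Q.Normal] [hRn : R.Normal]
    (hQmap : ∀ a : MulAut H, Q.map a.toMonoidHom = Q) (hQp : IsPGroup p Q)
    (hcent : centralizer (Q : Set H) ≤ Q) (hQR : Q ≤ R) (hrelcop : (Q.relIndex R).Coprime p)
    (hmax : ∀ X : Subgroup H, X.Normal → Q ≤ X → (Q.relIndex X).Coprime p → X ≤ R)
    (hrel1 : Q.relIndex R ≠ 1) (hpdvd : p ∣ Q.index)
    (htrans : ∀ U V : Subgroup H, Nat.card U = p → Nat.card V = p →
      ∃ a : MulAut H, U.map a.toMonoidHom = V) : False := by
  classical
  have hpp : p.Prime := hp.out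
  have hQinv : ∀ a : MulAut H, ∀ y : H, y ∈ Q → a y ∈ Q := by
    intro a y hy
    have h1 : a.toMonoidHom y ∈ Q.map a.toMonoidHom := mem_map_of_mem _ hy
    rw [hQmap a] at h1
    exact h1
  have hRinv : ∀ a : MulAut H, ∀ y : H, y ∈ R → a y ∈ R := by
    intro a y hy
    have hX : R.map a.toMonoidHom ≤ R := by
      apply hmax _ (hRn.map _ a.surjective)
      · have := map_mono (f := a.toMonoidHom) hQR
        rwa [hQmap a] at this
      · have h1 : (Q.map a.toMonoidHom).relIndex (R.map a.toMonoidHom) = Q.relIndex R :=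
          relIndex_map_map_of_injective _ _ a.injective
        rw [hQmap a] at h1
        rw [h1]; exact hrelcop
    exact hX (mem_map_of_mem _ hy)
  have hsolvQ : Group.IsSolvable Q := by
    have := hQp.isNilpotent
    infer_instance
  obtain ⟨k, hk⟩ := IsPGroup.iff_card.mp hQp
  have hcop : (Nat.card Q).Coprime (Q.relIndex R) := by
    rw [hk]; exact Nat.Coprime.pow_left k hrelcop.symm
  obtain ⟨K, hKR, hKcard, hRQK, hfrat⟩ := hall_frattini Q R hQR hsolvQ hcop
  have hKcop : (Nat.card K).Coprime p := by rw [hKcard]; exact hrelcop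
  have hKne : K ≠ ⊥ := by
    intro hb
    apply hrel1
    rw [← hKcard, hb]
    exact Subgroup.card_bot
  have hpR : p ∣ R.index := by
    have h1 : Q.relIndex R * R.index = Q.index := relIndex_mul_index hQR
    rw [← h1] at hpdvd
    exact Nat.Coprime.dvd_of_dvd_mul_left hrelcop.symm hpdvd
  exact core_false hp2 Q R K hQp hcent hQinv hRinv hKR hKcop hKne hRQK hfrat hpR htrans

/-- If `H` is `p`-soluble with `O_{p'}(H) = 1`, `p` odd, and `Aut H` is transitive on the subgroups of
order `p`, then `O_p(H)` is a Sylow `p`-subgroup of `H`. -/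
theorem index_pCore_coprime {H : Type u} [Group H] [Finite H] {p : ℕ} [hp : Fact p.Prime]
    (hp2 : p ≠ 2) (hsol : IsPSolvable p H) (hcore : pPrimeCore p H = ⊥)
    (htrans : ∀ U V : Subgroup H, Nat.card U = p → Nat.card V = p →
      ∃ a : MulAut H, U.map a.toMonoidHom = V) :
    ((pCore p H).index).Coprime p := by
  classical
  have hpp : p.Prime := hp.out
  by_contra hnot
  have hpdvd : p ∣ (pCore p H).index := by
    rcases Nat.coprime_or_dvd_of_prime hpp (pCore p H).index with h | h
    · exact absurd h.symm hnot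
    · exact h
  have hQchar : (pCore p H).Characteristic := inferInstance
  have hQn : (pCore p H).Normal := inferInstance
  have hQp : IsPGroup p (pCore p H) := Helper54.isPGroup_pCore
  have hcent := Helper54.centralizer_pCore_le_of_isPSolvable hsol hcore
  have hRn : ((pPrimeCore p (H ⧸ pCore p H)).comap (QuotientGroup.mk' (pCore p H))).Normal :=
    Subgroup.Normal.comap inferInstance _
  have hrel : (pCore p H).relIndex
      ((pPrimeCore p (H ⧸ pCore p H)).comap (QuotientGroup.mk' (pCore p H)))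
      = Nat.card (pPrimeCore p (H ⧸ pCore p H)) := Helper63.relIndex_comap_mk' _ _
  -- `O_{p'}(H / O_p(H)) ≠ 1`
  have hRbar : pPrimeCore p (H ⧸ pCore p H) ≠ ⊥ := by
    intro hb
    have hsolq : IsPSolvable p (H ⧸ pCore p H) := Helper54.IsPSolvable.quotient hsol _
    have hcardq : Nat.card (H ⧸ pCore p H) = (pCore p H).index := (index_eq_card _).symm
    have hnt : Nontrivial (H ⧸ pCore p H) := by
      rw [← Finite.one_lt_card_iff_nontrivial, hcardq]
      exact lt_of_lt_of_le hpp.one_lt
        (Nat.le_of_dvd (Nat.pos_of_ne_zero index_ne_zero_of_finite) hpdvd)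
    have hlt : (⊥ : Subgroup (H ⧸ pCore p H)) < ⊤ := bot_lt_top
    obtain ⟨L, hLn, hBL, _, hfac⟩ := Helper54.IsPSolvable.exists_step hsolq ⊥ ⊤ hlt
    rcases hfac with ⟨m, hm⟩ | hc
    · rw [relIndex_bot_left] at hm
      have hLp : IsPGroup p L := IsPGroup.of_card hm
      have h1 := Helper54.le_pCore hLn hLp
      rw [pCore_quotient_pCore_eq_bot] at h1
      exact hBL.not_ge h1
    · rw [relIndex_bot_left] at hc
      have h1 := Helper54.le_pPrimeCore hLn hc
      rw [hb] at h1
      exact hBL.not_ge h1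
  refine main_abstract hp2 (pCore p H)
    ((pPrimeCore p (H ⧸ pCore p H)).comap (QuotientGroup.mk' (pCore p H)))
    (characteristic_iff_map_eq.mp hQchar) hQp hcent (Helper63.le_comap_mk'_self _ _) ?_ ?_ ?_ hpdvd
    htrans
  · rw [hrel]; exact Helper54.pPrimeCore_coprime p
  · intro X hXn hQX hc
    exact le_comap_pPrimeCore p (pCore p H) hXn hQX hc
  · rw [hrel]
    intro h1
    exact hRbar (Subgroup.eq_bot_of_card_eq _ h1)

/-- lifting a subgroup of order `p` through a normal `p'`-subgroup. -/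
theorem lift_order_p {G : Type u} [Group G] [Finite G] {p : ℕ} [hp : Fact p.Prime]
    (N : Subgroup G) [N.Normal] (hN : (Nat.card N).Coprime p) (U : Subgroup (G ⧸ N))
    (hU : Nat.card U = p) :
    ∃ u : G, orderOf u = p ∧ U = (zpowers u).map (QuotientGroup.mk' N) := by
  have hpp := hp.out
  have hnt : Nontrivial U := by
    rw [← Finite.one_lt_card_iff_nontrivial, hU]; exact hpp.one_lt
  obtain ⟨⟨x, hxU⟩, hx1⟩ := exists_ne (1 : U)
  have hx1' : x ≠ 1 := fun h => hx1 (Subtype.ext h)
  obtain ⟨g, rfl⟩ := QuotientGroup.mk'_surjective N x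
  have hox : orderOf (QuotientGroup.mk' N g) = p := by
    have h1 : orderOf (⟨QuotientGroup.mk' N g, hxU⟩ : U) ∣ Nat.card U := orderOf_dvd_natCard _
    rw [hU, ← orderOf_coe] at h1
    rcases (Nat.dvd_prime hpp).mp h1 with h | h
    · exact absurd (orderOf_eq_one_iff.mp h) hx1'
    · exact h
  have hdvd : p ∣ orderOf g := by rw [← hox]; exact orderOf_map_dvd _ g
  have hog : orderOf g ≠ 0 := (orderOf_pos g).ne'
  have huo : orderOf (g ^ (orderOf g / p)) = p := orderOf_pow_orderOf_div hog hdvd
  have huN : g ^ (orderOf g / p) ∉ N := by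
    intro h
    have h1 : orderOf (⟨g ^ (orderOf g / p), h⟩ : N) ∣ Nat.card N := orderOf_dvd_natCard _
    rw [← orderOf_coe] at h1
    simp only at h1
    rw [huo] at h1
    exact hpp.one_lt.ne' (Nat.Coprime.eq_one_of_dvd hN.symm h1)
  refine ⟨g ^ (orderOf g / p), huo, ?_⟩
  have hmu : QuotientGroup.mk' N (g ^ (orderOf g / p)) ∈ U := by
    rw [map_pow]; exact U.pow_mem hxU _
  have hmu1 : QuotientGroup.mk' N (g ^ (orderOf g / p)) ≠ 1 := by
    intro h; exact huN ((QuotientGroup.eq_one_iff _).mp h)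
  have hmuo : orderOf (QuotientGroup.mk' N (g ^ (orderOf g / p))) = p := by
    apply orderOf_eq_prime _ hmu1
    rw [← map_pow]
    have : (g ^ (orderOf g / p)) ^ p = 1 := by
      have h := pow_orderOf_eq_one (g ^ (orderOf g / p))
      rwa [huo] at h
    rw [this, map_one]
  symm
  apply eq_of_le_of_card_ge
  · rw [MonoidHom.map_zpowers, zpowers_le]; exact hmu
  · rw [hU, MonoidHom.map_zpowers, Nat.card_zpowers, hmuo]

/-- transitivity on subgroups of order `p` passes to the quotient by a characteristic `p'`-subgroup. -/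
theorem trans_quotient {G : Type u} [Group G] [Finite G] {p : ℕ} [hp : Fact p.Prime]
    (N : Subgroup G) [hNc : N.Characteristic] (hN : (Nat.card N).Coprime p)
    (htrans : ∀ U V : Subgroup G, Nat.card U = p → Nat.card V = p →
      ∃ a : MulAut G, U.map a.toMonoidHom = V) :
    ∀ U V : Subgroup (G ⧸ N), Nat.card U = p → Nat.card V = p →
      ∃ a : MulAut (G ⧸ N), U.map a.toMonoidHom = V := by
  intro U V hU hV
  obtain ⟨u, huo, rfl⟩ := lift_order_p N hN U hU
  obtain ⟨v, hvo, rfl⟩ := lift_order_p N hN V hV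
  obtain ⟨a, ha⟩ := htrans (zpowers u) (zpowers v) (by rw [Nat.card_zpowers, huo])
    (by rw [Nat.card_zpowers, hvo])
  have he : N.map (a : G →* G) = N := characteristic_iff_map_eq.mp hNc a
  refine ⟨QuotientGroup.congr N N a he, ?_⟩
  rw [Subgroup.map_map, ← ha, Subgroup.map_map]
  congr 1

/-- **Gaschütz--Yen.** -/
theorem gaschutz_yen {G : Type u} [Group G] [Finite G] {p : ℕ} [hp : Fact p.Prime] (hp2 : p ≠ 2)
    (hG : IsPSolvable p G)
    (htrans : ∀ U V : Subgroup G, Nat.card U = p → Nat.card V = p →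
      ∃ a : MulAut G, U.map a.toMonoidHom = V) : PLengthLE p 1 G := by
  have hNcop := Helper54.pPrimeCore_coprime (G := G) p
  have hidx := index_pCore_coprime (H := G ⧸ pPrimeCore p G) hp2
    (Helper54.IsPSolvable.quotient hG _) (Helper54.pPrimeCore_quotient_eq_bot p)
    (trans_quotient (pPrimeCore p G) hNcop htrans)
  apply Helper63.PLengthLE_of_PL
  have hNn : (pPrimeCore p G).Normal := inferInstance
  have hRn : ((pCore p (G ⧸ pPrimeCore p G)).comap (QuotientGroup.mk' (pPrimeCore p G))).Normal :=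
    Subgroup.Normal.comap inferInstance _
  refine Helper63.PL.step 0 ⊥ (pPrimeCore p G)
    ((pCore p (G ⧸ pPrimeCore p G)).comap (QuotientGroup.mk' (pPrimeCore p G))) ⊤
    (Helper63.PL.base ⊥ _ bot_le inferInstance hNn ?_) (Helper63.le_comap_mk'_self _ _) le_top hRn
    inferInstance ?_ ?_
  · rw [relIndex_bot_left]; exact hNcop
  · rw [Helper63.relIndex_comap_mk']; exact IsPGroup.iff_card.mp Helper54.isPGroup_pCore
  · rw [relIndex_top_right, index_comap_of_surjective _ (QuotientGroup.mk'_surjective _)]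
    exact hidx

end Cfsg.Agent.Helper70.GY
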