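import Mathlib
import Cfsg.Agent.Lib.Helper66.Wielandt
import Cfsg.Agent.Lib.Helper66.Kulakoff

set_option autoImplicit false

namespace Cfsg.Agent.Helper70.Kul

open Subgroup

/-- double counting over a relation between two finite types -/
theorem sum_card_rel {α β : Type*} [Fintype α] [Fintype β] (R : α → β → Prop) :
    ∑ a, Nat.card {b // R a b} = ∑ b, Nat.card {a // R a b} := by
  classical
  have h1 : ∀ a, Nat.card {b // R a b} = (Finset.univ.filter (R a)).card := by
    intro a; rw [Nat.card_eq_fintype_card, Fintype.card_subtype]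
  have h2 : ∀ b, Nat.card {a // R a b} = (Finset.univ.filter (fun a => R a b)).card := by
    intro b; rw [Nat.card_eq_fintype_card, Fintype.card_subtype]
  simp_rw [h1, h2]
  exact Finset.sum_card_bipartiteAbove_eq_sum_card_bipartiteBelow R

section Max

variable {p : ℕ} [hp : Fact p.Prime] {Q : Type*} [Group Q] [Finite Q]

theorem card_mulZMod : Nat.card (Multiplicative (ZMod p)) = p := by
  rw [Nat.card_congr Multiplicative.toAdd, Nat.card_zmod]

theorem hom_pow (f : Q →* Multiplicative (ZMod p)) : f ^ p = 1 := by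
  ext x
  rw [MonoidHom.pow_apply, MonoidHom.one_apply]
  have h := pow_card_eq_one' (G := Multiplicative (ZMod p)) (x := f x)
  rwa [card_mulZMod] at h

instance finite_hom : Finite (Q →* Multiplicative (ZMod p)) := by
  haveI : NeZero p := ⟨hp.out.ne_zero⟩
  exact Finite.of_injective (fun f => (f : Q → Multiplicative (ZMod p))) DFunLike.coe_injective

theorem isPGroup_hom : IsPGroup p (Q →* Multiplicative (ZMod p)) :=
  fun f => ⟨1, by rw [pow_one]; exact hom_pow f⟩

theorem index_ker_of_ne_one (f : Q →* Multiplicative (ZMod p)) (hf : f ≠ 1) : f.ker.index = p := by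
  rw [Subgroup.index_ker]
  haveI : Fact (Nat.card (Multiplicative (ZMod p))).Prime := ⟨by rw [card_mulZMod]; exact hp.out⟩
  rcases f.range.eq_bot_or_eq_top_of_prime_card with h | h
  · exfalso; apply hf; ext x
    have hx : f x ∈ f.range := ⟨x, rfl⟩
    rw [h, Subgroup.mem_bot] at hx
    rw [hx]; rfl
  · rw [h, Subgroup.card_top, card_mulZMod]

theorem eq_of_le_of_index_eq_prime {X K : Subgroup Q} (hXK : X ≤ K) (hX : X.index = p)
    (hK : K.index = p) : K = X := by
  have h := Subgroup.relIndex_mul_index hXK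
  rw [hX, hK] at h
  have h1 : X.relIndex K = 1 :=
    Nat.eq_of_mul_eq_mul_right hp.out.pos (by rw [h, one_mul])
  exact le_antisymm (Subgroup.relIndex_eq_one.mp h1) hXK

theorem card_hom_ker_ge (X : Subgroup Q) [X.Normal] (hX : X.index = p) :
    Nat.card {f : Q →* Multiplicative (ZMod p) // X ≤ f.ker} = p := by
  classical
  let HX : Subgroup (Q →* Multiplicative (ZMod p)) :=
    { carrier := {f | X ≤ f.ker}
      one_mem' := by intro x _; simp [MonoidHom.mem_ker]
      mul_mem' := by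
        intro f g hf hg x hx
        rw [MonoidHom.mem_ker, MonoidHom.mul_apply, (MonoidHom.mem_ker).1 (hf hx),
          MonoidHom.mem_ker.1 (hg hx), one_mul]
      inv_mem' := by
        intro f hf x hx
        rw [MonoidHom.mem_ker, MonoidHom.inv_apply, MonoidHom.mem_ker.1 (hf hx), inv_one] }
  have hmem : ∀ f, f ∈ HX ↔ X ≤ f.ker := fun f => Iff.rfl
  have hcard : Nat.card {f : Q →* Multiplicative (ZMod p) // X ≤ f.ker} = Nat.card HX := rfl
  rw [hcard]
  -- an element outside X
  have hXtop : X ≠ ⊤ := by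
    intro h; rw [h, Subgroup.index_top] at hX; exact hp.out.one_lt.ne hX
  obtain ⟨g, hg⟩ : ∃ g : Q, g ∉ X := by
    by_contra hcon; push_neg at hcon
    exact hXtop (eq_top_iff.2 fun x _ => hcon x)
  -- evaluation is injective
  have hinj : Function.Injective (fun f : HX => (f : Q →* Multiplicative (ZMod p)) g) := by
    intro f f' hff
    have hff' : (f : Q →* Multiplicative (ZMod p)) g = (f' : Q →* Multiplicative (ZMod p)) g := hff
    let h : Q →* Multiplicative (ZMod p) := (f : Q →* _) * (f' : Q →* _)⁻¹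
    have hh : h ∈ HX := HX.mul_mem f.2 (HX.inv_mem f'.2)
    have hg1 : h g = 1 := by
      show (f : Q →* Multiplicative (ZMod p)) g * ((f' : Q →* Multiplicative (ZMod p)) g)⁻¹ = 1
      rw [hff', mul_inv_cancel]
    have h1 : h = 1 := by
      by_contra hne
      have hk := index_ker_of_ne_one h hne
      have := eq_of_le_of_index_eq_prime ((hmem h).1 hh) hX hk
      apply hg; rw [← this]; exact MonoidHom.mem_ker.2 hg1
    apply Subtype.ext
    have : (f : Q →* Multiplicative (ZMod p)) * (f' : Q →* Multiplicative (ZMod p))⁻¹ = 1 := h1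
    exact mul_inv_eq_one.mp this
  -- a nontrivial element
  have hcQ : Nat.card (Q ⧸ X) = p := by rw [← Subgroup.index_eq_card]; exact hX
  let e : (Q ⧸ X) ≃* Multiplicative (ZMod p) := mulEquivOfPrimeCardEq hcQ card_mulZMod
  let f₀ : Q →* Multiplicative (ZMod p) := e.toMonoidHom.comp (QuotientGroup.mk' X)
  have hf₀ : f₀ ∈ HX := by
    intro x hx
    rw [MonoidHom.mem_ker]
    show e (QuotientGroup.mk' X x) = 1
    have h1 : (QuotientGroup.mk' X) x = 1 := by
      rw [QuotientGroup.mk'_apply]; exact (QuotientGroup.eq_one_iff x).2 hx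
    rw [h1, map_one]
  have hf₀g : f₀ g ≠ 1 := by
    intro h
    have : e (QuotientGroup.mk' X g) = e 1 := by rw [map_one]; exact h
    have := e.injective this
    exact hg ((QuotientGroup.eq_one_iff g).1 this)
  have hle : Nat.card HX ≤ p := by
    have := Nat.card_le_card_of_injective _ hinj
    rwa [card_mulZMod] at this
  have hpg : IsPGroup p HX := isPGroup_hom.to_subgroup HX
  obtain ⟨k, hk⟩ := IsPGroup.iff_card.mp hpg
  have hk1 : k ≠ 0 := by
    rintro rfl
    rw [pow_zero] at hk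
    have hsub : Subsingleton HX := (Nat.card_eq_one_iff_unique.1 hk).1
    have : (⟨f₀, hf₀⟩ : HX) = ⟨1, HX.one_mem⟩ := Subsingleton.elim _ _
    have : f₀ = 1 := congrArg Subtype.val this
    apply hf₀g; rw [this]; rfl
  have hk2 : k ≤ 1 := by
    by_contra hcon; push_neg at hcon
    have : p ^ 2 ≤ p ^ k := Nat.pow_le_pow_right hp.out.pos hcon
    have h2 : p < p ^ 2 := by
      have := hp.out.one_lt
      nlinarith
    omega
  have : k = 1 := by omega
  rw [hk, this, pow_one]

/-- subgroups of a given index -/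
abbrev Idx (Q : Type*) [Group Q] (k : ℕ) := {X : Subgroup Q // X.index = k}

theorem card_idx_eq (hQ : IsPGroup p Q) :
    ∃ d, Nat.card (Idx Q p) * p + 1 = Nat.card (Idx Q p) + p ^ d := by
  classical
  obtain ⟨d, hd⟩ := IsPGroup.iff_card.mp (isPGroup_hom (p := p) (Q := Q))
  refine ⟨d, ?_⟩
  haveI : Fintype (Idx Q p) := Fintype.ofFinite _
  haveI : Fintype (Q →* Multiplicative (ZMod p)) := Fintype.ofFinite _
  have hdc := sum_card_rel (fun (X : Idx Q p) (f : Q →* Multiplicative (ZMod p)) => X.1 ≤ f.ker)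
  have hL : ∀ X : Idx Q p, Nat.card {f : Q →* Multiplicative (ZMod p) // X.1 ≤ f.ker} = p := by
    intro X
    haveI : X.1.Normal := Cfsg.Agent.Helper63.normal_of_index_eq_prime hQ X.1 X.2
    exact card_hom_ker_ge X.1 X.2
  have hR1 : Nat.card {X : Idx Q p // X.1 ≤ (1 : Q →* Multiplicative (ZMod p)).ker}
      = Nat.card (Idx Q p) := by
    apply Nat.card_congr
    exact Equiv.subtypeUnivEquiv (fun X => by rw [MonoidHom.ker_one]; exact le_top)
  have hR2 : ∀ f : Q →* Multiplicative (ZMod p), f ≠ 1 →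
      Nat.card {X : Idx Q p // X.1 ≤ f.ker} = 1 := by
    intro f hf
    rw [Nat.card_eq_one_iff_unique]
    refine ⟨⟨?_⟩, ⟨⟨⟨f.ker, index_ker_of_ne_one f hf⟩, le_rfl⟩⟩⟩
    intro X Y
    have hX := eq_of_le_of_index_eq_prime X.2 X.1.2 (index_ker_of_ne_one f hf)
    have hY := eq_of_le_of_index_eq_prime Y.2 Y.1.2 (index_ker_of_ne_one f hf)
    apply Subtype.ext; apply Subtype.ext
    rw [← hX, ← hY]
  rw [Finset.sum_congr rfl (fun X _ => hL X), Finset.sum_const, Finset.card_univ, smul_eq_mul,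
    ← Finset.add_sum_erase Finset.univ _ (Finset.mem_univ (1 : Q →* Multiplicative (ZMod p))), hR1,
    Finset.sum_congr rfl (fun f hf => hR2 f (Finset.ne_of_mem_erase hf)), Finset.sum_const,
    smul_eq_mul, mul_one, Finset.card_erase_of_mem (Finset.mem_univ _), Finset.card_univ,
    ← Nat.card_eq_fintype_card, ← Nat.card_eq_fintype_card, hd] at hdc
  have : 1 ≤ p ^ d := Nat.one_le_pow _ _ hp.out.pos
  omega

theorem exists_index_prime_ge (hQ : IsPGroup p Q) (H : Subgroup Q) (hH : H ≠ ⊤) :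
    ∃ X : Subgroup Q, X.index = p ∧ H ≤ X := by
  obtain ⟨n, hn⟩ := IsPGroup.iff_card.mp hQ
  have hHd : Nat.card H ∣ p ^ n := hn ▸ Subgroup.card_subgroup_dvd_card H
  obtain ⟨m, hmn, hm⟩ := (Nat.dvd_prime_pow hp.out).1 hHd
  have hmlt : m < n := by
    rcases lt_or_eq_of_le hmn with h | h
    · exact h
    · exfalso; apply hH
      apply (Subgroup.card_eq_iff_eq_top H).1
      rw [hm, h, hn]
  have hdvd : p ^ (n - 1) ∣ Nat.card Q := by rw [hn]; exact pow_dvd_pow p (Nat.sub_le n 1)
  obtain ⟨K, hK, hHK⟩ := Sylow.exists_subgroup_card_pow_prime_le p hdvd H hm (by omega)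
  refine ⟨K, ?_, hHK⟩
  have h1 := Subgroup.card_mul_index K
  rw [hK, hn] at h1
  have : p ^ (n - 1) * p = p ^ n := by rw [← pow_succ]; congr 1; omega
  rw [← this] at h1
  exact Nat.eq_of_mul_eq_mul_left (pow_pos hp.out.pos _) h1

theorem two_le_card_idx (hQ : IsPGroup p Q) (hnc : ¬ IsCyclic Q) : 2 ≤ Nat.card (Idx Q p) := by
  by_contra hcon
  have hle : Nat.card (Idx Q p) ≤ 1 := by omega
  have hsub : Subsingleton (Idx Q p) := Finite.card_le_one_iff_subsingleton.1 hle
  have hbot : (⊥ : Subgroup Q) ≠ ⊤ := by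
    intro h
    apply hnc
    haveI : Subsingleton Q := ⟨fun a b => by
      have ha : a ∈ (⊥ : Subgroup Q) := by rw [h]; exact Subgroup.mem_top a
      have hb : b ∈ (⊥ : Subgroup Q) := by rw [h]; exact Subgroup.mem_top b
      rw [Subgroup.mem_bot.1 ha, Subgroup.mem_bot.1 hb]⟩
    exact isCyclic_of_subsingleton
  obtain ⟨X₀, hX₀, -⟩ := exists_index_prime_ge hQ ⊥ hbot
  have hX₀top : X₀ ≠ ⊤ := by
    intro h; rw [h, Subgroup.index_top] at hX₀; exact hp.out.one_lt.ne hX₀
  obtain ⟨x, hx⟩ : ∃ x : Q, x ∉ X₀ := by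
    by_contra hc; push_neg at hc
    exact hX₀top (eq_top_iff.2 fun y _ => hc y)
  have hz : Subgroup.zpowers x ≠ ⊤ := by
    intro h
    exact hnc ⟨⟨x, fun y => by
      have : y ∈ Subgroup.zpowers x := by rw [h]; exact Subgroup.mem_top y
      exact this⟩⟩
  obtain ⟨K, hK, hxK⟩ := exists_index_prime_ge hQ _ hz
  have : (⟨K, hK⟩ : Idx Q p) = ⟨X₀, hX₀⟩ := Subsingleton.elim _ _
  have hKX : K = X₀ := congrArg Subtype.val this
  exact hx (hKX ▸ hxK (Subgroup.mem_zpowers x))

theorem card_idx_modEq (hQ : IsPGroup p Q) (hnc : ¬ IsCyclic Q) :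
    Nat.card (Idx Q p) ≡ 1 + p [MOD p ^ 2] := by
  obtain ⟨d, hd⟩ := card_idx_eq hQ
  have h2 := two_le_card_idx hQ hnc
  generalize Nat.card (Idx Q p) = M at *
  have hp2 : 2 ≤ p := hp.out.two_le
  have hd2 : 2 ≤ d := by
    by_contra hcon
    have hd1 : d ≤ 1 := by omega
    have : p ^ d ≤ p ^ 1 := Nat.pow_le_pow_right hp.out.pos hd1
    rw [pow_one] at this
    nlinarith
  obtain ⟨c, hc⟩ : p ^ 2 ∣ p ^ d := pow_dvd_pow p hd2
  obtain ⟨q, rfl⟩ : ∃ q, p = q + 1 := ⟨p - 1, by omega⟩
  have hM : M * q + 1 = (q + 1) ^ d := by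
    have : M * (q + 1) + 1 = M + (q + 1) ^ d := hd
    linarith [this]
  have h3 : M * q ≡ (1 + (q + 1)) * q [MOD (q + 1) ^ 2] := by
    apply Nat.ModEq.add_right_cancel' 1
    rw [hM, hc]
    have : (1 + (q + 1)) * q + 1 = (q + 1) ^ 2 := by ring
    rw [this]
    exact (Nat.modEq_zero_iff_dvd.2 (dvd_mul_right _ _)).trans
      (Nat.modEq_zero_iff_dvd.2 dvd_rfl).symm
  have hcop : Nat.gcd ((q + 1) ^ 2) q = 1 := by
    apply Nat.Coprime.pow_left
    simp
  exact Nat.ModEq.cancel_right_of_coprime hcop h3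

theorem index_eq_iff_card {j k : ℕ} (hj : Nat.card Q = p ^ j) (hk : k ≤ j) (X : Subgroup Q) :
    X.index = p ^ k ↔ Nat.card X = p ^ (j - k) := by
  have h1 := Subgroup.card_mul_index X
  rw [hj] at h1
  have h2 : p ^ (j - k) * p ^ k = p ^ j := by rw [← pow_add]; congr 1; omega
  constructor
  · intro h
    rw [h, ← h2] at h1
    exact Nat.eq_of_mul_eq_mul_right (pow_pos hp.out.pos _) h1
  · intro h
    rw [h, ← h2] at h1
    exact Nat.eq_of_mul_eq_mul_left (pow_pos hp.out.pos _) h1

theorem idx_exponent (hexp : ∀ x : Q, x ^ p = 1) [hnt : Nontrivial Q] :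
    Nat.card (Idx Q p) ≡ 1 + p * Nat.card (Idx Q (p ^ 2)) [MOD p ^ 2] := by
  have hQ : IsPGroup p Q := fun x => ⟨1, by rw [pow_one]; exact hexp x⟩
  obtain ⟨j, hj⟩ := IsPGroup.iff_card.mp hQ
  have hj0 : j ≠ 0 := by
    rintro rfl
    rw [pow_zero] at hj
    have := Finite.one_lt_card (α := Q)
    omega
  by_cases hj1 : j = 1
  · subst hj1
    rw [pow_one] at hj
    have h1 : Nat.card (Idx Q p) = 1 := by
      rw [Nat.card_eq_one_iff_unique]
      refine ⟨⟨?_⟩, ⟨⟨⊥, by rw [Subgroup.index_bot, hj]⟩⟩⟩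
      intro X Y
      have key : ∀ Z : Idx Q p, Z.1 = ⊥ := by
        intro Z
        have h := Subgroup.card_mul_index Z.1
        rw [Z.2, hj] at h
        have : Nat.card Z.1 = 1 := by
          have hp0 := hp.out.pos
          exact Nat.eq_of_mul_eq_mul_right hp0 (by rw [h, one_mul])
        exact Subgroup.eq_bot_of_card_eq Z.1 this
      apply Subtype.ext; rw [key X, key Y]
    have h2 : Nat.card (Idx Q (p ^ 2)) = 0 := by
      haveI : IsEmpty (Idx Q (p ^ 2)) := ⟨fun Y => by
        have h := Subgroup.index_dvd_card Y.1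
        rw [Y.2, hj] at h
        have := Nat.le_of_dvd hp.out.pos h
        have h2 : p < p ^ 2 := by
          have := hp.out.one_lt
          nlinarith
        omega⟩
      exact Nat.card_of_isEmpty
    rw [h1, h2]; rfl
  · have hj2 : 2 ≤ j := by omega
    have hnc : ¬ IsCyclic Q := by
      intro hc
      obtain ⟨g, hg⟩ := IsCyclic.exists_ofOrder_eq_natCard (α := Q)
      have h1 : orderOf g ∣ p := orderOf_dvd_of_pow_eq_one (hexp g)
      rw [hg, hj] at h1
      have := Nat.le_of_dvd hp.out.pos h1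
      have h2 : p ^ 2 ≤ p ^ j := Nat.pow_le_pow_right hp.out.pos hj2
      have h3 : p < p ^ 2 := by
        have := hp.out.one_lt
        nlinarith
      omega
    have hmax := card_idx_modEq hQ hnc
    have hfr : Nat.card (Idx Q (p ^ 2)) ≡ 1 [MOD p] := by
      have e : Idx Q (p ^ 2) ≃ {H : Subgroup Q // Nat.card H = p ^ (j - 2)} :=
        Equiv.subtypeEquivRight (fun X => index_eq_iff_card hj hj2 X)
      rw [Nat.card_congr e]
      apply Cfsg.Agent.Helper66.card_subgroups_prime_pow_modEq_one p (j - 2) hp.out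
      rw [hj]; exact pow_dvd_pow p (Nat.sub_le j 2)
    have h4 : p * Nat.card (Idx Q (p ^ 2)) ≡ p * 1 [MOD p * p] := Nat.ModEq.mul_left' p hfr
    rw [← pow_two, mul_one] at h4
    exact hmax.trans (Nat.ModEq.add_left 1 h4.symm)

end Max

end Cfsg.Agent.Helper70.Kul
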