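import Mathlib
import Cfsg.Agent.Lib.Helper70.KulA

set_option autoImplicit false

namespace Cfsg.Agent.Helper70.Kul

open Subgroup
open scoped commutatorElement

section Hall

variable {p : ℕ} [hp : Fact p.Prime] {P : Type*} [Group P] [Finite P]

/-- intersection of all subgroups of index `p` -/
def Phi (p : ℕ) (P : Type*) [Group P] : Subgroup P := ⨅ X : Idx P p, X.1

omit hp [Finite P] in
theorem Phi_le (X : Subgroup P) (hX : X.index = p) : Phi p P ≤ X :=
  iInf_le (fun X : Idx P p => X.1) ⟨X, hX⟩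

theorem commutator_mem_Phi (hP : IsPGroup p P) (g h : P) : ⁅g, h⁆ ∈ Phi p P := by
  rw [Phi, Subgroup.mem_iInf]
  intro X
  haveI : X.1.Normal := Cfsg.Agent.Helper63.normal_of_index_eq_prime hP X.1 X.2
  have hc : Nat.card (P ⧸ X.1) = p := by rw [← Subgroup.index_eq_card]; exact X.2
  haveI : IsCyclic (P ⧸ X.1) := isCyclic_of_prime_card hc
  rw [← QuotientGroup.eq_one_iff]
  have h1 : ((⁅g, h⁆ : P) : P ⧸ X.1) = ⁅(g : P ⧸ X.1), (h : P ⧸ X.1)⁆ :=
    map_commutatorElement (QuotientGroup.mk' X.1) g h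
  rw [h1, commutatorElement_eq_one_iff_commute]
  exact (IsCyclic.commGroup (α := P ⧸ X.1)).mul_comm _ _

theorem pow_mem_Phi (hP : IsPGroup p P) (g : P) : g ^ p ∈ Phi p P := by
  rw [Phi, Subgroup.mem_iInf]
  intro X
  haveI : X.1.Normal := Cfsg.Agent.Helper63.normal_of_index_eq_prime hP X.1 X.2
  have hc : Nat.card (P ⧸ X.1) = p := by rw [← Subgroup.index_eq_card]; exact X.2
  rw [← QuotientGroup.eq_one_iff, QuotientGroup.mk_pow]
  have h := pow_card_eq_one' (G := P ⧸ X.1) (x := (g : P ⧸ X.1))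
  rwa [hc] at h

theorem normal_of_Phi_le (hP : IsPGroup p P) (L : Subgroup P) (hL : Phi p P ≤ L) : L.Normal := by
  constructor
  intro x hx g
  have : g * x * g⁻¹ = ⁅g, x⁆ * x := by rw [commutatorElement_def]; group
  rw [this]
  exact L.mul_mem (hL (commutator_mem_Phi hP g x)) hx

omit hp [Finite P] in
theorem card_idx_ge (L : Subgroup P) [L.Normal] (k : ℕ) :
    Nat.card {X : Subgroup P // X.index = k ∧ L ≤ X} = Nat.card (Idx (P ⧸ L) k) := by
  apply Nat.card_congr
  let e := (QuotientGroup.comapMk'OrderIso L).toEquiv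
  have h : ∀ Y : Subgroup (P ⧸ L), Y.index = k ↔ (e Y).1.index = k := by
    intro Y
    have : (e Y).1 = Y.comap (QuotientGroup.mk' L) := rfl
    rw [this, Subgroup.index_comap_of_surjective _ (QuotientGroup.mk'_surjective L)]
  refine Equiv.trans ?_ (Equiv.subtypeEquiv (p := fun Y : Subgroup (P ⧸ L) => Y.index = k)
    (q := fun X : {H : Subgroup P // L ≤ H} => X.1.index = k) e h).symm
  refine Equiv.trans (Equiv.subtypeEquivRight (fun X => and_comm)) ?_
  exact (Equiv.subtypeSubtypeEquivSubtypeInter (fun X : Subgroup P => L ≤ X)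
    (fun X : Subgroup P => X.index = k)).symm

/-- index-`p²` subgroups containing `Phi` -/
abbrev PhiIdx (p : ℕ) (P : Type*) [Group P] := {Y : Subgroup P // Y.index = p ^ 2 ∧ Phi p P ≤ Y}

theorem count_step (hP : IsPGroup p P) (H : Subgroup P) (hH : H ≠ ⊤) :
    Nat.card {X : Subgroup P // X.index = p ∧ H ≤ X} ≡
      1 + p * Nat.card {Y : Subgroup P // Y.index = p ^ 2 ∧ Phi p P ≤ Y ∧ H ≤ Y} [MOD p ^ 2] := by
  set L : Subgroup P := H ⊔ Phi p P with hLdef
  haveI hLn : L.Normal := normal_of_Phi_le hP L le_sup_right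
  have e1 : {X : Subgroup P // X.index = p ∧ H ≤ X} ≃ {X : Subgroup P // X.index = p ∧ L ≤ X} :=
    Equiv.subtypeEquivRight (fun X => by
      constructor
      · rintro ⟨h1, h2⟩; exact ⟨h1, sup_le h2 (Phi_le X h1)⟩
      · rintro ⟨h1, h2⟩; exact ⟨h1, le_sup_left.trans h2⟩)
  have e2 : {Y : Subgroup P // Y.index = p ^ 2 ∧ Phi p P ≤ Y ∧ H ≤ Y} ≃
      {Y : Subgroup P // Y.index = p ^ 2 ∧ L ≤ Y} :=
    Equiv.subtypeEquivRight (fun Y => by
      constructor
      · rintro ⟨h1, h2, h3⟩; exact ⟨h1, sup_le h3 h2⟩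
      · rintro ⟨h1, h2⟩; exact ⟨h1, le_sup_right.trans h2, le_sup_left.trans h2⟩)
  rw [Nat.card_congr e1, Nat.card_congr e2, card_idx_ge, card_idx_ge]
  obtain ⟨X₀, hX₀, hHX₀⟩ := exists_index_prime_ge hP H hH
  have hLX₀ : L ≤ X₀ := sup_le hHX₀ (Phi_le X₀ hX₀)
  have hX₀top : X₀ ≠ ⊤ := by
    intro h; rw [h, Subgroup.index_top] at hX₀; exact hp.out.one_lt.ne hX₀
  obtain ⟨g, hg⟩ : ∃ g : P, g ∉ L := by
    by_contra hc; push_neg at hc
    exact hX₀top (eq_top_iff.2 fun y _ => hLX₀ (hc y))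
  haveI : Nontrivial (P ⧸ L) :=
    ⟨⟨(g : P ⧸ L), 1, fun h => hg ((QuotientGroup.eq_one_iff g).1 h)⟩⟩
  apply idx_exponent
  intro x
  induction x using QuotientGroup.induction_on with
  | H g =>
    rw [← QuotientGroup.mk_pow, QuotientGroup.eq_one_iff]
    exact (le_sup_right : Phi p P ≤ H ⊔ Phi p P) (pow_mem_Phi hP g)

/-- number of subgroups of order `k` inside `X` -/
noncomputable def cnt (X : Subgroup P) (k : ℕ) : ℕ :=
  Nat.card {H : Subgroup P // Nat.card H = k ∧ H ≤ X}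

omit hp [Finite P] in
theorem cnt_eq (X : Subgroup P) (k : ℕ) :
    cnt X k = Nat.card {H : Subgroup X // Nat.card H = k} := by
  unfold cnt
  apply Nat.card_congr
  let e := (Subgroup.MapSubtype.orderIso X).toEquiv
  have h : ∀ H' : Subgroup X, Nat.card H' = k ↔ Nat.card (e H').1 = k := by
    intro H'
    have : (e H').1 = H'.map X.subtype := rfl
    rw [this, Subgroup.card_map_of_injective (Subgroup.subtype_injective X)]
  refine Equiv.trans ?_ (Equiv.subtypeEquiv (p := fun H' : Subgroup X => Nat.card H' = k)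
    (q := fun H : {H : Subgroup P // H ≤ X} => Nat.card H.1 = k) e h).symm
  refine Equiv.trans (Equiv.subtypeEquivRight (fun X => and_comm)) ?_
  exact (Equiv.subtypeSubtypeEquivSubtypeInter (fun H : Subgroup P => H ≤ X)
    (fun H : Subgroup P => Nat.card H = k)).symm

theorem hall_identity [Fintype (Idx P p)] [Fintype (PhiIdx p P)] (hP : IsPGroup p P) (k : ℕ)
    (hk : k ≠ Nat.card P) :
    ∑ X : Idx P p, cnt X.1 k ≡
      Nat.card {H : Subgroup P // Nat.card H = k} + p * ∑ Y : PhiIdx p P, cnt Y.1 k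
        [MOD p ^ 2] := by
  classical
  haveI : Fintype {H : Subgroup P // Nat.card H = k} := Fintype.ofFinite _
  have h1 : ∀ X : Idx P p, cnt X.1 k =
      Nat.card {H : {H : Subgroup P // Nat.card H = k} // H.1 ≤ X.1} := by
    intro X
    unfold cnt
    exact Nat.card_congr (Equiv.subtypeSubtypeEquivSubtypeInter
      (fun H : Subgroup P => Nat.card H = k) (fun H : Subgroup P => H ≤ X.1)).symm
  have h2 : ∀ Y : PhiIdx p P, cnt Y.1 k =
      Nat.card {H : {H : Subgroup P // Nat.card H = k} // H.1 ≤ Y.1} := by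
    intro Y
    unfold cnt
    exact Nat.card_congr (Equiv.subtypeSubtypeEquivSubtypeInter
      (fun H : Subgroup P => Nat.card H = k) (fun H : Subgroup P => H ≤ Y.1)).symm
  rw [Finset.sum_congr rfl (fun X _ => h1 X), Finset.sum_congr rfl (fun Y _ => h2 Y),
    sum_card_rel (fun (X : Idx P p) (H : {H : Subgroup P // Nat.card H = k}) => H.1 ≤ X.1),
    sum_card_rel (fun (Y : PhiIdx p P) (H : {H : Subgroup P // Nat.card H = k}) => H.1 ≤ Y.1)]
  have h3 : ∀ H : {H : Subgroup P // Nat.card H = k},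
      Nat.card {X : Idx P p // H.1 ≤ X.1} ≡
        1 + p * Nat.card {Y : PhiIdx p P // H.1 ≤ Y.1} [MOD p ^ 2] := by
    intro H
    have hH : H.1 ≠ ⊤ := by
      intro h
      apply hk
      rw [← H.2, h, Subgroup.card_top]
    have := count_step hP H.1 hH
    have e1 : {X : Idx P p // H.1 ≤ X.1} ≃ {X : Subgroup P // X.index = p ∧ H.1 ≤ X} :=
      Equiv.subtypeSubtypeEquivSubtypeInter (fun X : Subgroup P => X.index = p)
        (fun X : Subgroup P => H.1 ≤ X)
    have e2 : {Y : PhiIdx p P // H.1 ≤ Y.1} ≃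
        {Y : Subgroup P // Y.index = p ^ 2 ∧ Phi p P ≤ Y ∧ H.1 ≤ Y} :=
      (Equiv.subtypeSubtypeEquivSubtypeInter
        (fun Y : Subgroup P => Y.index = p ^ 2 ∧ Phi p P ≤ Y)
        (fun Y : Subgroup P => H.1 ≤ Y)).trans (Equiv.subtypeEquivRight (fun Y => and_assoc))
    rw [Nat.card_congr e1, Nat.card_congr e2]
    exact this
  have h4 := Nat.ModEq.sum (s := Finset.univ) (fun H _ => h3 H)
  refine h4.trans ?_
  rw [Finset.sum_add_distrib, Finset.sum_const, Finset.card_univ, smul_eq_mul, mul_one,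
    ← Finset.mul_sum, Nat.card_eq_fintype_card]

end Hall

end Cfsg.Agent.Helper70.Kul
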