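import Mathlib
import Cfsg.Agent.Lib.Helper70.KulB

set_option autoImplicit false

namespace Cfsg.Agent.Helper70.Kul

open Subgroup

universe u

section Cyc

variable {p : ℕ} [hp : Fact p.Prime] {P : Type*} [Group P] [Finite P]

omit hp in
theorem card_orderOf_eq_totient_mul (d : ℕ) :
    Nat.card {x : P // orderOf x = d} =
      Nat.totient d * Nat.card {C : Subgroup P // IsCyclic C ∧ Nat.card C = d} := by
  classical
  let f : {x : P // orderOf x = d} → {C : Subgroup P // IsCyclic C ∧ Nat.card C = d} := fun x =>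
    ⟨Subgroup.zpowers x.1, ⟨inferInstance, by rw [Nat.card_zpowers, x.2]⟩⟩
  haveI : Fintype {C : Subgroup P // IsCyclic C ∧ Nat.card C = d} := Fintype.ofFinite _
  rw [Nat.card_congr (Equiv.sigmaFiberEquiv f).symm, Nat.card_sigma]
  have hfib : ∀ C : {C : Subgroup P // IsCyclic C ∧ Nat.card C = d},
      Nat.card {x // f x = C} = Nat.totient d := by
    intro C
    haveI : IsCyclic C.1 := C.2.1
    have e : {x : {x : P // orderOf x = d} // f x = C} ≃ {y : C.1 // orderOf y = d} :=
      { toFun := fun x => ⟨⟨x.1.1, by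
            have := congrArg Subtype.val x.2
            rw [← this]; exact Subgroup.mem_zpowers _⟩, by
            rw [Subgroup.orderOf_mk]; exact x.1.2⟩
        invFun := fun y => ⟨⟨y.1.1, by rw [Subgroup.orderOf_coe]; exact y.2⟩, by
            apply Subtype.ext
            show Subgroup.zpowers (y.1 : P) = C.1
            apply Subgroup.eq_of_le_of_card_ge
            · rw [Subgroup.zpowers_le]; exact y.1.2
            · rw [Nat.card_zpowers, Subgroup.orderOf_coe, y.2, C.2.2]⟩
        left_inv := fun x => rfl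
        right_inv := fun y => rfl }
    rw [Nat.card_congr e]
    haveI : Fintype C.1 := Fintype.ofFinite _
    have hdvd : d ∣ Fintype.card C.1 := by rw [← Nat.card_eq_fintype_card, C.2.2]
    rw [Nat.card_eq_fintype_card, Fintype.card_subtype]
    exact IsCyclic.card_orderOf_eq_totient hdvd
  rw [Finset.sum_congr rfl (fun C _ => hfib C), Finset.sum_const, Finset.card_univ, smul_eq_mul,
    mul_comm, Nat.card_eq_fintype_card]

theorem dvd_card_cyclic_idx (hodd : p ≠ 2) (hP : IsPGroup p P) (hnc : ¬ IsCyclic P) (n : ℕ)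
    (hn : Nat.card P = p ^ n) (hn3 : 3 ≤ n) :
    p ∣ Nat.card {X : Idx P p // IsCyclic X.1} := by
  have h1 := Cfsg.Agent.Helper66.pow_dvd_card_orderOf_eq_of_not_isCyclic hodd hP hnc (n - 1)
    (by omega)
  rw [card_orderOf_eq_totient_mul, Nat.totient_prime_pow hp.out (by omega : 0 < n - 1)] at h1
  have e : {C : Subgroup P // IsCyclic C ∧ Nat.card C = p ^ (n - 1)} ≃
      {X : Idx P p // IsCyclic X.1} :=
    (Equiv.subtypeEquivRight (fun C => by
      rw [and_comm, ← index_eq_iff_card hn (by omega : 1 ≤ n) C, pow_one])).trans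
      (Equiv.subtypeSubtypeEquivSubtypeInter (fun X : Subgroup P => X.index = p)
        (fun X : Subgroup P => IsCyclic X)).symm
  rw [Nat.card_congr e] at h1
  set c := Nat.card {X : Idx P p // IsCyclic X.1}
  have h2 : p ^ (n - 1) = p ^ (n - 1 - 1) * p := by rw [← pow_succ]; congr 1; omega
  rw [h2, mul_assoc] at h1
  have h3 : p ∣ (p - 1) * c := Nat.dvd_of_mul_dvd_mul_left (pow_pos hp.out.pos _) h1
  have hcop : Nat.Coprime p (p - 1) := by
    rw [hp.out.coprime_iff_not_dvd]
    intro h
    have h1 := hp.out.one_lt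
    have := Nat.le_of_dvd (by omega) h
    omega
  exact hcop.dvd_of_dvd_mul_left h3

end Cyc

section Main

variable {p : ℕ} [hp : Fact p.Prime]

theorem kulakoff_aux (hodd : p ≠ 2) : ∀ (n : ℕ) (P : Type u) [Group P] [Finite P],
    Nat.card P = p ^ n → ¬ IsCyclic P → ∀ a, 1 ≤ a → a < n →
    Nat.card {H : Subgroup P // Nat.card H = p ^ a} ≡ 1 + p [MOD p ^ 2] := by
  intro n
  induction n using Nat.strong_induction_on with
  | _ n ih =>
  intro P _ _ hn hnc a ha1 han
  have hP : IsPGroup p P := IsPGroup.of_card hn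
  have hmax := card_idx_modEq hP hnc
  by_cases hlast : a = n - 1
  · have e : {H : Subgroup P // Nat.card H = p ^ a} ≃ Idx P p :=
      Equiv.subtypeEquivRight (fun X => by
        rw [hlast, ← index_eq_iff_card hn (by omega : 1 ≤ n) X, pow_one])
    rw [Nat.card_congr e]; exact hmax
  · have hn3 : 3 ≤ n := by omega
    classical
    haveI : Fintype (Idx P p) := Fintype.ofFinite _
    haveI : Fintype (PhiIdx p P) := Fintype.ofFinite _
    have hk : p ^ a ≠ Nat.card P := by
      rw [hn]; intro h
      have := Nat.pow_right_injective hp.out.two_le h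
      omega
    have hall := hall_identity hP (p ^ a) hk
    -- (i) maximal subgroups
    have hi : ∀ X : Idx P p,
        cnt X.1 (p ^ a) ≡ (if IsCyclic X.1 then 1 else 1 + p) [MOD p ^ 2] := by
      intro X
      rw [cnt_eq]
      have hXc : Nat.card X.1 = p ^ (n - 1) :=
        (index_eq_iff_card hn (by omega : 1 ≤ n) X.1).1 (by rw [pow_one]; exact X.2)
      split_ifs with hc
      · haveI := hc
        rw [Cfsg.Agent.Helper66.card_subgroups_cyclic_eq_one p a
          (by rw [hXc]; exact pow_dvd_pow p (by omega))]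
      · exact ih (n - 1) (by omega) X.1 hXc hc a ha1 (by omega)
    have hA1 := Nat.ModEq.sum (s := Finset.univ) (fun X _ => hi X)
    -- (ii)
    obtain ⟨c', hc'⟩ := dvd_card_cyclic_idx hodd hP hnc n hn hn3
    have hM : Fintype.card (Idx P p) = Nat.card (Idx P p) := (Nat.card_eq_fintype_card).symm
    have hsum : ∑ X : Idx P p, (if IsCyclic X.1 then 1 else 1 + p)
        + p * Nat.card {X : Idx P p // IsCyclic X.1}
        = Nat.card (Idx P p) + p * Nat.card (Idx P p) := by
      have h1 : ∑ X : Idx P p, (if IsCyclic X.1 then p else 0)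
          = p * Nat.card {X : Idx P p // IsCyclic X.1} := by
        rw [← Finset.sum_filter, Finset.sum_const, smul_eq_mul, mul_comm]; congr 1
        rw [Nat.card_eq_fintype_card, Fintype.card_subtype]
      rw [← h1, ← Finset.sum_add_distrib]
      have h2 : ∀ X : Idx P p, (if IsCyclic X.1 then 1 else 1 + p) +
          (if IsCyclic X.1 then p else 0) = 1 + p := by
        intro X; split_ifs <;> ring
      rw [Finset.sum_congr rfl (fun X _ => h2 X), Finset.sum_const, Finset.card_univ,
        smul_eq_mul, hM]; ring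
    have hA : ∑ X : Idx P p, cnt X.1 (p ^ a) ≡ 1 + p + p [MOD p ^ 2] := by
      refine hA1.trans ?_
      have h0 : p * Nat.card {X : Idx P p // IsCyclic X.1} ≡ 0 [MOD p ^ 2] := by
        rw [hc', Nat.modEq_zero_iff_dvd]
        exact ⟨c', by ring⟩
      have h3 : ∑ X : Idx P p, (if IsCyclic X.1 then 1 else 1 + p) ≡
          Nat.card (Idx P p) + p * Nat.card (Idx P p) [MOD p ^ 2] := by
        rw [← hsum]
        exact (Nat.ModEq.add_left _ h0).symm
      refine h3.trans ?_
      have h4 : p * Nat.card (Idx P p) ≡ p * (1 + p) [MOD p ^ 2] := Nat.ModEq.mul_left p hmax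
      have h5 : p * (1 + p) ≡ p [MOD p ^ 2] := by
        have : p * (1 + p) = p + p ^ 2 := by ring
        rw [this]
        exact (Nat.ModEq.add_left p (Nat.modEq_zero_iff_dvd.2 dvd_rfl))
      exact Nat.ModEq.add hmax (h4.trans h5)
    -- (iii)
    have hiii : ∀ Y : PhiIdx p P, cnt Y.1 (p ^ a) ≡ 1 [MOD p] := by
      intro Y
      rw [cnt_eq]
      have hYc : Nat.card Y.1 = p ^ (n - 2) :=
        (index_eq_iff_card hn (by omega : 2 ≤ n) Y.1).1 Y.2.1
      apply Cfsg.Agent.Helper66.card_subgroups_prime_pow_modEq_one p a hp.out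
      rw [hYc]; exact pow_dvd_pow p (by omega)
    have hB1 : ∑ Y : PhiIdx p P, cnt Y.1 (p ^ a) ≡ Nat.card (PhiIdx p P) [MOD p] := by
      have := Nat.ModEq.sum (s := Finset.univ) (fun Y _ => hiii Y)
      rw [Finset.sum_const, Finset.card_univ, smul_eq_mul, mul_one,
        ← Nat.card_eq_fintype_card] at this
      exact this
    have hB2 : p * ∑ Y : PhiIdx p P, cnt Y.1 (p ^ a) ≡ p * Nat.card (PhiIdx p P) [MOD p ^ 2] := by
      have := Nat.ModEq.mul_left' p hB1
      rwa [← pow_two] at this
    -- (iv)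
    have hbot : (⊥ : Subgroup P) ≠ ⊤ := by
      intro h
      apply hnc
      haveI : Subsingleton P := ⟨fun x y => by
        have hx : x ∈ (⊥ : Subgroup P) := by rw [h]; exact Subgroup.mem_top x
        have hy : y ∈ (⊥ : Subgroup P) := by rw [h]; exact Subgroup.mem_top y
        rw [Subgroup.mem_bot.1 hx, Subgroup.mem_bot.1 hy]⟩
      exact isCyclic_of_subsingleton
    have hiv := count_step hP (⊥ : Subgroup P) hbot
    have e1 : {X : Subgroup P // X.index = p ∧ ⊥ ≤ X} ≃ Idx P p :=
      Equiv.subtypeEquivRight (fun X => and_iff_left bot_le)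
    have e2 : {Y : Subgroup P // Y.index = p ^ 2 ∧ Phi p P ≤ Y ∧ ⊥ ≤ Y} ≃ PhiIdx p P :=
      Equiv.subtypeEquivRight (fun Y =>
        ⟨fun h => ⟨h.1, h.2.1⟩, fun h => ⟨h.1, h.2, bot_le⟩⟩)
    rw [Nat.card_congr e1, Nat.card_congr e2] at hiv
    have hN2 : p * Nat.card (PhiIdx p P) ≡ p [MOD p ^ 2] :=
      Nat.ModEq.add_left_cancel' 1 (hiv.symm.trans hmax)
    -- (v)
    have hfin : Nat.card {H : Subgroup P // Nat.card H = p ^ a} + p ≡ 1 + p + p [MOD p ^ 2] :=
      ((Nat.ModEq.add_left _ (hB2.trans hN2)).symm.trans hall.symm).trans hA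
    exact Nat.ModEq.add_right_cancel' p hfin

end Main

end Cfsg.Agent.Helper70.Kul
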