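import Mathlib
import Cfsg.Agent.Lib.Helper70.KulC
import Cfsg.Agent.Lib.Helper75.WeightedOrbit

set_option autoImplicit false

namespace Cfsg.Agent.Helper70.Kul

open Subgroup MulAction
open scoped Pointwise

section Gen

variable {G : Type*} [Group G]

theorem conj_smul_eq_map (g : G) (Q : Subgroup G) :
    MulAut.conj g • Q = Q.map (MulAut.conj g).toMonoidHom := rfl

theorem conj_smul_eq_iff (g : G) (Q : Subgroup G) :
    MulAut.conj g • Q = Q ↔ g ∈ normalizer (Q : Set G) := by
  rw [Subgroup.mem_normalizer_iff_map_conj_eq]; rfl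

theorem card_conj_smul (g : G) (Q : Subgroup G) : Nat.card (MulAut.conj g • Q : Subgroup G) = Nat.card Q := by
  rw [conj_smul_eq_map]
  exact Subgroup.card_map_of_injective (MulAut.conj g).injective

theorem conj_smul_self {P : Subgroup G} {g : G} (hg : g ∈ P) : MulAut.conj g • P = P :=
  (conj_smul_eq_iff g P).2 (Subgroup.le_normalizer hg)

/-- conjugation action of a subgroup `P` on a `P`-invariant family of subgroups -/
@[reducible] def conjAct (P : Subgroup G) (φ : Subgroup G → Prop)
    (hφ : ∀ g ∈ P, ∀ Q, φ Q → φ (MulAut.conj g • Q)) : MulAction P {Q : Subgroup G // φ Q} where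
  smul g Q := ⟨MulAut.conj (g : G) • Q.1, hφ g g.2 Q.1 Q.2⟩
  one_smul Q := Subtype.ext (by
    show MulAut.conj ((1 : P) : G) • Q.1 = Q.1
    rw [Subgroup.coe_one, map_one, one_smul])
  mul_smul g h Q := Subtype.ext (by
    show MulAut.conj ((g * h : P) : G) • Q.1 = MulAut.conj (g : G) • (MulAut.conj (h : G) • Q.1)
    rw [Subgroup.coe_mul, map_mul, mul_smul])

theorem dvd_card_of_dvd_index {H α : Type*} [Group H] [MulAction H α] [Finite α] (m : ℕ)
    (h : ∀ a : α, m ∣ (stabilizer H a).index) : m ∣ Nat.card α := by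
  classical
  have : Fintype (orbitRel.Quotient H α) := Fintype.ofFinite _
  rw [Nat.card_congr (selfEquivSigmaOrbits' H α), Nat.card_sigma]
  apply Finset.dvd_sum
  intro ω _
  induction ω using Quotient.inductionOn' with
  | h a =>
    have : Nat.card (orbitRel.Quotient.orbit (Quotient.mk'' a : orbitRel.Quotient H α))
        = (stabilizer H a).index := by
      rw [orbitRel.Quotient.orbit_mk, index_stabilizer, Nat.card_coe_set_eq]
    rw [this]; exact h a

theorem card_modEq_of_invariant {H α : Type*} [Group H] [MulAction H α] [Finite α] (m : ℕ)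
    (A : α → Prop) (hA : ∀ (g : H) (x : α), A x → A (g • x))
    (hbig : ∀ x, ¬ A x → m ∣ (stabilizer H x).index) :
    Nat.card α ≡ Nat.card {x // A x} [MOD m] := by
  classical
  letI : MulAction H {x // ¬ A x} :=
    { smul := fun g x => ⟨g • x.1, fun h => x.2 (by
        have := hA g⁻¹ _ h; rwa [inv_smul_smul] at this)⟩
      one_smul := fun x => Subtype.ext (one_smul H x.1)
      mul_smul := fun g h x => Subtype.ext (mul_smul g h x.1) }
  have hst : ∀ x : {x // ¬ A x}, stabilizer H x = stabilizer H x.1 := by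
    intro x; ext g; simp only [mem_stabilizer_iff]; constructor
    · intro h; exact congrArg Subtype.val h
    · intro h; exact Subtype.ext h
  have h1 : m ∣ Nat.card {x // ¬ A x} :=
    dvd_card_of_dvd_index m (fun x => by rw [hst]; exact hbig x.1 x.2)
  have h2 : Nat.card α = Nat.card {x // A x} + Nat.card {x // ¬ A x} := by
    rw [← Nat.card_sum]; exact Nat.card_congr (Equiv.sumCompl A).symm
  rw [h2]
  obtain ⟨c, hc⟩ := h1
  rw [hc]
  simp [Nat.ModEq]

end Gen

end Cfsg.Agent.Helper70.Kul
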