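import Mathlib
import Cfsg.Agent.Lib.Helper70.KulD

set_option autoImplicit false

namespace Cfsg.Agent.Helper70.Kul

open Subgroup MulAction
open scoped Pointwise

section Syl

variable {G : Type*} [Group G] [Finite G] {p : ℕ} [hp : Fact p.Prime]

theorem card_invariant_modEq_one (S N : Subgroup G) (hS : IsPGroup p S)
    (hnorm : S ≤ normalizer (N : Set G)) (a : ℕ) (hdiv : p ^ a ∣ Nat.card N) :
    Nat.card {Q : Subgroup G // (Nat.card Q = p ^ a ∧ Q ≤ N) ∧ S ≤ normalizer (Q : Set G)}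
      ≡ 1 [MOD p] := by
  letI := conjAct S (fun Q => Nat.card Q = p ^ a ∧ Q ≤ N) (by
    intro g hg Q hQ
    refine ⟨by rw [card_conj_smul]; exact hQ.1, ?_⟩
    have := (conj_smul_eq_iff g N).2 (hnorm hg)
    rw [← this]
    exact Subgroup.pointwise_smul_le_pointwise_smul_iff.2 hQ.2)
  have h1 := hS.card_modEq_card_fixedPoints {Q : Subgroup G // Nat.card Q = p ^ a ∧ Q ≤ N}
  have h2 : Nat.card {Q : Subgroup G // Nat.card Q = p ^ a ∧ Q ≤ N} ≡ 1 [MOD p] := by
    have := cnt_eq N (p ^ a)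
    unfold cnt at this
    rw [this]
    exact Cfsg.Agent.Helper66.card_subgroups_prime_pow_modEq_one p a hp.out hdiv
  have e : fixedPoints S {Q : Subgroup G // Nat.card Q = p ^ a ∧ Q ≤ N} ≃
      {Q : Subgroup G // (Nat.card Q = p ^ a ∧ Q ≤ N) ∧ S ≤ normalizer (Q : Set G)} :=
    (Equiv.subtypeEquivRight (fun Q => by
      rw [mem_fixedPoints]
      constructor
      · intro h g hg
        have := congrArg Subtype.val (h ⟨g, hg⟩)
        exact (conj_smul_eq_iff g Q.1).1 this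
      · intro h g
        exact Subtype.ext ((conj_smul_eq_iff g.1 Q.1).2 (h g.2)))).trans
    (Equiv.subtypeSubtypeEquivSubtypeInter _ _)
  rw [← Nat.card_congr e]
  exact h1.symm.trans h2

theorem le_of_le_normalizer_of_max (P : Subgroup G) (n : ℕ) (hPn : Nat.card P = p ^ n)
    (hmax : ∀ S : Subgroup G, IsPGroup p S → Nat.card S ≤ p ^ n) (Q : Subgroup G)
    (hQ : IsPGroup p Q) (h : P ≤ normalizer (Q : Set G)) : Q ≤ P := by
  have hPp : IsPGroup p P := IsPGroup.of_card hPn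
  have hPQ : IsPGroup p (P ⊔ Q : Subgroup G) := IsPGroup.to_sup_of_normal_right' hPp hQ h
  have h1 : P = P ⊔ Q :=
    Subgroup.eq_of_le_of_card_ge le_sup_left (by rw [hPn]; exact hmax _ hPQ)
  rw [h1]; exact le_sup_right

theorem stabilizer_conjAct (P : Subgroup G) (φ : Subgroup G → Prop)
    (hφ : ∀ g ∈ P, ∀ Q, φ Q → φ (MulAut.conj g • Q)) (Q : {Q : Subgroup G // φ Q}) :
    letI := conjAct P φ hφ
    stabilizer P Q = (normalizer (Q.1 : Set G)).subgroupOf P := by
  letI := conjAct P φ hφ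
  ext g
  rw [mem_stabilizer_iff, Subgroup.mem_subgroupOf, ← conj_smul_eq_iff]
  constructor
  · intro h; exact congrArg Subtype.val h
  · intro h; exact Subtype.ext h

theorem card_mul_index_stabilizer (P : Subgroup G) (φ : Subgroup G → Prop)
    (hφ : ∀ g ∈ P, ∀ Q, φ Q → φ (MulAut.conj g • Q)) (Q : {Q : Subgroup G // φ Q}) :
    letI := conjAct P φ hφ
    Nat.card (normalizer (Q.1 : Set G) ⊓ P : Subgroup G) * (stabilizer P Q).index = Nat.card P := by
  letI := conjAct P φ hφ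
  have h1 := Subgroup.card_mul_index (stabilizer P Q)
  rw [← h1, stabilizer_conjAct P φ hφ Q, ← Subgroup.inf_subgroupOf_right]
  congr 1
  exact (Nat.card_congr (Subgroup.subgroupOfEquivOfLe
    (inf_le_right : normalizer (Q.1 : Set G) ⊓ P ≤ P)).toEquiv).symm

theorem smul_le_normalizer_smul (g : G) {S Q : Subgroup G} (h : S ≤ normalizer (Q : Set G)) :
    MulAut.conj g • S ≤ normalizer ((MulAut.conj g • Q : Subgroup G) : Set G) := by
  intro y hy
  rw [Subgroup.mem_pointwise_smul_iff_inv_smul_mem] at hy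
  rw [← conj_smul_eq_iff]
  have hs := (conj_smul_eq_iff _ Q).2 (h hy)
  have h1 : MulAut.conj y = MulAut.conj g * MulAut.conj ((MulAut.conj g)⁻¹ • y) * (MulAut.conj g)⁻¹ := by
    have : (MulAut.conj g)⁻¹ • y = g⁻¹ * y * g := by
      rw [← map_inv]; simp [MulAut.smul_def, MulAut.conj_apply]
    rw [this, ← map_inv, ← map_mul, ← map_mul]
    congr 1; group
  rw [h1, mul_smul, mul_smul, inv_smul_smul, hs]

theorem smul_le_normalizer_smul_iff (g : G) (S Q : Subgroup G) :
    MulAut.conj g • S ≤ normalizer ((MulAut.conj g • Q : Subgroup G) : Set G) ↔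
      S ≤ normalizer (Q : Set G) := by
  constructor
  · intro h
    have := smul_le_normalizer_smul g⁻¹ h
    rwa [map_inv, inv_smul_smul, inv_smul_smul] at this
  · exact smul_le_normalizer_smul g

section X1

variable (P : Subgroup G) (n : ℕ) (a : ℕ)

/-- the bad subgroups: not in `P`, normalizer in `P` of index `p` -/
abbrev TT (p : ℕ) (P : Subgroup G) (n a : ℕ) :=
  {Q : Subgroup G // Nat.card Q = p ^ a ∧ ¬ Q ≤ P ∧
    Nat.card (normalizer (Q : Set G) ⊓ P : Subgroup G) = p ^ (n - 1)}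

abbrev SS (p : ℕ) (P : Subgroup G) (n : ℕ) :=
  {S : Subgroup G // Nat.card S = p ^ n ∧ Nat.card (P ⊓ S : Subgroup G) = p ^ (n - 1)}

abbrev FF (p : ℕ) (P : Subgroup G) (a : ℕ) (S : Subgroup G) :=
  {Q : Subgroup G // ((Nat.card Q = p ^ a ∧ Q ≤ S) ∧ S ≤ normalizer (Q : Set G)) ∧ ¬ Q ≤ P}

variable {P n a}

theorem card_eq_of_between {K : Subgroup G} (hPn : Nat.card P = p ^ n) (hn : 1 ≤ n)
    (hKP : K ≤ P) (hne : K ≠ P) {L : Subgroup G} (hLK : L ≤ K) (hL : Nat.card L = p ^ (n - 1)) :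
    Nat.card K = p ^ (n - 1) := by
  have hPp : IsPGroup p P := IsPGroup.of_card hPn
  have hKp : IsPGroup p K := hPp.to_le hKP
  obtain ⟨j, hj⟩ := IsPGroup.iff_card.mp hKp
  have h1 : Nat.card L ≤ Nat.card K := Subgroup.card_le_of_le hLK
  have h2 : Nat.card K ≤ Nat.card P := Subgroup.card_le_of_le hKP
  rw [hL, hj] at h1
  rw [hj, hPn] at h2
  have h3 : n - 1 ≤ j := (Nat.pow_le_pow_iff_right hp.out.one_lt).1 h1
  have h4 : j ≤ n := (Nat.pow_le_pow_iff_right hp.out.one_lt).1 h2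
  have h5 : j ≠ n := by
    rintro rfl
    apply hne
    exact (Subgroup.eq_of_le_of_card_ge hKP (by rw [hj, hPn]))
  have : j = n - 1 := by omega
  rw [hj, this]

theorem TT_unique (hPn : Nat.card P = p ^ n)
    (hmax : ∀ S : Subgroup G, IsPGroup p S → Nat.card S ≤ p ^ n) (han : a < n)
    (Q : TT p P n a) :
    Nat.card {S : SS p P n // Q.1 ≤ S.1 ∧ S.1 ≤ normalizer (Q.1 : Set G)} = 1 := by
  have hPp : IsPGroup p P := IsPGroup.of_card hPn
  have hn1 : 1 ≤ n := by omega
  obtain ⟨Q, hQc, hQP, hN⟩ := Q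
  set N : Subgroup G := normalizer (Q : Set G) ⊓ P with hNdef
  have hQp : IsPGroup p Q := IsPGroup.of_card hQc
  have hNp : IsPGroup p N := hPp.to_le inf_le_right
  have hSp : IsPGroup p (N ⊔ Q : Subgroup G) :=
    IsPGroup.to_sup_of_normal_right' hNp hQp inf_le_left
  have hlt : Nat.card N < Nat.card (N ⊔ Q : Subgroup G) := by
    by_contra hcon
    push_neg at hcon
    have : N = N ⊔ Q := Subgroup.eq_of_le_of_card_ge le_sup_left hcon
    apply hQP
    have hQN : Q ≤ N := by rw [this]; exact le_sup_right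
    exact hQN.trans inf_le_right
  obtain ⟨m, hm⟩ := IsPGroup.iff_card.mp hSp
  have hSn : Nat.card (N ⊔ Q : Subgroup G) = p ^ n := by
    have h1 := hmax _ hSp
    rw [hm] at h1 hlt
    rw [hN] at hlt
    have h2 : n - 1 < m := (Nat.pow_lt_pow_iff_right hp.out.one_lt).1 hlt
    have h3 : m ≤ n := (Nat.pow_le_pow_iff_right hp.out.one_lt).1 h1
    have : m = n := by omega
    rw [hm, this]
  have hPS : Nat.card (P ⊓ (N ⊔ Q) : Subgroup G) = p ^ (n - 1) := by
    apply card_eq_of_between hPn hn1 inf_le_left _ (le_inf inf_le_right le_sup_left) hN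
    intro h
    have hPle : P ≤ N ⊔ Q := by rw [← h]; exact inf_le_right
    have : P = N ⊔ Q := Subgroup.eq_of_le_of_card_ge hPle (by rw [hSn, hPn])
    apply hQP; rw [this]; exact le_sup_right
  rw [Nat.card_eq_one_iff_unique]
  refine ⟨⟨?_⟩, ⟨⟨⟨N ⊔ Q, hSn, hPS⟩, le_sup_right,
    sup_le inf_le_left Subgroup.le_normalizer⟩⟩⟩
  have key : ∀ S' : {S : SS p P n // Q ≤ S.1 ∧ S.1 ≤ normalizer (Q : Set G)},
      S'.1.1 = N ⊔ Q := by
    rintro ⟨⟨S', hS'c, hS'P⟩, hQS', hS'N⟩
    show S' = N ⊔ Q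
    have h1 : P ⊓ S' ≤ N := le_inf (inf_le_right.trans hS'N) inf_le_left
    have h2 : P ⊓ S' = N := Subgroup.eq_of_le_of_card_ge h1 (by rw [hS'P, hN])
    have h3 : N ⊔ Q ≤ S' := sup_le (h2 ▸ inf_le_right) hQS'
    exact (Subgroup.eq_of_le_of_card_ge h3 (by rw [hS'c, hSn])).symm
  intro X Y
  apply Subtype.ext; apply Subtype.ext
  rw [key X, key Y]

theorem TT_fiber (hPn : Nat.card P = p ^ n)
    (hmax : ∀ S : Subgroup G, IsPGroup p S → Nat.card S ≤ p ^ n) (han : a < n)
    (S : SS p P n) :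
    Nat.card {Q : TT p P n a // Q.1 ≤ S.1 ∧ S.1 ≤ normalizer (Q.1 : Set G)} =
      Nat.card (FF p P a S.1) := by
  have hn1 : 1 ≤ n := by omega
  apply Nat.card_congr
  refine (Equiv.subtypeSubtypeEquivSubtypeInter _
    (fun Q : Subgroup G => Q ≤ S.1 ∧ S.1 ≤ normalizer (Q : Set G))).trans ?_
  apply Equiv.subtypeEquivRight
  intro Q
  constructor
  · rintro ⟨⟨h1, h2, _⟩, h4, h5⟩
    exact ⟨⟨⟨h1, h4⟩, h5⟩, h2⟩
  · rintro ⟨⟨⟨h1, h4⟩, h5⟩, h2⟩
    refine ⟨⟨h1, h2, ?_⟩, h4, h5⟩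
    apply card_eq_of_between hPn hn1 inf_le_right _ (le_inf (inf_le_right.trans h5) inf_le_left)
      S.2.2
    intro h
    apply h2
    apply le_of_le_normalizer_of_max P n hPn hmax Q (IsPGroup.of_card h1)
    rw [← h]; exact inf_le_left

theorem dvd_card_FF (hPn : Nat.card P = p ^ n) (han : a < n) (S : SS p P n) :
    p ∣ Nat.card (FF p P a S.1) := by
  have hn1 : 1 ≤ n := by omega
  obtain ⟨S, hSc, hSP⟩ := S
  have hSp : IsPGroup p S := IsPGroup.of_card hSc
  have hA1 := card_invariant_modEq_one S S hSp Subgroup.le_normalizer a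
    (by rw [hSc]; exact pow_dvd_pow p han.le)
  -- P ⊓ S is normal in S
  have hnorm : S ≤ normalizer ((P ⊓ S : Subgroup G) : Set G) := by
    rw [← Subgroup.normal_subgroupOf_iff_le_normalizer inf_le_right]
    apply Cfsg.Agent.Helper63.normal_of_index_eq_prime hSp
    have h1 := Subgroup.card_mul_index ((P ⊓ S).subgroupOf S)
    rw [Nat.card_congr (Subgroup.subgroupOfEquivOfLe (inf_le_right : P ⊓ S ≤ S)).toEquiv, hSP,
      hSc] at h1
    have h2 : p ^ (n - 1) * p = p ^ n := by rw [← pow_succ]; congr 1; omega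
    rw [← h2] at h1
    exact Nat.eq_of_mul_eq_mul_left (pow_pos hp.out.pos _) h1
  have hA2 := card_invariant_modEq_one S (P ⊓ S) hSp hnorm a
    (by rw [hSP]; exact pow_dvd_pow p (by omega))
  have hsplit := Cfsg.Agent.Helper66.card_subtype_eq_add
    (fun Q : Subgroup G => (Nat.card Q = p ^ a ∧ Q ≤ S) ∧ S ≤ normalizer (Q : Set G))
    (fun Q : Subgroup G => Q ≤ P)
  have e : {Q : Subgroup G // ((Nat.card Q = p ^ a ∧ Q ≤ S) ∧ S ≤ normalizer (Q : Set G)) ∧ Q ≤ P}
      ≃ {Q : Subgroup G // (Nat.card Q = p ^ a ∧ Q ≤ P ⊓ S) ∧ S ≤ normalizer (Q : Set G)} :=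
    Equiv.subtypeEquivRight (fun Q => by
      constructor
      · rintro ⟨⟨⟨h1, h2⟩, h3⟩, h4⟩; exact ⟨⟨h1, le_inf h4 h2⟩, h3⟩
      · rintro ⟨⟨h1, h2⟩, h3⟩; exact ⟨⟨⟨h1, h2.trans inf_le_right⟩, h3⟩, h2.trans inf_le_left⟩)
  rw [Nat.card_congr e] at hsplit
  rw [hsplit] at hA1
  have : Nat.card (FF p P a S) ≡ 0 [MOD p] := by
    apply Nat.ModEq.add_left_cancel hA2
    rw [add_zero]
    exact hA1
  exact (Nat.modEq_zero_iff_dvd).1 this

theorem card_FF_smul {g : G} (hg : g ∈ P) (S : Subgroup G) :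
    Nat.card (FF p P a (MulAut.conj g • S)) = Nat.card (FF p P a S) := by
  symm
  apply Nat.card_congr
  refine Equiv.subtypeEquiv (MulAction.toPerm (MulAut.conj g)) ?_
  intro Q
  show _ ↔ ((Nat.card (MulAut.conj g • Q : Subgroup G) = p ^ a ∧
    MulAut.conj g • Q ≤ MulAut.conj g • S) ∧
    MulAut.conj g • S ≤ normalizer ((MulAut.conj g • Q : Subgroup G) : Set G)) ∧
    ¬ MulAut.conj g • Q ≤ P
  rw [card_conj_smul, Subgroup.pointwise_smul_le_pointwise_smul_iff, smul_le_normalizer_smul_iff]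
  have : MulAut.conj g • Q ≤ P ↔ Q ≤ P := by
    conv_lhs => rw [← conj_smul_self hg]
    exact Subgroup.pointwise_smul_le_pointwise_smul_iff
  rw [this]

theorem sq_dvd_card_TT (hPn : Nat.card P = p ^ n)
    (hmax : ∀ S : Subgroup G, IsPGroup p S → Nat.card S ≤ p ^ n) (han : a < n) :
    p ^ 2 ∣ Nat.card (TT p P n a) := by
  classical
  have hPp : IsPGroup p P := IsPGroup.of_card hPn
  have hn1 : 1 ≤ n := by omega
  haveI : Fintype (TT p P n a) := Fintype.ofFinite _
  haveI : Fintype (SS p P n) := Fintype.ofFinite _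
  have hdc := sum_card_rel (fun (Q : TT p P n a) (S : SS p P n) =>
    Q.1 ≤ S.1 ∧ S.1 ≤ normalizer (Q.1 : Set G))
  rw [Finset.sum_congr rfl (fun Q _ => TT_unique hPn hmax han Q), Finset.sum_const,
    Finset.card_univ, smul_eq_mul, mul_one,
    Finset.sum_congr rfl (fun S _ => TT_fiber hPn hmax han S)] at hdc
  letI : MulAction P (SS p P n) := conjAct P
    (fun S => Nat.card S = p ^ n ∧ Nat.card (P ⊓ S : Subgroup G) = p ^ (n - 1)) (by
    intro g hg S hS
    refine ⟨by rw [card_conj_smul]; exact hS.1, ?_⟩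
    have : P ⊓ MulAut.conj g • S = MulAut.conj g • (P ⊓ S) := by
      rw [Subgroup.smul_inf, conj_smul_self hg]
    rw [this, card_conj_smul]; exact hS.2)
  let w : SS p P n → ℕ := fun S => Nat.card (FF p P a S.1) / p
  have hw : ∀ (g : P) (S : SS p P n), w (g • S) = w S := by
    intro g S
    show Nat.card (FF p P a (MulAut.conj (g : G) • S.1)) / p = _
    rw [card_FF_smul g.2]
  have hsum := Cfsg.Agent.Helper75.sum_modEq_sum_fixed hPp w hw
    (fun S => ∀ g : P, g • S = S) (fun S => Iff.rfl)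
  have hempty : Finset.univ.filter (fun S : SS p P n => ∀ g : P, g • S = S) = ∅ := by
    rw [Finset.filter_eq_empty_iff]
    intro S _ hfix
    have hle : P ≤ normalizer (S.1 : Set G) := by
      intro g hg
      have := congrArg Subtype.val (hfix ⟨g, hg⟩)
      exact (conj_smul_eq_iff g S.1).1 this
    have hSP := le_of_le_normalizer_of_max P n hPn hmax S.1 (IsPGroup.of_card S.2.1) hle
    have h1 : P ⊓ S.1 = S.1 := inf_eq_right.2 hSP
    have h2 := S.2.2
    rw [h1, S.2.1] at h2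
    have := Nat.pow_right_injective hp.out.two_le h2
    omega
  rw [hempty, Finset.sum_empty] at hsum
  have hdvd : p ∣ ∑ S, w S := (Nat.modEq_zero_iff_dvd).1 hsum
  have hFw : ∀ S : SS p P n, Nat.card (FF p P a S.1) = p * w S :=
    fun S => (Nat.mul_div_cancel' (dvd_card_FF hPn han S)).symm
  rw [Finset.sum_congr rfl (fun S _ => hFw S), ← Finset.mul_sum] at hdc
  rw [Nat.card_eq_fintype_card, hdc, pow_two]
  exact Nat.mul_dvd_mul_left p hdvd

theorem card_modEq_sylow (hPn : Nat.card P = p ^ n)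
    (hmax : ∀ S : Subgroup G, IsPGroup p S → Nat.card S ≤ p ^ n) (han : a < n) :
    Nat.card {Q : Subgroup G // Nat.card Q = p ^ a} ≡
      Nat.card {Q : Subgroup G // Nat.card Q = p ^ a ∧ Q ≤ P} [MOD p ^ 2] := by
  classical
  have hPp : IsPGroup p P := IsPGroup.of_card hPn
  have hn1 : 1 ≤ n := by omega
  have hφ : ∀ g ∈ P, ∀ Q : Subgroup G, Nat.card Q = p ^ a →
      Nat.card (MulAut.conj g • Q : Subgroup G) = p ^ a :=
    fun g _ Q h => by rw [card_conj_smul]; exact h
  letI act : MulAction P {Q : Subgroup G // Nat.card Q = p ^ a} := conjAct P _ hφ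
  have hstab : ∀ Q : {Q : Subgroup G // Nat.card Q = p ^ a},
      Nat.card (normalizer (Q.1 : Set G) ⊓ P : Subgroup G) * (stabilizer P Q).index = p ^ n := by
    intro Q; rw [← hPn]; exact card_mul_index_stabilizer P _ hφ Q
  have hpp : p ^ (n - 1) * p = p ^ n := by rw [← pow_succ]; congr 1; omega
  have h1 := card_modEq_of_invariant (H := P) (p ^ 2)
    (fun Q : {Q : Subgroup G // Nat.card Q = p ^ a} => Q.1 ≤ P ∨ (stabilizer P Q).index = p)
    (by
      intro g Q h
      rcases h with h | h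
      · left
        show MulAut.conj (g : G) • Q.1 ≤ P
        have h' := (Subgroup.pointwise_smul_le_pointwise_smul_iff (a := MulAut.conj (g : G))).2 h
        rwa [conj_smul_self g.2] at h'
      · right
        rw [index_stabilizer, orbit_smul, ← index_stabilizer]; exact h)
    (by
      intro Q hQ
      obtain ⟨hB, hC⟩ := not_or.1 hQ
      have hidx : (stabilizer P Q).index ∣ p ^ n := by
        rw [← hPn]; exact Subgroup.index_dvd_card _
      obtain ⟨i, hin, hi⟩ := (Nat.dvd_prime_pow hp.out).1 hidx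
      have hi1 : i ≠ 1 := by
        rintro rfl; rw [pow_one] at hi; exact hC hi
      have hi0 : i ≠ 0 := by
        rintro rfl
        rw [pow_zero] at hi
        have h2 := hstab Q
        rw [hi, mul_one] at h2
        have h3 : normalizer (Q.1 : Set G) ⊓ P = P :=
          Subgroup.eq_of_le_of_card_ge inf_le_right (by rw [h2, hPn])
        apply hB
        apply le_of_le_normalizer_of_max P n hPn hmax Q.1 (IsPGroup.of_card Q.2)
        rw [← h3]; exact inf_le_left
      rw [hi]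
      exact pow_dvd_pow p (by omega))
  have hsplit := Cfsg.Agent.Helper66.card_subtype_eq_add
    (fun Q : {Q : Subgroup G // Nat.card Q = p ^ a} => Q.1 ≤ P ∨ (stabilizer P Q).index = p)
    (fun Q => Q.1 ≤ P)
  have e1 : {Q : {Q : Subgroup G // Nat.card Q = p ^ a} //
      (Q.1 ≤ P ∨ (stabilizer P Q).index = p) ∧ Q.1 ≤ P} ≃
      {Q : Subgroup G // Nat.card Q = p ^ a ∧ Q ≤ P} :=
    (Equiv.subtypeEquivRight (fun Q => ⟨fun h => h.2, fun h => ⟨Or.inl h, h⟩⟩)).trans
      (Equiv.subtypeSubtypeEquivSubtypeInter _ (fun Q : Subgroup G => Q ≤ P))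
  have e2 : {Q : {Q : Subgroup G // Nat.card Q = p ^ a} //
      (Q.1 ≤ P ∨ (stabilizer P Q).index = p) ∧ ¬ Q.1 ≤ P} ≃ TT p P n a :=
    (Equiv.subtypeEquivRight (fun Q => by
      constructor
      · rintro ⟨h, hB⟩
        refine ⟨hB, ?_⟩
        rcases h with h | h
        · exact absurd h hB
        · have h2 := hstab Q
          rw [h, ← hpp] at h2
          exact Nat.eq_of_mul_eq_mul_right hp.out.pos h2
      · rintro ⟨hB, hN⟩
        refine ⟨Or.inr ?_, hB⟩
        have h2 := hstab Q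
        rw [hN, ← hpp] at h2
        exact Nat.eq_of_mul_eq_mul_left (pow_pos hp.out.pos _) h2)).trans
      (Equiv.subtypeSubtypeEquivSubtypeInter (fun Q : Subgroup G => Nat.card Q = p ^ a)
        (fun Q : Subgroup G => ¬ Q ≤ P ∧
          Nat.card (normalizer (Q : Set G) ⊓ P : Subgroup G) = p ^ (n - 1)))
  rw [hsplit, Nat.card_congr e1, Nat.card_congr e2] at h1
  obtain ⟨c, hc⟩ := sq_dvd_card_TT (a := a) hPn hmax han
  rw [hc] at h1
  refine h1.trans ?_
  simp [Nat.ModEq]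

end X1

end Syl

end Cfsg.Agent.Helper70.Kul
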