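import Mathlib
import Cfsg.Agent.Lib.Helper70.KulE

set_option autoImplicit false

namespace Cfsg.Agent.Helper70.Kul

open Subgroup

universe u

/-- Kulakoff's theorem for odd `p` : in a noncyclic group of order `p ^ n`, the number of subgroups of
order `p ^ a`, `1 ≤ a < n`, is `≡ 1 + p` mod `p ^ 2`. -/
theorem kulakoff {p : ℕ} [hp : Fact p.Prime] (hodd : p ≠ 2) {P : Type u} [Group P] [Finite P] (n : ℕ)
    (hn : Nat.card P = p ^ n) (hnc : ¬ IsCyclic P) (a : ℕ) (ha1 : 1 ≤ a) (han : a < n) :
    Nat.card {H : Subgroup P // Nat.card H = p ^ a} ≡ 1 + p [MOD p ^ 2] :=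
  kulakoff_aux hodd n P hn hnc a ha1 han

/-- P. Hall: if `p ^ (a+1)` divides `|G|`, the number of subgroups of order `p ^ a` is `≡ 1` or
`≡ 1 + p` mod `p ^ 2`. -/
theorem hall_count {G : Type u} [Group G] [Finite G] (p a : ℕ) (hp : p.Prime)
    (hdvd : p ^ (a + 1) ∣ Nat.card G) :
    Nat.card {H : Subgroup G // Nat.card H = p ^ a} ≡ 1 [MOD p ^ 2] ∨
      Nat.card {H : Subgroup G // Nat.card H = p ^ a} ≡ 1 + p [MOD p ^ 2] := by
  haveI : Fact p.Prime := ⟨hp⟩
  by_cases h2 : p = 2
  · subst h2
    have hfr := Cfsg.Agent.Helper66.card_subgroups_prime_pow_modEq_one (G := G) 2 a hp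
      ((pow_dvd_pow 2 (Nat.le_succ a)).trans hdvd)
    unfold Nat.ModEq at hfr ⊢
    norm_num at hfr ⊢
    omega
  · by_cases ha0 : a = 0
    · subst ha0
      left
      have : Nat.card {H : Subgroup G // Nat.card H = p ^ 0} = 1 := by
        rw [Nat.card_eq_one_iff_unique]
        refine ⟨⟨?_⟩, ⟨⟨⊥, by simp⟩⟩⟩
        intro X Y
        apply Subtype.ext
        have hX : Nat.card X.1 = 1 := by have := X.2; simpa using this
        have hY : Nat.card Y.1 = 1 := by have := Y.2; simpa using this
        rw [Subgroup.eq_bot_of_card_eq X.1 hX, Subgroup.eq_bot_of_card_eq Y.1 hY]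
      rw [this]
    · obtain ⟨P⟩ := (inferInstance : Nonempty (Sylow p G))
      have hPn : Nat.card (P : Subgroup G) = p ^ (Nat.card G).factorization p :=
        Sylow.card_eq_multiplicity P
      have hmax : ∀ S : Subgroup G, IsPGroup p S →
          Nat.card S ≤ p ^ (Nat.card G).factorization p := by
        intro S hS
        obtain ⟨Q, hQ⟩ := hS.exists_le_sylow
        rw [← Sylow.card_eq_multiplicity Q]
        exact Subgroup.card_le_of_le hQ
      have han : a < (Nat.card G).factorization p := by
        have := (hp.pow_dvd_iff_le_factorization (Nat.card_pos.ne')).1 hdvd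
        omega
      have hx1 := card_modEq_sylow (P := (P : Subgroup G)) hPn hmax han
      have hcnt := cnt_eq (P : Subgroup G) (p ^ a)
      unfold cnt at hcnt
      rw [hcnt] at hx1
      by_cases hcyc : IsCyclic (P : Subgroup G)
      · left
        haveI := hcyc
        have h1 := Cfsg.Agent.Helper66.card_subgroups_cyclic_eq_one (C := ↥(P : Subgroup G)) p a
          (by rw [hPn]; exact pow_dvd_pow p han.le)
        rw [h1] at hx1
        exact hx1
      · right
        exact hx1.trans (kulakoff h2 _ hPn hcyc a (by omega) han)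

end Cfsg.Agent.Helper70.Kul
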