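import Mathlib
import Cfsg.Agent.Lib.Helper70.KulF
import Cfsg.Agent.Lib.Helper74.AFT3
import Cfsg.Agent.Lib.Helper73.TwoGroupD

set_option autoImplicit false

namespace Cfsg.Agent.Helper70.Kul

open Subgroup

universe u

section

variable {p : ℕ} [hp : Fact p.Prime] {P : Type*} [Group P] [Finite P]

theorem p_mul_sum_PhiIdx [Fintype (PhiIdx p P)] (n : ℕ) (hn : Nat.card P = p ^ n)
    (hnc : ¬ IsCyclic P) (a : ℕ) (ha : a + 2 ≤ n) :
    p * ∑ Y : PhiIdx p P, cnt Y.1 (p ^ a) ≡ p [MOD p ^ 2] := by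
  classical
  have hP : IsPGroup p P := IsPGroup.of_card hn
  have hmax := card_idx_modEq hP hnc
  have hiii : ∀ Y : PhiIdx p P, cnt Y.1 (p ^ a) ≡ 1 [MOD p] := by
    intro Y
    rw [cnt_eq]
    have hYc : Nat.card Y.1 = p ^ (n - 2) :=
      (index_eq_iff_card hn (by omega : 2 ≤ n) Y.1).1 Y.2.1
    apply Cfsg.Agent.Helper66.card_subgroups_prime_pow_modEq_one p a hp.out
    rw [hYc]; exact pow_dvd_pow p (by omega)
  have hB1 : ∑ Y : PhiIdx p P, cnt Y.1 (p ^ a) ≡ Nat.card (PhiIdx p P) [MOD p] := by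
    have := Nat.ModEq.sum (s := Finset.univ) (fun Y _ => hiii Y)
    rw [Finset.sum_const, Finset.card_univ, smul_eq_mul, mul_one,
      ← Nat.card_eq_fintype_card] at this
    exact this
  have hB2 : p * ∑ Y : PhiIdx p P, cnt Y.1 (p ^ a) ≡ p * Nat.card (PhiIdx p P) [MOD p ^ 2] := by
    have := Nat.ModEq.mul_left' p hB1
    rwa [← pow_two] at this
  have hbot : (⊥ : Subgroup P) ≠ ⊤ := by
    intro h
    apply hnc
    haveI : Subsingleton P := ⟨fun x y => by
      have hx : x ∈ (⊥ : Subgroup P) := by rw [h]; exact Subgroup.mem_top x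
      have hy : y ∈ (⊥ : Subgroup P) := by rw [h]; exact Subgroup.mem_top y
      rw [Subgroup.mem_bot.1 hx, Subgroup.mem_bot.1 hy]⟩
    exact isCyclic_of_subsingleton
  have hiv := count_step hP (⊥ : Subgroup P) hbot
  have e1 : {X : Subgroup P // X.index = p ∧ ⊥ ≤ X} ≃ Idx P p :=
    Equiv.subtypeEquivRight (fun X => and_iff_left bot_le)
  have e2 : {Y : Subgroup P // Y.index = p ^ 2 ∧ Phi p P ≤ Y ∧ ⊥ ≤ Y} ≃ PhiIdx p P :=
    Equiv.subtypeEquivRight (fun Y =>
      ⟨fun h => ⟨h.1, h.2.1⟩, fun h => ⟨h.1, h.2, bot_le⟩⟩)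
  rw [Nat.card_congr e1, Nat.card_congr e2] at hiv
  have hN2 : p * Nat.card (PhiIdx p P) ≡ p [MOD p ^ 2] :=
    Nat.ModEq.add_left_cancel' 1 (hiv.symm.trans hmax)
  exact hB2.trans hN2

end

section Two

variable {H : Type u} [Group H] [Finite H]

theorem hall_two (e : ℕ) (hH : Nat.card H = 2 ^ e) (hnc : ¬ IsCyclic H) (k : ℕ)
    (hk : k + 2 ≤ e) :
    Nat.card {K : Subgroup H // Nat.card K = 2 ^ k} % 4 =
      (3 + 2 * Nat.card {X : Idx H 2 // cnt X.1 (2 ^ k) % 4 = 1}) % 4 := by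
  classical
  haveI : Fact (Nat.Prime 2) := ⟨Nat.prime_two⟩
  haveI : Fintype (Idx H 2) := Fintype.ofFinite _
  haveI : Fintype (PhiIdx 2 H) := Fintype.ofFinite _
  have hP : IsPGroup 2 H := IsPGroup.of_card hH
  have hk' : 2 ^ k ≠ Nat.card H := by
    rw [hH]; intro h
    have := Nat.pow_right_injective (le_refl 2) h
    omega
  have hall := hall_identity (p := 2) hP (2 ^ k) hk'
  have hY := p_mul_sum_PhiIdx (p := 2) e hH hnc k hk
  have hmax := card_idx_modEq (p := 2) hP hnc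
  have hodd : ∀ X : Idx H 2, cnt X.1 (2 ^ k) % 2 = 1 := by
    intro X
    rw [cnt_eq]
    have hXc : Nat.card X.1 = 2 ^ (e - 1) :=
      (index_eq_iff_card (p := 2) hH (by omega : 1 ≤ e) X.1).1 (by rw [pow_one]; exact X.2)
    have := Cfsg.Agent.Helper66.card_subgroups_prime_pow_modEq_one (G := X.1) 2 k Nat.prime_two
      (by rw [hXc]; exact pow_dvd_pow 2 (by omega))
    exact this
  have hf : ∀ X : Idx H 2,
      cnt X.1 (2 ^ k) ≡ (if cnt X.1 (2 ^ k) % 4 = 1 then 1 else 3) [MOD 4] := by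
    intro X
    have := hodd X
    unfold Nat.ModEq
    split_ifs with h <;> omega
  have hA := Nat.ModEq.sum (s := Finset.univ) (fun X _ => hf X)
  have hsum : ∑ X : Idx H 2, (if cnt X.1 (2 ^ k) % 4 = 1 then 1 else 3)
      + 2 * Nat.card {X : Idx H 2 // cnt X.1 (2 ^ k) % 4 = 1} = 3 * Nat.card (Idx H 2) := by
    have h1 : ∑ X : Idx H 2, (if cnt X.1 (2 ^ k) % 4 = 1 then 2 else 0)
        = 2 * Nat.card {X : Idx H 2 // cnt X.1 (2 ^ k) % 4 = 1} := by
      rw [← Finset.sum_filter, Finset.sum_const, smul_eq_mul, mul_comm]; congr 1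
      rw [Nat.card_eq_fintype_card, Fintype.card_subtype]
    rw [← h1, ← Finset.sum_add_distrib]
    have h2 : ∀ X : Idx H 2, (if cnt X.1 (2 ^ k) % 4 = 1 then 1 else 3) +
        (if cnt X.1 (2 ^ k) % 4 = 1 then 2 else 0) = 3 := by
      intro X; split_ifs <;> rfl
    rw [Finset.sum_congr rfl (fun X _ => h2 X), Finset.sum_const, Finset.card_univ,
      smul_eq_mul, Nat.card_eq_fintype_card, mul_comm]
  have hall' : (∑ X : Idx H 2, cnt X.1 (2 ^ k)) % 4 =
      (Nat.card {K : Subgroup H // Nat.card K = 2 ^ k} +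
        2 * ∑ Y : PhiIdx 2 H, cnt Y.1 (2 ^ k)) % 4 := hall
  have hY' : (2 * ∑ Y : PhiIdx 2 H, cnt Y.1 (2 ^ k)) % 4 = 2 % 4 := hY
  have hmax' : Nat.card (Idx H 2) % 4 = (1 + 2) % 4 := hmax
  have hA' : (∑ X : Idx H 2, cnt X.1 (2 ^ k)) % 4 =
      (∑ X : Idx H 2, (if cnt X.1 (2 ^ k) % 4 = 1 then 1 else 3)) % 4 := hA
  omega

theorem s_top (e : ℕ) (he : 1 ≤ e) (hH : Nat.card H = 2 ^ e) (hnc : ¬ IsCyclic H) :
    Nat.card {K : Subgroup H // Nat.card K = 2 ^ (e - 1)} % 4 = 3 := by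
  haveI : Fact (Nat.Prime 2) := ⟨Nat.prime_two⟩
  have hP : IsPGroup 2 H := IsPGroup.of_card hH
  have hmax := card_idx_modEq (p := 2) hP hnc
  have e1 : {K : Subgroup H // Nat.card K = 2 ^ (e - 1)} ≃ Idx H 2 :=
    Equiv.subtypeEquivRight (fun X => by
      rw [← index_eq_iff_card (p := 2) hH he X, pow_one])
  rw [Nat.card_congr e1]
  have hmax' : Nat.card (Idx H 2) % 4 = (1 + 2) % 4 := hmax
  omega

theorem s_one_good (e : ℕ) (hH : Nat.card H = 2 ^ e) (hnc : ¬ IsCyclic H)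
    (hidx : (commutator H).index ≠ 4) :
    Nat.card {K : Subgroup H // Nat.card K = 2 ^ 1} % 4 = 3 := by
  classical
  haveI : Fact (Nat.Prime 2) := ⟨Nat.prime_two⟩
  haveI : Fintype H := Fintype.ofFinite H
  have hP : IsPGroup 2 H := IsPGroup.of_card hH
  have he : 1 ≤ e := by
    by_contra hcon
    have : e = 0 := by omega
    subst this
    rw [pow_zero] at hH
    haveI : Subsingleton H := (Nat.card_eq_one_iff_unique.1 hH).1
    exact hnc isCyclic_of_subsingleton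
  have hodd := Cfsg.Agent.Helper66.card_subgroups_prime_pow_modEq_one (G := H) 2 1 Nat.prime_two
    (by rw [hH]; exact pow_dvd_pow 2 he)
  have hinv : Nat.card {x : H // orderOf x = 2} =
      Nat.card {K : Subgroup H // Nat.card K = 2 ^ 1} := by
    rw [card_orderOf_eq_totient_mul 2, Nat.totient_two, one_mul]
    apply Nat.card_congr
    exact Equiv.subtypeEquivRight (fun C => by
      rw [pow_one]
      constructor
      · exact fun h => h.2
      · intro h
        exact ⟨isCyclic_of_prime_card h, h⟩)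
  by_contra hcon
  have h1 : Nat.card {x : H // orderOf x = 2} % 4 = 1 := by
    rw [hinv]
    unfold Nat.ModEq at hodd
    omega
  rcases Cfsg.Agent.Helper74.AFT.aft_main hP h1 with h | h
  · exact hnc h
  · exact hidx h

end Two

end Cfsg.Agent.Helper70.Kul
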