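import Mathlib
import Cfsg.Agent.Lib.Helper70.KulG

set_option autoImplicit false

namespace Cfsg.Agent.Helper70.Kul

open Subgroup
open scoped commutatorElement

universe u

section CycTwo

variable {H : Type u} [Group H] [Finite H]

theorem zpowers_eq_of_not_mem_sq (a : H) (m : ℕ) (ha : orderOf a = 2 ^ m) {x : H}
    (hx : x ∈ zpowers a) (hx2 : x ∉ zpowers (a ^ 2)) : zpowers x = zpowers a := by
  obtain ⟨j, rfl⟩ := (mem_powers_iff_mem_zpowers.2 hx)
  have hodd : Odd j := by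
    by_contra hcon
    rw [Nat.not_odd_iff_even] at hcon
    obtain ⟨t, rfl⟩ := hcon
    apply hx2
    have : a ^ (t + t) = (a ^ 2) ^ t := by rw [← pow_mul]; congr 1; ring
    show a ^ (t + t) ∈ zpowers (a ^ 2)
    rw [this]; exact Subgroup.pow_mem _ (Subgroup.mem_zpowers _) _
  have hcop : (orderOf a).Coprime j := by
    rw [ha]; exact Nat.Coprime.pow_left m (Nat.coprime_two_left.2 hodd)
  have ho : orderOf (a ^ j) = orderOf a := hcop.orderOf_pow
  apply Subgroup.eq_of_le_of_card_ge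
  · rw [Subgroup.zpowers_le]; exact hx
  · show Nat.card (zpowers a) ≤ Nat.card (zpowers (a ^ j))
    rw [Nat.card_zpowers, Nat.card_zpowers, ho]

omit [Finite H] in
theorem mul_inv_mem_sq (a : H) {x y : H} (hx : x ∈ zpowers a) (hx2 : x ∉ zpowers (a ^ 2))
    (hy : y ∈ zpowers a) (hy2 : y ∉ zpowers (a ^ 2)) : x * y⁻¹ ∈ zpowers (a ^ 2) := by
  obtain ⟨i, rfl⟩ := Subgroup.mem_zpowers_iff.1 hx
  obtain ⟨j, rfl⟩ := Subgroup.mem_zpowers_iff.1 hy
  have key : ∀ k : ℤ, a ^ k ∉ zpowers (a ^ 2) → Odd k := by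
    intro k hk
    by_contra hcon
    rw [Int.not_odd_iff_even] at hcon
    obtain ⟨t, rfl⟩ := hcon
    apply hk
    have : a ^ (t + t) = (a ^ 2) ^ t := by
      rw [← zpow_natCast a 2, ← zpow_mul]; congr 1; push_cast; ring
    rw [this]; exact Subgroup.zpow_mem _ (Subgroup.mem_zpowers _) _
  have hi := key i hx2
  have hj := key j hy2
  obtain ⟨t, ht⟩ : Even (i - j) := Odd.sub_odd hi hj
  have : a ^ i * (a ^ j)⁻¹ = (a ^ 2) ^ t := by
    rw [← zpow_neg, ← zpow_add, ← zpow_natCast a 2, ← zpow_mul]; congr 1; push_cast; omega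
  rw [this]; exact Subgroup.zpow_mem _ (Subgroup.mem_zpowers _) _

end CycTwo

section Good

variable {H : Type u} [Group H] [Finite H]

omit [Finite H] in
theorem zpowers_pow_normal (a : H) (hA : (zpowers a).Normal) (k : ℕ) :
    (zpowers (a ^ k)).Normal := by
  constructor
  intro x hx g
  obtain ⟨i, rfl⟩ := Subgroup.mem_zpowers_iff.1 hx
  have h1 : g * a * g⁻¹ ∈ zpowers a := hA.conj_mem a (Subgroup.mem_zpowers a) g
  obtain ⟨j, hj⟩ := Subgroup.mem_zpowers_iff.1 h1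
  have h2 : g * (a ^ k) ^ i * g⁻¹ = ((a ^ k) ^ j) ^ i := by
    have : g * (a ^ k) ^ i * g⁻¹ = ((g * a * g⁻¹) ^ k) ^ i := by
      rw [conj_pow, conj_zpow]
    have hjk : (a ^ j) ^ k = (a ^ k) ^ j := by
      rw [← zpow_natCast (a ^ j) k, ← zpow_natCast a k, ← zpow_mul, ← zpow_mul, mul_comm]
    rw [this, ← hj, hjk]
  rw [h2]; exact Subgroup.zpow_mem _ (Subgroup.zpow_mem _ (Subgroup.mem_zpowers _) _) _

omit [Finite H] in
theorem exists_zpowers_eq_of_isCyclic (X : Subgroup H) (h : IsCyclic X) :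
    ∃ g ∈ X, X = zpowers g := by
  obtain ⟨⟨a, haA⟩, hgen⟩ := h.exists_generator
  refine ⟨a, haA, le_antisymm ?_ ?_⟩
  · intro x hx
    have := hgen ⟨x, hx⟩
    obtain ⟨i, hi⟩ := Subgroup.mem_zpowers_iff.1 this
    have : a ^ i = x := by have := congrArg Subtype.val hi; simpa using this
    rw [← this]; exact Subgroup.zpow_mem _ (Subgroup.mem_zpowers a) i
  · rw [Subgroup.zpowers_le]; exact haA

theorem orderOf_sq_two_pow (hP : IsPGroup 2 H) (g : H) (s : ℕ) (h : orderOf (g ^ 2) = 2 ^ s)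
    (hg : g ^ 2 ≠ 1) : orderOf g = 2 ^ (s + 1) := by
  obtain ⟨t, ht⟩ := (IsPGroup.iff_orderOf.1 hP) g
  rw [orderOf_pow' g (by norm_num), ht] at h
  rcases Nat.eq_zero_or_pos t with rfl | htpos
  · exfalso
    rw [pow_zero, orderOf_eq_one_iff] at ht
    apply hg; rw [ht, one_pow]
  · have h1 : Nat.gcd (2 ^ t) 2 = 2 := Nat.gcd_eq_right (dvd_pow_self 2 (by omega))
    rw [h1] at h
    have h2 : 2 ^ t = 2 ^ (t - 1) * 2 := by rw [← pow_succ]; congr 1; omega
    rw [h2, Nat.mul_div_cancel _ (by norm_num)] at h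
    have := Nat.pow_right_injective (le_refl 2) h
    rw [ht]; congr 1; omega

theorem even_card_cyclic_of_good (e : ℕ) (he : 3 ≤ e) (hH : Nat.card H = 2 ^ e)
    (hnc : ¬ IsCyclic H) (hidx : (commutator H).index ≠ 4) :
    Even (Nat.card {X : Idx H 2 // IsCyclic X.1}) := by
  classical
  haveI : Fact (Nat.Prime 2) := ⟨Nat.prime_two⟩
  have hP : IsPGroup 2 H := IsPGroup.of_card hH
  by_cases hex : ∃ X : Idx H 2, IsCyclic X.1
  swap
  · haveI : IsEmpty {X : Idx H 2 // IsCyclic X.1} := ⟨fun X => hex ⟨X.1, X.2⟩⟩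
    rw [Nat.card_of_isEmpty]; exact Even.zero
  obtain ⟨⟨A, hAi⟩, hAc⟩ := hex
  obtain ⟨a, -, hAeq⟩ := exists_zpowers_eq_of_isCyclic A hAc
  subst hAeq
  have hAcard : Nat.card (zpowers a) = 2 ^ (e - 1) :=
    (index_eq_iff_card (p := 2) hH (by omega) _).1 (by rw [pow_one]; exact hAi)
  have hoa : orderOf a = 2 ^ (e - 1) := by rw [← Nat.card_zpowers]; exact hAcard
  haveI hAn : (zpowers a).Normal := Subgroup.normal_of_index_eq_two hAi
  have hhalf : ∀ (x : H) (s : ℕ), orderOf x = 2 ^ (s + 1) → orderOf (x ^ 2) = 2 ^ s := by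
    intro x s hx
    rw [orderOf_pow' x (by norm_num), hx]
    have h1 : Nat.gcd (2 ^ (s + 1)) 2 = 2 := Nat.gcd_eq_right (dvd_pow_self 2 (by omega))
    rw [h1, pow_succ, Nat.mul_div_cancel _ (by norm_num)]
  have hob : orderOf (a ^ 2) = 2 ^ (e - 2) := by
    have := hhalf a (e - 2) (by rw [hoa]; congr 1; omega)
    exact this
  have hoD : orderOf ((a ^ 2) ^ 2) = 2 ^ (e - 3) := by
    have := hhalf (a ^ 2) (e - 3) (by rw [hob]; congr 1; omega)
    exact this
  have hb2 : (a ^ 2) ^ 2 = a ^ 4 := by rw [← pow_mul]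
  haveI hBn : (zpowers (a ^ 2)).Normal := zpowers_pow_normal a hAn 2
  haveI hDn : (zpowers ((a ^ 2) ^ 2)).Normal := by
    rw [hb2]; exact zpowers_pow_normal a hAn 4
  -- squares lie in B
  have hsq : ∀ g : H, g ^ 2 ∈ zpowers (a ^ 2) := by
    intro g
    have hgA : g ^ 2 ∈ zpowers a := Subgroup.sq_mem_of_index_two hAi g
    by_contra hcon
    have h1 := zpowers_eq_of_not_mem_sq a (e - 1) hoa hgA hcon
    have h2 : zpowers a ≤ zpowers g := by
      rw [← h1, Subgroup.zpowers_le]; exact Subgroup.pow_mem _ (Subgroup.mem_zpowers g) 2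
    by_cases hgm : g ∈ zpowers a
    · obtain ⟨i, rfl⟩ := Subgroup.mem_zpowers_iff.1 hgm
      apply hcon
      have : (a ^ i) ^ 2 = (a ^ 2) ^ i := by
        rw [← zpow_natCast, ← zpow_mul, ← zpow_natCast a 2, ← zpow_mul, mul_comm]
      rw [this]; exact Subgroup.zpow_mem _ (Subgroup.mem_zpowers _) i
    · have h3 : zpowers g = ⊤ :=
        Cfsg.Agent.Helper63.eq_top_of_index_prime_of_not_le (zpowers a) (zpowers g) hAi h2
          (fun h => hgm (h (Subgroup.mem_zpowers g)))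
      exact hnc (isCyclic_iff_exists_zpowers_eq_top.2 ⟨g, h3⟩)
  have hcommB : ∀ g h : H, ⁅g, h⁆ ∈ zpowers (a ^ 2) := by
    intro g h
    rw [← QuotientGroup.eq_one_iff]
    have h1 : ((⁅g, h⁆ : H) : H ⧸ zpowers (a ^ 2)) =
        ⁅(g : H ⧸ zpowers (a ^ 2)), (h : H ⧸ zpowers (a ^ 2))⁆ :=
      map_commutatorElement (QuotientGroup.mk' (zpowers (a ^ 2))) g h
    rw [h1, commutatorElement_eq_one_iff_commute]
    apply Cfsg.Agent.Helper73.comm_of_sq_eq_one
    intro x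
    induction x using QuotientGroup.induction_on with
    | H g => rw [← QuotientGroup.mk_pow, QuotientGroup.eq_one_iff]; exact hsq g
  have hcomm_le_B : commutator H ≤ zpowers (a ^ 2) := by
    rw [_root_.commutator_def, Subgroup.commutator_le]; intro g _ h _; exact hcommB g h
  have hBidx : (zpowers (a ^ 2)).index = 4 := by
    have hBc : Nat.card (zpowers (a ^ 2)) = 2 ^ (e - 2) := by rw [Nat.card_zpowers]; exact hob
    have := (index_eq_iff_card (p := 2) hH (by omega : 2 ≤ e) (zpowers (a ^ 2))).2 hBc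
    rw [this]; norm_num
  have hcommD : commutator H ≤ zpowers ((a ^ 2) ^ 2) := by
    intro c hc
    by_contra hcD
    have hcB := hcomm_le_B hc
    have h1 := zpowers_eq_of_not_mem_sq (a ^ 2) (e - 2) hob hcB hcD
    have h2 : zpowers (a ^ 2) ≤ commutator H := by rw [← h1, Subgroup.zpowers_le]; exact hc
    have h3 : commutator H = zpowers (a ^ 2) := le_antisymm hcomm_le_B h2
    exact hidx (by rw [h3]; exact hBidx)
  have hcm : ∀ g h : H, ⁅g, h⁆ ∈ zpowers ((a ^ 2) ^ 2) := by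
    intro g h
    apply hcommD
    rw [_root_.commutator_def]
    exact Subgroup.commutator_mem_commutator (Subgroup.mem_top _) (Subgroup.mem_top _)
  have hsqmul : ∀ g h : H, (g * h) ^ 2 = g ^ 2 * ⁅g⁻¹, h⁆ * h ^ 2 := by
    intro g h
    rw [commutatorElement_def]; simp only [pow_two, inv_inv]; group
  let U : Subgroup H :=
    { carrier := {g | g ^ 2 ∈ zpowers ((a ^ 2) ^ 2)}
      one_mem' := by
        show (1 : H) ^ 2 ∈ zpowers ((a ^ 2) ^ 2)
        rw [one_pow]; exact Subgroup.one_mem _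
      mul_mem' := by
        intro g h hg hh
        show (g * h) ^ 2 ∈ zpowers ((a ^ 2) ^ 2)
        rw [hsqmul]
        exact Subgroup.mul_mem _ (Subgroup.mul_mem _ hg (hcm _ _)) hh
      inv_mem' := by
        intro g hg
        show (g⁻¹) ^ 2 ∈ zpowers ((a ^ 2) ^ 2)
        rw [inv_pow]; exact Subgroup.inv_mem _ hg }
  have hUmem : ∀ g : H, g ∈ U ↔ g ^ 2 ∈ zpowers ((a ^ 2) ^ 2) := fun g => Iff.rfl
  have hbD : a ^ 2 ∉ zpowers ((a ^ 2) ^ 2) := by
    intro h
    have h1 : zpowers (a ^ 2) ≤ zpowers ((a ^ 2) ^ 2) := by rw [Subgroup.zpowers_le]; exact h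
    have h2 := Subgroup.card_le_of_le h1
    rw [Nat.card_zpowers, Nat.card_zpowers, hob, hoD] at h2
    have h3 : 2 ^ (e - 2) = 2 ^ (e - 3) * 2 := by rw [← pow_succ]; congr 1; omega
    have h4 : 0 < 2 ^ (e - 3) := by positivity
    omega
  have haU : a ∉ U := fun h => hbD ((hUmem a).1 h)
  have hUidx : U.index = 2 := by
    rw [Subgroup.index_eq_two_iff]
    refine ⟨a, fun g => ?_⟩
    by_cases hg : g ∈ U
    · refine Or.inr ⟨hg, fun h => haU ?_⟩
      have := U.mul_mem (U.inv_mem hg) h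
      simpa using this
    · refine Or.inl ⟨?_, hg⟩
      rw [hUmem, hsqmul]
      have hg2 : g ^ 2 ∉ zpowers ((a ^ 2) ^ 2) := fun h => hg ((hUmem g).2 h)
      have h1 := mul_inv_mem_sq (a ^ 2) (hsq g) hg2 (Subgroup.mem_zpowers (a ^ 2)) hbD
      have h2 : g ^ 2 * a ^ 2 ∈ zpowers ((a ^ 2) ^ 2) := by
        have : g ^ 2 * a ^ 2 = (g ^ 2 * (a ^ 2)⁻¹) * (a ^ 2) ^ 2 := by
          rw [pow_two (a ^ 2)]; group
        rw [this]
        exact Subgroup.mul_mem _ h1 (Subgroup.mem_zpowers _)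
      have h3 : (a ^ 2)⁻¹ * ⁅g⁻¹, a⁆ * ((a ^ 2)⁻¹)⁻¹ ∈ zpowers ((a ^ 2) ^ 2) :=
        hDn.conj_mem _ (hcm _ _) _
      have : g ^ 2 * ⁅g⁻¹, a⁆ * a ^ 2 =
          (g ^ 2 * a ^ 2) * ((a ^ 2)⁻¹ * ⁅g⁻¹, a⁆ * ((a ^ 2)⁻¹)⁻¹) := by group
      rw [this]
      exact Subgroup.mul_mem _ h2 h3
  have hcyc : ∀ X : Idx H 2, X.1 ≠ U → IsCyclic X.1 := by
    intro X hXU
    have hnle : ¬ X.1 ≤ U := by
      intro hle
      exact hXU (eq_of_le_of_index_eq_prime (p := 2) hle X.2 hUidx).symm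
    obtain ⟨g, hgX, hgU⟩ := Set.not_subset.1 hnle
    have hg2D : g ^ 2 ∉ zpowers ((a ^ 2) ^ 2) := fun h => hgU ((hUmem g).2 h)
    have h1 := zpowers_eq_of_not_mem_sq (a ^ 2) (e - 2) hob (hsq g) hg2D
    have ho2 : orderOf (g ^ 2) = 2 ^ (e - 2) := by
      rw [← Nat.card_zpowers, h1, Nat.card_zpowers, hob]
    have hg21 : g ^ 2 ≠ 1 := by
      intro h; apply hg2D; rw [h]; exact Subgroup.one_mem _
    have hog : orderOf g = 2 ^ (e - 1) := by
      rw [orderOf_sq_two_pow hP g (e - 2) ho2 hg21]; congr 1; omega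
    have : zpowers g = X.1 := by
      apply Subgroup.eq_of_le_of_card_ge
      · rw [Subgroup.zpowers_le]; exact hgX
      · rw [Nat.card_zpowers, hog]
        exact le_of_eq ((index_eq_iff_card (p := 2) hH (by omega) X.1).1
          (by rw [pow_one]; exact X.2))
    rw [← this]; infer_instance
  have hUnc : ¬ IsCyclic U := by
    intro hc
    obtain ⟨g, hgU, hUeq⟩ := exists_zpowers_eq_of_isCyclic U hc
    have hUc : Nat.card U = 2 ^ (e - 1) :=
      (index_eq_iff_card (p := 2) hH (by omega) U).1 (by rw [pow_one]; exact hUidx)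
    have hog : orderOf g = 2 ^ (e - 1) := by
      rw [← Nat.card_zpowers, ← hUeq]; exact hUc
    have ho2 : orderOf (g ^ 2) = 2 ^ (e - 2) := hhalf g (e - 2) (by rw [hog]; congr 1; omega)
    have h1 : zpowers (g ^ 2) ≤ zpowers ((a ^ 2) ^ 2) := by
      rw [Subgroup.zpowers_le]; exact (hUmem g).1 hgU
    have h2 := Subgroup.card_le_of_le h1
    rw [Nat.card_zpowers, Nat.card_zpowers, ho2, hoD] at h2
    have h3 : 2 ^ (e - 2) = 2 ^ (e - 3) * 2 := by rw [← pow_succ]; congr 1; omega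
    have h4 : 0 < 2 ^ (e - 3) := by positivity
    omega
  have hiff : ∀ X : Idx H 2, IsCyclic X.1 ↔ X.1 ≠ U :=
    fun X => ⟨fun h hXU => hUnc (hXU ▸ h), hcyc X⟩
  rw [Nat.card_congr (Equiv.subtypeEquivRight hiff)]
  have hM := card_idx_modEq (p := 2) hP hnc
  have hM' : Nat.card (Idx H 2) % 4 = (1 + 2) % 4 := hM
  have hsplit := Cfsg.Agent.Helper66.card_subtype_eq_add (fun _ : Idx H 2 => True)
    (fun X => X.1 = U)
  have h0 : Nat.card {X : Idx H 2 // True} = Nat.card (Idx H 2) :=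
    Nat.card_congr (Equiv.subtypeUnivEquiv (fun _ => trivial))
  have h1 : Nat.card {X : Idx H 2 // True ∧ X.1 = U} = 1 := by
    rw [Nat.card_eq_one_iff_unique]
    exact ⟨⟨fun X Y => Subtype.ext (Subtype.ext (X.2.2.trans Y.2.2.symm))⟩,
      ⟨⟨⟨U, hUidx⟩, trivial, rfl⟩⟩⟩
  have h2 : Nat.card {X : Idx H 2 // True ∧ ¬ X.1 = U} = Nat.card {X : Idx H 2 // X.1 ≠ U} :=
    Nat.card_congr (Equiv.subtypeEquivRight (fun X => by simp))
  rw [h0, h1, h2] at hsplit
  rw [Nat.even_iff]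
  omega

end Good

end Cfsg.Agent.Helper70.Kul
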