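import Mathlib
import Cfsg.Agent.Lib.Helper70.KulH

set_option autoImplicit false

namespace Cfsg.Agent.Helper70.Kul

open Subgroup
open scoped commutatorElement

universe u

theorem card_le_mul_of_fiber {α β : Type*} [Finite α] [Finite β] (g : α → β) (n : ℕ)
    (h : ∀ c : β, Nat.card {b : α // g b = c} ≤ n) : Nat.card α ≤ n * Nat.card β := by
  classical
  haveI : Fintype β := Fintype.ofFinite β
  rw [← Nat.card_congr (Equiv.sigmaFiberEquiv g), Nat.card_sigma]
  calc ∑ c : β, Nat.card {b : α // g b = c} ≤ ∑ _c : β, n :=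
        Finset.sum_le_sum (fun c _ => h c)
    _ = n * Nat.card β := by
      rw [Finset.sum_const, Finset.card_univ, smul_eq_mul, Nat.card_eq_fintype_card, mul_comm]

section MC

variable {H : Type u} [Group H] [Finite H]

theorem card_invol_eq :
    Nat.card {x : H // orderOf x = 2} = Nat.card {K : Subgroup H // Nat.card K = 2 ^ 1} := by
  classical
  haveI : Fintype H := Fintype.ofFinite H
  rw [card_orderOf_eq_totient_mul 2, Nat.totient_two, one_mul]
  apply Nat.card_congr
  exact Equiv.subtypeEquivRight (fun C => by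
    rw [pow_one]
    constructor
    · exact fun h => h.2
    · intro h
      exact ⟨isCyclic_of_prime_card h, h⟩)

theorem mc_max_sub (e : ℕ) (he : 4 ≤ e) (hH : Nat.card H = 2 ^ e)
    (hidx : (commutator H).index = 4) (a : H) (ha : orderOf a = 2 ^ (e - 1))
    (X : Subgroup H) (hX : X.index = 2) (hXA : X ≠ zpowers a) :
    ¬ IsCyclic X ∧ (commutator X).index = 4 := by
  classical
  haveI : Fact (Nat.Prime 2) := ⟨Nat.prime_two⟩
  have hP : IsPGroup 2 H := IsPGroup.of_card hH
  obtain ⟨hZcard, -, -⟩ := Cfsg.Agent.Helper73.cyclic_max_center e (by omega) hH hidx a ha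
  have hAcard : Nat.card (zpowers a) = 2 ^ (e - 1) := by rw [Nat.card_zpowers]; exact ha
  have hAi : (zpowers a).index = 2 := by
    have := (index_eq_iff_card (p := 2) hH (by omega : 1 ≤ e) (zpowers a)).2 hAcard
    rw [this, pow_one]
  -- u ∈ X \ A
  have hnle : ¬ X ≤ zpowers a := by
    intro hle
    exact hXA (eq_of_le_of_index_eq_prime (p := 2) hle hX hAi).symm
  obtain ⟨u, huX, huA⟩ := Set.not_subset.1 hnle
  have htop : zpowers a ⊔ zpowers u = ⊤ :=
    Cfsg.Agent.Helper73.sup_zpowers_eq_top_of_index_two _ hAi u huA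
  have hcen : ∀ c ∈ zpowers a, c * u = u * c → c ∈ Subgroup.center H := by
    intro c hcA hcu
    rw [Subgroup.mem_center_iff]
    have hle : zpowers a ⊔ zpowers u ≤ Subgroup.centralizer {c} := by
      rw [sup_le_iff, Subgroup.zpowers_le, Subgroup.zpowers_le]
      constructor
      · rw [Subgroup.mem_centralizer_iff]
        intro y hy
        rw [Set.mem_singleton_iff] at hy
        rw [hy]
        obtain ⟨i, rfl⟩ := Subgroup.mem_zpowers_iff.1 hcA
        exact ((Commute.refl a).zpow_left i).eq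
      · rw [Subgroup.mem_centralizer_iff]
        intro y hy
        rw [Set.mem_singleton_iff] at hy
        rw [hy]
        exact hcu
    intro g
    have hg : g ∈ Subgroup.centralizer {c} := hle (htop ▸ Subgroup.mem_top g)
    rw [Subgroup.mem_centralizer_iff] at hg
    exact (hg c rfl).symm
  have hDX : a ^ 2 ∈ X := Subgroup.sq_mem_of_index_two hX a
  have hob : orderOf (a ^ 2) = 2 ^ (e - 2) := by
    rw [orderOf_pow' a (by norm_num), ha]
    have h1 : Nat.gcd (2 ^ (e - 1)) 2 = 2 := Nat.gcd_eq_right (dvd_pow_self 2 (by omega))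
    have h2 : 2 ^ (e - 1) = 2 ^ (e - 2) * 2 := by rw [← pow_succ]; congr 1; omega
    rw [h1, h2, Nat.mul_div_cancel _ (by norm_num)]
  have hDcard : Nat.card (zpowers (a ^ 2)) = 2 ^ (e - 2) := by rw [Nat.card_zpowers]; exact hob
  have hDleX : zpowers (a ^ 2) ≤ X := by rw [Subgroup.zpowers_le]; exact hDX
  have hDleA : zpowers (a ^ 2) ≤ zpowers a := by
    rw [Subgroup.zpowers_le]; exact Subgroup.pow_mem _ (Subgroup.mem_zpowers a) 2
  -- the map
  let uX : X := ⟨u, huX⟩
  let g : zpowers (a ^ 2) → commutator X := fun b =>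
    ⟨⁅(⟨b.1, hDleX b.2⟩ : X), uX⁆, by
      rw [_root_.commutator_def]
      exact Subgroup.commutator_mem_commutator (Subgroup.mem_top _) (Subgroup.mem_top _)⟩
  have hval : ∀ b : zpowers (a ^ 2), (((g b : commutator X) : X) : H) = ⁅(b : H), u⁆ :=
    fun b => rfl
  have hfib : ∀ c : commutator X, Nat.card {b : zpowers (a ^ 2) // g b = c} ≤ 2 := by
    intro c
    by_cases hne : Nonempty {b : zpowers (a ^ 2) // g b = c}
    · obtain ⟨⟨b0, hb0⟩⟩ := hne
      refine le_trans ?_ (le_of_eq hZcard)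
      have hmem : ∀ b : {b : zpowers (a ^ 2) // g b = c},
          (b0.1)⁻¹ * b.1.1 ∈ Subgroup.center H := by
        intro b
        apply hcen
        · exact Subgroup.mul_mem _ (Subgroup.inv_mem _ (hDleA b0.2)) (hDleA b.1.2)
        · have h1 : g b.1 = g b0 := b.2.trans hb0.symm
          have h2 : ⁅b.1.1, u⁆ = ⁅b0.1, u⁆ := by
            rw [← hval, ← hval, h1]
          rw [commutatorElement_def, commutatorElement_def] at h2
          have h3 : b.1.1 * u * (b.1.1)⁻¹ = b0.1 * u * (b0.1)⁻¹ := mul_right_cancel h2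
          calc (b0.1)⁻¹ * b.1.1 * u = (b0.1)⁻¹ * (b.1.1 * u * (b.1.1)⁻¹) * b.1.1 := by group
            _ = (b0.1)⁻¹ * (b0.1 * u * (b0.1)⁻¹) * b.1.1 := by rw [h3]
            _ = u * ((b0.1)⁻¹ * b.1.1) := by group
      apply Nat.card_le_card_of_injective
        (fun b => (⟨(b0.1)⁻¹ * b.1.1, hmem b⟩ : Subgroup.center H))
      intro b b' hbb
      have := congrArg Subtype.val hbb
      simp only [mul_right_inj] at this
      exact Subtype.ext (Subtype.ext this)
    · rw [not_nonempty_iff] at hne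
      rw [Nat.card_of_isEmpty]; omega
  have hcard1 : Nat.card (zpowers (a ^ 2)) ≤ 2 * Nat.card (commutator X) :=
    card_le_mul_of_fiber g 2 hfib
  rw [hDcard] at hcard1
  have hXcard : Nat.card X = 2 ^ (e - 1) :=
    (index_eq_iff_card (p := 2) hH (by omega : 1 ≤ e) X).1 (by rw [pow_one]; exact hX)
  have hmul := (commutator X).card_mul_index
  rw [hXcard] at hmul
  have hXP : IsPGroup 2 X := IsPGroup.of_card hXcard
  have h2 : 2 ^ (e - 2) = 2 ^ (e - 3) * 2 := by rw [← pow_succ]; congr 1; omega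
  have h3 : 2 ≤ 2 ^ (e - 3) := by
    calc 2 = 2 ^ 1 := by norm_num
      _ ≤ 2 ^ (e - 3) := Nat.pow_le_pow_right (by norm_num) (by omega)
  have h6 : 2 ^ (e - 3) ≤ Nat.card (commutator X) := by omega
  have hna : commutator X ≠ ⊥ := by
    intro h
    rw [h, Subgroup.card_bot] at h6
    omega
  have h4 := Cfsg.Agent.Helper73.four_dvd_index_commutator hXP hna
  constructor
  · intro hc
    haveI := hc
    apply hna
    exact Cfsg.Agent.Helper73.commutator_eq_bot_of_comm
      (fun x y => (IsCyclic.isMulCommutative (α := X)).is_comm.comm x y)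
  · have h5 : 2 ^ (e - 1) = 2 ^ (e - 3) * 4 := by
      have : e - 1 = (e - 3) + 2 := by omega
      rw [this, pow_add]; norm_num
    have h7 : (commutator X).index ≤ 4 := by
      by_contra hcon
      push_neg at hcon
      have : 2 ^ (e - 3) * 5 ≤ Nat.card (commutator X) * (commutator X).index :=
        Nat.mul_le_mul h6 hcon
      omega
    obtain ⟨t, ht⟩ := h4
    have hpos' : 0 < (commutator X).index := Nat.pos_of_ne_zero Subgroup.index_ne_zero_of_finite
    omega

theorem s_one_mc8 (hH : Nat.card H = 2 ^ 3) (hidx : (commutator H).index = 4) :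
    Nat.card {K : Subgroup H // Nat.card K = 2 ^ 1} % 4 = 1 := by
  classical
  haveI : Fact (Nat.Prime 2) := ⟨Nat.prime_two⟩
  obtain ⟨a, ha⟩ := Cfsg.Agent.Helper73.exists_cyclic_max 3 le_rfl H hH hidx
  have ha4 : orderOf a = 4 := by rw [ha]; norm_num
  have hAcard : Nat.card (zpowers a) = 4 := by rw [Nat.card_zpowers]; exact ha4
  have hAi : (zpowers a).index = 2 := by
    have h1 := (zpowers a).card_mul_index
    rw [hAcard, hH] at h1
    omega
  rw [← card_invol_eq]
  have hcl := Cfsg.Agent.Helper73.classify 3 le_rfl hH hidx a ha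
  obtain ⟨t, htA, ht2, hta⟩ : ∃ t : H, t ∉ zpowers a ∧ (t ^ 2 = 1 ∨ t ^ 2 = a ^ 2) ∧
      t * a * t⁻¹ = a⁻¹ := by
    rcases hcl with ⟨t, h1, h2, h3⟩ | ⟨t, h1, h2, h3⟩ | ⟨h4, -⟩
    · exact ⟨t, h1, Or.inl h2, h3⟩
    · exact ⟨t, h1, Or.inr (by rw [h2]; norm_num), h3⟩
    · omega
  have hconj : ∀ c ∈ zpowers a, t * c * t⁻¹ = c⁻¹ := by
    intro c hc
    obtain ⟨i, rfl⟩ := Subgroup.mem_zpowers_iff.1 hc
    rw [← conj_zpow, hta, inv_zpow]
  have hsq : ∀ x : H, x ∉ zpowers a → x ^ 2 = t ^ 2 := by
    intro x hx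
    have hc0 : x * t⁻¹ ∈ zpowers a := by
      rw [Subgroup.mul_mem_iff_of_index_two hAi]
      constructor
      · intro h; exact absurd h hx
      · intro h; exact absurd (by simpa using (zpowers a).inv_mem h) htA
    obtain ⟨c, hc, hxc⟩ : ∃ c ∈ zpowers a, x = c * t := ⟨x * t⁻¹, hc0, by group⟩
    rw [hxc]
    have h2 : (c * t) ^ 2 = c * (t * c * t⁻¹) * t ^ 2 := by simp only [pow_two]; group
    rw [h2, hconj c hc, mul_inv_cancel, one_mul]
  have hsplit := Cfsg.Agent.Helper66.card_subtype_eq_add (fun x : H => orderOf x = 2)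
    (fun x => x ∈ zpowers a)
  have hoa2 : orderOf (a ^ 2) = 2 := by
    rw [orderOf_pow' a (by norm_num), ha4]; norm_num
  have hin : Nat.card {x : H // orderOf x = 2 ∧ x ∈ zpowers a} = 1 := by
    rw [Nat.card_eq_one_iff_unique]
    have key : ∀ x : H, orderOf x = 2 → x ∈ zpowers a → x = a ^ 2 := by
      intro x hx hxA
      have hxB : x ∈ zpowers (a ^ 2) := by
        by_contra hcon
        have h1 := zpowers_eq_of_not_mem_sq a (3 - 1) ha hxA hcon
        have h2 : orderOf x = orderOf a := by rw [← Nat.card_zpowers, h1, Nat.card_zpowers]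
        rw [hx, ha4] at h2; omega
      obtain ⟨i, rfl⟩ := Subgroup.mem_zpowers_iff.1 hxB
      rcases Int.emod_two_eq_zero_or_one i with h | h
      · exfalso
        have : (a ^ 2) ^ i = 1 := by
          rw [← zpow_mod_orderOf, hoa2]; push_cast; rw [h, zpow_zero]
        rw [this, orderOf_one] at hx; omega
      · rw [← zpow_mod_orderOf, hoa2]; push_cast; rw [h, zpow_one]
    exact ⟨⟨fun x y => Subtype.ext ((key x.1 x.2.1 x.2.2).trans (key y.1 y.2.1 y.2.2).symm)⟩,
      ⟨⟨a ^ 2, hoa2, Subgroup.pow_mem _ (Subgroup.mem_zpowers a) 2⟩⟩⟩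
  have hAc : Nat.card {x : H // x ∉ zpowers a} = 4 := by
    have h1 := Cfsg.Agent.Helper66.card_subtype_eq_add (fun _ : H => True)
      (fun x => x ∈ zpowers a)
    have h0 : Nat.card {x : H // True} = 8 := by
      rw [Nat.card_congr (Equiv.subtypeUnivEquiv (fun _ => trivial)), hH]; norm_num
    have h2 : Nat.card {x : H // True ∧ x ∈ zpowers a} = 4 := by
      rw [← hAcard]; exact Nat.card_congr (Equiv.subtypeEquivRight (fun x => by simp))
    have h3 : Nat.card {x : H // True ∧ ¬ x ∈ zpowers a} = Nat.card {x : H // x ∉ zpowers a} :=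
      Nat.card_congr (Equiv.subtypeEquivRight (fun x => by simp))
    omega
  have hout : Nat.card {x : H // orderOf x = 2 ∧ ¬ x ∈ zpowers a} = 0 ∨
      Nat.card {x : H // orderOf x = 2 ∧ ¬ x ∈ zpowers a} = 4 := by
    rcases ht2 with h | h
    · right
      rw [← hAc]
      apply Nat.card_congr
      apply Equiv.subtypeEquivRight
      intro x
      constructor
      · exact fun hx => hx.2
      · intro hx
        refine ⟨?_, hx⟩
        apply orderOf_eq_prime
        · rw [hsq x hx, h]
        · intro h1; apply hx; rw [h1]; exact Subgroup.one_mem _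
    · left
      haveI : IsEmpty {x : H // orderOf x = 2 ∧ ¬ x ∈ zpowers a} := by
        constructor
        rintro ⟨x, hx2, hxA⟩
        have h1 : x ^ 2 = 1 := by rw [← hx2]; exact pow_orderOf_eq_one x
        rw [hsq x hxA, h] at h1
        have := orderOf_dvd_of_pow_eq_one h1
        rw [ha4] at this
        omega
      rw [Nat.card_of_isEmpty]
  rw [hin] at hsplit
  omega

end MC

end Cfsg.Agent.Helper70.Kul
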