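import Mathlib
import Cfsg.Agent.Lib.Helper70.KulI

set_option autoImplicit false

namespace Cfsg.Agent.Helper70.Kul

open Subgroup

universe u

section

variable {H : Type u} [Group H] [Finite H]

/-- cyclic maximal subgroups are "bad" -/
theorem cnt_of_cyclic (X : Subgroup H) (n k : ℕ) (hX : Nat.card X = 2 ^ n) (hk : k ≤ n)
    (hc : IsCyclic X) : cnt X (2 ^ k) = 1 := by
  haveI : Fact (Nat.Prime 2) := ⟨Nat.prime_two⟩
  haveI := hc
  rw [cnt_eq]
  exact Cfsg.Agent.Helper66.card_subgroups_cyclic_eq_one 2 k
    (by rw [hX]; exact pow_dvd_pow 2 hk)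

end

theorem two_aux : ∀ (n : ℕ) (H : Type u) [Group H] [Finite H], Nat.card H = 2 ^ n →
    ¬ IsCyclic H →
    ((commutator H).index = 4 → ∀ k, 1 ≤ k → k + 2 ≤ n →
        Nat.card {K : Subgroup H // Nat.card K = 2 ^ k} % 4 = 1) ∧
    ((commutator H).index ≠ 4 → ∀ k, 1 ≤ k → k < n →
        Nat.card {K : Subgroup H // Nat.card K = 2 ^ k} % 4 = 3) := by
  intro n
  induction n with
  | zero =>
    intro H _ _ hH hnc
    exfalso
    rw [pow_zero] at hH
    haveI : Subsingleton H := (Nat.card_eq_one_iff_unique.1 hH).1
    exact hnc isCyclic_of_subsingleton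
  | succ n ih =>
    intro H _ _ hH hnc
    classical
    haveI : Fact (Nat.Prime 2) := ⟨Nat.prime_two⟩
    have hP : IsPGroup 2 H := IsPGroup.of_card hH
    have hXcard : ∀ X : Idx H 2, Nat.card X.1 = 2 ^ n := by
      intro X
      have := (index_eq_iff_card (p := 2) hH (by omega : 1 ≤ n + 1) X.1).1
        (by rw [pow_one]; exact X.2)
      simpa using this
    have hbad_cyc : ∀ (X : Idx H 2) (k : ℕ), k ≤ n → IsCyclic X.1 →
        cnt X.1 (2 ^ k) % 4 = 1 := by
      intro X k hk hc
      rw [cnt_of_cyclic X.1 n k (hXcard X) hk hc]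
    have hbad_mc : ∀ (X : Idx H 2) (k : ℕ), 1 ≤ k → k + 2 ≤ n → ¬ IsCyclic X.1 →
        (commutator X.1).index = 4 → cnt X.1 (2 ^ k) % 4 = 1 := by
      intro X k hk1 hk2 hc hi
      rw [cnt_eq]
      exact (ih ↥X.1 (hXcard X) hc).1 hi k hk1 hk2
    have hgood : ∀ (X : Idx H 2) (k : ℕ), 1 ≤ k → k < n → ¬ IsCyclic X.1 →
        (commutator X.1).index ≠ 4 → cnt X.1 (2 ^ k) % 4 = 3 := by
      intro X k hk1 hk2 hc hi
      rw [cnt_eq]
      exact (ih ↥X.1 (hXcard X) hc).2 hi k hk1 hk2
    have htop : ∀ (X : Idx H 2), 1 ≤ n → ¬ IsCyclic X.1 →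
        cnt X.1 (2 ^ (n - 1)) % 4 = 3 := by
      intro X hn hc
      rw [cnt_eq]
      exact s_top n hn (hXcard X) hc
    constructor
    · -- maximal class type
      intro hidx k hk1 hk2
      rcases Nat.lt_or_ge n 3 with hn3 | hn3
      · have hn2 : n = 2 := by omega
        have hk : k = 1 := by omega
        subst hn2; subst hk
        exact s_one_mc8 hH hidx
      · obtain ⟨a, ha⟩ := Cfsg.Agent.Helper73.exists_cyclic_max (n + 1) (by omega) H hH hidx
        have ha' : orderOf a = 2 ^ n := by simpa using ha
        have hAcard : Nat.card (zpowers a) = 2 ^ n := by rw [Nat.card_zpowers]; exact ha'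
        have hAi : (zpowers a).index = 2 := by
          have := (index_eq_iff_card (p := 2) hH (by omega : 1 ≤ n + 1) (zpowers a)).2
            (by simpa using hAcard)
          rw [this, pow_one]
        have hW3 : ∀ X : Idx H 2, X.1 ≠ zpowers a →
            ¬ IsCyclic X.1 ∧ (commutator X.1).index = 4 :=
          fun X hX => mc_max_sub (n + 1) (by omega) hH hidx a ha X.1 X.2 hX
        have hkey := hall_two (n + 1) hH hnc k hk2
        rcases Nat.lt_or_ge (k + 2) (n + 1) with hk3 | hk3
        · have hall : ∀ X : Idx H 2, cnt X.1 (2 ^ k) % 4 = 1 := by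
            intro X
            by_cases hXA : X.1 = zpowers a
            · apply hbad_cyc X k (by omega)
              rw [hXA]; infer_instance
            · obtain ⟨h1, h2⟩ := hW3 X hXA
              exact hbad_mc X k hk1 (by omega) h1 h2
          have hcard : Nat.card {X : Idx H 2 // cnt X.1 (2 ^ k) % 4 = 1} =
              Nat.card (Idx H 2) :=
            Nat.card_congr (Equiv.subtypeUnivEquiv hall)
          rw [hcard] at hkey
          have hM := card_idx_modEq (p := 2) hP hnc
          have hM' : Nat.card (Idx H 2) % 4 = (1 + 2) % 4 := hM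
          omega
        · have hkn : k = n - 1 := by omega
          have hiff : ∀ X : Idx H 2, cnt X.1 (2 ^ k) % 4 = 1 ↔ X.1 = zpowers a := by
            intro X
            constructor
            · intro hb
              by_contra hXA
              have := htop X (by omega) (hW3 X hXA).1
              rw [← hkn] at this
              omega
            · intro hXA
              apply hbad_cyc X k (by omega)
              rw [hXA]; infer_instance
          have hcard : Nat.card {X : Idx H 2 // cnt X.1 (2 ^ k) % 4 = 1} = 1 := by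
            rw [Nat.card_congr (Equiv.subtypeEquivRight hiff), Nat.card_eq_one_iff_unique]
            exact ⟨⟨fun X Y => Subtype.ext (Subtype.ext (X.2.trans Y.2.symm))⟩,
              ⟨⟨⟨zpowers a, hAi⟩, rfl⟩⟩⟩
          rw [hcard] at hkey
          omega
    · -- the other noncyclic groups
      intro hidx k hk1 hk2
      rcases Nat.lt_or_ge k n with hkn | hkn
      swap
      · have hk : k = n := by omega
        subst hk
        have := s_top (k + 1) (by omega) hH hnc
        simpa using this
      rcases Nat.lt_or_ge (k + 1) n with hkn2 | hkn2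
      swap
      · have hkn' : k = n - 1 := by omega
        have hkey := hall_two (n + 1) hH hnc k (by omega)
        have hiff : ∀ X : Idx H 2, cnt X.1 (2 ^ k) % 4 = 1 ↔ IsCyclic X.1 := by
          intro X
          constructor
          · intro hb
            by_contra hc
            have := htop X (by omega) hc
            rw [← hkn'] at this
            omega
          · intro hc
            exact hbad_cyc X k (by omega) hc
        have hev := even_card_cyclic_of_good (n + 1) (by omega) hH hnc hidx
        rw [← Nat.card_congr (Equiv.subtypeEquivRight hiff)] at hev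
        rw [Nat.even_iff] at hev
        omega
      · have h1 := hall_two (n + 1) hH hnc 1 (by omega)
        have hk := hall_two (n + 1) hH hnc k (by omega)
        have hs1 := s_one_good (n + 1) hH hnc hidx
        have hiff : ∀ X : Idx H 2, cnt X.1 (2 ^ k) % 4 = 1 ↔ cnt X.1 (2 ^ 1) % 4 = 1 := by
          intro X
          by_cases hc : IsCyclic X.1
          · exact ⟨fun _ => hbad_cyc X 1 (by omega) hc, fun _ => hbad_cyc X k (by omega) hc⟩
          · by_cases hi : (commutator X.1).index = 4
            · exact ⟨fun _ => hbad_mc X 1 le_rfl (by omega) hc hi,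
                fun _ => hbad_mc X k hk1 (by omega) hc hi⟩
            · have h3 := hgood X k hk1 (by omega) hc hi
              have h4 := hgood X 1 le_rfl (by omega) hc hi
              constructor <;> intro h <;> omega
        rw [Nat.card_congr (Equiv.subtypeEquivRight hiff)] at hk
        omega

/-- The `p = 2` case: a noncyclic `2`-group whose commutator quotient does not have order `4`. -/
theorem kulakoff_two {H : Type u} [Group H] [Finite H] (m : ℕ) (hH : Nat.card H = 2 ^ m)
    (hnc : ¬ IsCyclic H) (hidx : (commutator H).index ≠ 4) (k : ℕ) (hk1 : 1 ≤ k) (hk2 : k < m) :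
    Nat.card {K : Subgroup H // Nat.card K = 2 ^ k} ≡ 1 + 2 [MOD 2 ^ 2] := by
  have := (two_aux m H hH hnc).2 hidx k hk1 hk2
  show Nat.card {K : Subgroup H // Nat.card K = 2 ^ k} % 4 = (1 + 2) % 4
  omega

end Cfsg.Agent.Helper70.Kul
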