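import Mathlib
import Cfsg.Agent.Lib.Helper32.N9Defs
import Cfsg.Agent.Lib.Helper20.LocalIdx

/-!
# N9 (I5) `na8_of_q8_selfcentralizing` (helper70, for helper32's S4409 server)
-/

set_option autoImplicit false

namespace Cfsg.Agent.Helper70.N9

open Cfsg Cfsg.Agent.Helper32.N9 Cfsg.Agent.Helper20
open QuaternionGroup

universe u

theorem q8_struct : ∀ t : QuaternionGroup 2, t ^ 2 ≠ 1 → ∃ s : QuaternionGroup 2,
    t ^ 4 = 1 ∧ t * s * t = s ∧ s ≠ 1 ∧ s ≠ t ∧ s ≠ t ^ 2 ∧ s ≠ t ^ 3 ∧
    ∀ w : QuaternionGroup 2, w = 1 ∨ w = t ∨ w = t ^ 2 ∨ w = t ^ 3 ∨ w = s ∨ w = s * t ∨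
      w = s * t ^ 2 ∨ w = s * t ^ 3 := by decide

theorem q8_noncomm : (a 1 : QuaternionGroup 2) * xa 0 ≠ xa 0 * a 1 := by decide

theorem q8_card_sq : Nat.card {x : QuaternionGroup 2 // x ^ 2 = 1} = 2 := by
  rw [Nat.card_eq_fintype_card]
  decide

theorem q8_a2_sq : (a 2 : QuaternionGroup 2) ^ 2 = 1 := by decide

/-- Structure of a group isomorphic to `Q8` around an element `t` of order 4. -/
theorem quat_struct {Q : Type u} [Group Q] (e : Q ≃* QuaternionGroup 2) (t : Q) (ht : t ^ 2 ≠ 1) :
    ∃ s : Q, t ^ 4 = 1 ∧ t * s * t = s ∧ s ≠ 1 ∧ s ≠ t ∧ s ≠ t ^ 2 ∧ s ≠ t ^ 3 ∧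
    ∀ w : Q, w = 1 ∨ w = t ∨ w = t ^ 2 ∨ w = t ^ 3 ∨ w = s ∨ w = s * t ∨
      w = s * t ^ 2 ∨ w = s * t ^ 3 := by
  have h1 : (e t) ^ 2 ≠ 1 := by
    intro h
    apply ht
    apply e.injective
    rw [map_pow, h, map_one]
  obtain ⟨s, h4, hts, hs1, hs2, hs3, hs4, hall⟩ := q8_struct (e t) h1
  refine ⟨e.symm s, ?_, ?_, ?_, ?_, ?_, ?_, ?_⟩
  · apply e.injective
    rw [map_pow, h4, map_one]
  · apply e.injective
    rw [map_mul, map_mul, MulEquiv.apply_symm_apply, hts]
  · intro h
    apply hs1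
    have := congrArg e h
    rwa [MulEquiv.apply_symm_apply, map_one] at this
  · intro h
    apply hs2
    have := congrArg e h
    rwa [MulEquiv.apply_symm_apply] at this
  · intro h
    apply hs3
    have := congrArg e h
    rwa [MulEquiv.apply_symm_apply, map_pow] at this
  · intro h
    apply hs4
    have := congrArg e h
    rwa [MulEquiv.apply_symm_apply, map_pow] at this
  · intro w
    rcases hall (e w) with h | h | h | h | h | h | h | h
    · left
      apply e.injective
      rw [h, map_one]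
    · right; left
      exact e.injective h
    · right; right; left
      apply e.injective
      rw [h, map_pow]
    · right; right; right; left
      apply e.injective
      rw [h, map_pow]
    · right; right; right; right; left
      apply e.injective
      rw [h, MulEquiv.apply_symm_apply]
    · right; right; right; right; right; left
      apply e.injective
      rw [h, map_mul, MulEquiv.apply_symm_apply]
    · right; right; right; right; right; right; left
      apply e.injective
      rw [h, map_mul, map_pow, MulEquiv.apply_symm_apply]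
    · right; right; right; right; right; right; right
      apply e.injective
      rw [h, map_mul, map_pow, MulEquiv.apply_symm_apply]

/-- A central element of a group isomorphic to `Q8` squares to `1`. -/
theorem quat_center_sq {Q : Type u} [Group Q] (e : Q ≃* QuaternionGroup 2) (c : Q)
    (hc : c ∈ Subgroup.center Q) : c ^ 2 = 1 := by
  rcases quat_center_cases e c hc with h | h
  · rw [h, one_pow]
  · rw [h, ← map_pow, q8_a2_sq, map_one]

/-- **Key lemma.**  `T ≅ Q8` normal and self-centralizing in `X`, `t ∈ T` of order 4, `b` commuting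
with `t`: then `b ∈ T` or `b ^ 4 ≠ 1`. -/
theorem q8_key {X : Type u} [Group X] (T : Subgroup X) (hTn : T.Normal)
    (e : ↥T ≃* QuaternionGroup 2) (hC : Subgroup.centralizer (T : Set X) ≤ T)
    (b t : X) (ht : t ∈ T) (ht2 : t ^ 2 ≠ 1) (hbt : b * t = t * b) : b ∈ T ∨ b ^ 4 ≠ 1 := by
  have ht2' : (⟨t, ht⟩ : ↥T) ^ 2 ≠ 1 := by
    intro h
    apply ht2
    have := congrArg Subtype.val h
    simpa using this
  obtain ⟨s', h4', hts', hs1', hs2', hs3', hs4', hall'⟩ := quat_struct e ⟨t, ht⟩ ht2'
  -- move to `X`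
  have h4 : t ^ 4 = 1 := by
    have := congrArg Subtype.val h4'
    simpa using this
  have hts : t * (s' : X) * t = (s' : X) := by
    have := congrArg Subtype.val hts'
    simpa using this
  have hall : ∀ w ∈ T, w = 1 ∨ w = t ∨ w = t ^ 2 ∨ w = t ^ 3 ∨ w = (s' : X) ∨ w = (s' : X) * t ∨
      w = (s' : X) * t ^ 2 ∨ w = (s' : X) * t ^ 3 := by
    intro w hw
    rcases hall' ⟨w, hw⟩ with h | h | h | h | h | h | h | h <;>
      [left; (right; left); (right; right; left); (right; right; right; left);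
       (right; right; right; right; left); (right; right; right; right; right; left);
       (right; right; right; right; right; right; left);
       (right; right; right; right; right; right; right)] <;>
      · have := congrArg Subtype.val h
        simpa using this
  -- anything commuting with `t` and `s` centralizes `T`
  have hcent : ∀ g : X, Commute g t → Commute g (s' : X) → g ∈ T := by
    intro g hgt hgs
    apply hC
    rw [Subgroup.mem_centralizer_iff]
    intro w hw
    have key : Commute g w := by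
      rcases hall w hw with h | h | h | h | h | h | h | h <;> rw [h]
      · exact Commute.one_right g
      · exact hgt
      · exact hgt.pow_right 2
      · exact hgt.pow_right 3
      · exact hgs
      · exact hgs.mul_right hgt
      · exact hgs.mul_right (hgt.pow_right 2)
      · exact hgs.mul_right (hgt.pow_right 3)
    exact key.symm
  have hcent' : ∀ g : X, Commute g t → Commute g (s' : X) → ∀ w ∈ T, Commute g w := by
    intro g hgt hgs w hw
    rcases hall w hw with h | h | h | h | h | h | h | h <;> rw [h]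
    · exact Commute.one_right g
    · exact hgt
    · exact hgt.pow_right 2
    · exact hgt.pow_right 3
    · exact hgs
    · exact hgs.mul_right hgt
    · exact hgs.mul_right (hgt.pow_right 2)
    · exact hgs.mul_right (hgt.pow_right 3)
  have htinv : t⁻¹ = t ^ 3 := by
    rw [inv_eq_iff_mul_eq_one, ← pow_succ']
    exact h4
  -- `t⁻¹ s t⁻¹ = s`
  have hts2 : t⁻¹ * (s' : X) * t⁻¹ = (s' : X) := by
    calc t⁻¹ * (s' : X) * t⁻¹ = t⁻¹ * (t * (s' : X) * t) * t⁻¹ := by rw [hts]
      _ = (s' : X) := by group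
  -- if `g` commutes with `t` and `g s g⁻¹ = s t²` then `t⁻¹ g` centralizes `T`
  have hcase2 : ∀ g : X, Commute g t → g * (s' : X) * g⁻¹ = (s' : X) * t ^ 2 →
      Commute (t⁻¹ * g) t ∧ Commute (t⁻¹ * g) (s' : X) := by
    intro g hgt hgs
    refine ⟨(Commute.inv_left (Commute.refl t)).mul_left hgt, ?_⟩
    show t⁻¹ * g * (s' : X) = (s' : X) * (t⁻¹ * g)
    have e1 : g * (s' : X) = (s' : X) * t ^ 2 * g := by
      rw [← hgs]; group
    have e2 : t ^ 2 = t⁻¹ * t⁻¹ := by
      rw [htinv, ← pow_add]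
      have : t ^ (3 + 3) = t ^ 4 * t ^ 2 := by rw [← pow_add]
      rw [this, h4, one_mul]
    calc t⁻¹ * g * (s' : X) = t⁻¹ * (g * (s' : X)) := by group
      _ = t⁻¹ * ((s' : X) * t ^ 2 * g) := by rw [e1]
      _ = t⁻¹ * ((s' : X) * (t⁻¹ * t⁻¹) * g) := by rw [e2]
      _ = (t⁻¹ * (s' : X) * t⁻¹) * (t⁻¹ * g) := by group
      _ = (s' : X) * (t⁻¹ * g) := by rw [hts2]
  have hbt' : Commute b t := hbt
  -- `u = b s b⁻¹`
  have hu : b * (s' : X) * b⁻¹ ∈ T := hTn.conj_mem _ s'.2 b
  have hs_of : ∀ m : ℕ, b * (s' : X) * b⁻¹ = t ^ m → (s' : X) = t ^ m := by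
    intro m hm
    have hbm : Commute b (t ^ m) := hbt'.pow_right m
    calc (s' : X) = b⁻¹ * (b * (s' : X) * b⁻¹) * b := by group
      _ = b⁻¹ * (t ^ m) * b := by rw [hm]
      _ = b⁻¹ * (t ^ m * b) := by group
      _ = b⁻¹ * (b * t ^ m) := by rw [hbm.eq]
      _ = t ^ m := by group
  have hs1 : (s' : X) ≠ 1 := by
    intro h; apply hs1'; exact Subtype.ext h
  have hs2 : (s' : X) ≠ t := by
    intro h; apply hs2'; exact Subtype.ext h
  have hs3 : (s' : X) ≠ t ^ 2 := by
    intro h; apply hs3'; apply Subtype.ext; simpa using h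
  have hs4 : (s' : X) ≠ t ^ 3 := by
    intro h; apply hs4'; apply Subtype.ext; simpa using h
  -- the case `b² s b⁻² = s t²`
  have hright : b ^ 2 * (s' : X) * (b ^ 2)⁻¹ = (s' : X) * t ^ 2 → b ^ 4 ≠ 1 := by
    intro hb2
    have hb2t : Commute (b ^ 2) t := hbt'.pow_left 2
    obtain ⟨c1, c2⟩ := hcase2 (b ^ 2) hb2t hb2
    have hgT : t⁻¹ * b ^ 2 ∈ T := hcent _ c1 c2
    have hgc : (⟨t⁻¹ * b ^ 2, hgT⟩ : ↥T) ∈ Subgroup.center ↥T := by
      rw [Subgroup.mem_center_iff]
      intro w
      apply Subtype.ext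
      have := hcent' _ c1 c2 (w : X) w.2
      simp only [Subgroup.coe_mul]
      exact this.eq.symm
    have hg2 : (t⁻¹ * b ^ 2) ^ 2 = 1 := by
      have := congrArg Subtype.val (quat_center_sq e _ hgc)
      simpa using this
    have hgt : Commute (t⁻¹ * b ^ 2) t := c1
    have hb4 : b ^ 4 = t ^ 2 := by
      have e2 : b ^ 4 = b ^ 2 * b ^ 2 := by rw [← pow_add]
      have e1 : b ^ 2 = t * (t⁻¹ * b ^ 2) := by rw [mul_inv_cancel_left]
      generalize t⁻¹ * b ^ 2 = g at hg2 hgt e1
      rw [e2, e1]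
      calc (t * g) * (t * g) = t * (g * t) * g := by simp only [mul_assoc]
        _ = t * (t * g) * g := by rw [hgt.eq]
        _ = t ^ 2 * g ^ 2 := by simp only [pow_two, mul_assoc]
        _ = t ^ 2 := by rw [hg2, mul_one]
    rw [hb4]
    exact ht2
  -- conj by b² when conj by b sends s to s t^k
  have hsq : ∀ k : ℕ, b * (s' : X) * b⁻¹ = (s' : X) * t ^ k →
      b ^ 2 * (s' : X) * (b ^ 2)⁻¹ = (s' : X) * t ^ (2 * k) := by
    intro k hk
    have hbk : Commute b (t ^ k) := hbt'.pow_right k
    calc b ^ 2 * (s' : X) * (b ^ 2)⁻¹ = b * (b * (s' : X) * b⁻¹) * b⁻¹ := by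
          rw [pow_two, mul_inv_rev]; simp only [mul_assoc]
      _ = b * ((s' : X) * t ^ k) * b⁻¹ := by rw [hk]
      _ = (b * (s' : X) * b⁻¹) * (b * t ^ k) * b⁻¹ := by group
      _ = ((s' : X) * t ^ k) * (t ^ k * b) * b⁻¹ := by rw [hk, hbk.eq]
      _ = (s' : X) * (t ^ k * t ^ k) := by group
      _ = (s' : X) * t ^ (2 * k) := by rw [← pow_add, two_mul]
  rcases hall _ hu with h | h | h | h | h | h | h | h
  · exact absurd (by simpa using hs_of 0 (by simpa using h)) hs1
  · exact absurd (by simpa using hs_of 1 (by simpa using h)) hs2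
  · exact absurd (hs_of 2 h) hs3
  · exact absurd (hs_of 3 h) hs4
  · -- b commutes with s
    left
    apply hcent b hbt'
    show b * (s' : X) = (s' : X) * b
    calc b * (s' : X) = (b * (s' : X) * b⁻¹) * b := by group
      _ = (s' : X) * b := by rw [h]
  · right
    apply hright
    have := hsq 1 (by simpa using h)
    simpa using this
  · left
    obtain ⟨c1, c2⟩ := hcase2 b hbt' h
    have hgT : t⁻¹ * b ∈ T := hcent _ c1 c2
    have : b = t * (t⁻¹ * b) := by group
    rw [this]
    exact T.mul_mem ht hgT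
  · right
    apply hright
    have := hsq 3 h
    rw [this]
    have : t ^ (2 * 3) = t ^ 4 * t ^ 2 := by rw [← pow_add]
    rw [this, h4, one_mul]

/-- (a) `|X : T| ∣ 2`. -/
theorem q8_index_dvd_two {X : Type u} [Group X] [Finite X] (hX : IsPGroup 2 X)
    (T : Subgroup X) (hTn : T.Normal) (e : ↥T ≃* QuaternionGroup 2)
    (hC : Subgroup.centralizer (T : Set X) ≤ T) : T.index ∣ 2 := by
  have hdvd : ((T ⊔ Subgroup.centralizer (T : Set X)).subgroupOf
      (Subgroup.normalizer (T : Set X))).index ∣ 6 := by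
    have h1 := Subgroup.index_dvd_of_le (quat_ker_le T e)
    rw [Subgroup.index_ker] at h1
    have h2 : Nat.card ((autQuot ↥T (Subgroup.center ↥T)).comp T.normalizerMonoidHom).range ∣
        Nat.card (MulAut (↥T ⧸ Subgroup.center ↥T)) := Subgroup.card_subgroup_dvd_card _
    have h3 : Nat.card (MulAut (↥T ⧸ Subgroup.center ↥T)) ∣ 6 :=
      card_mulAut_dvd_six (quat_card_quot_center e)
    exact h1.trans (h2.trans h3)
  rw [sup_eq_left.mpr hC] at hdvd
  have hN : Subgroup.normalizer (T : Set X) = ⊤ := Subgroup.normalizer_eq_top T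
  have hdvd' : T.relIndex (Subgroup.normalizer (T : Set X)) ∣ 6 := hdvd
  rw [hN, Subgroup.relIndex_top_right] at hdvd'
  obtain ⟨n, hn⟩ := hX.index T
  rw [hn] at hdvd' ⊢
  rcases n with _ | _ | n
  · norm_num
  · norm_num
  · exfalso
    have h4 : 4 ∣ 6 := by
      refine Dvd.dvd.trans ?_ hdvd'
      rw [pow_succ, pow_succ, mul_assoc]
      exact Dvd.intro_left _ rfl
    omega

/-- **I5.** A 2-group `X` with a normal self-centralizing `T ≅ Q8` has `NA8`. -/
theorem na8_of_q8_selfcentralizing {X : Type u} [Group X] [Finite X] (hX : IsPGroup 2 X)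
    (T : Subgroup X) (hTn : T.Normal) (hT : IsQ8 T)
    (hC : Subgroup.centralizer (T : Set X) ≤ T) : NA8 (⊤ : Subgroup X) := by
  obtain ⟨e⟩ := hT
  rintro ⟨B, -, hBab, hBnc, hB8⟩
  have hT8 : Nat.card ↥T = 8 := quat_card e
  have hidx := q8_index_dvd_two hX T hTn e hC
  have hBcomm : ∀ x ∈ B, ∀ y ∈ B, x * y = y * x := by
    intro x hx y hy
    have := hBab.is_comm.comm (⟨x, hx⟩ : ↥B) ⟨y, hy⟩
    exact congrArg Subtype.val this
  -- `B` is not contained in `T`
  have hBT : ¬ B ≤ T := by
    intro hle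
    have hBeq : B = T := Subgroup.eq_of_le_of_card_ge hle (by rw [hB8, hT8])
    have hi : ((e.symm (a 1) : ↥T) : X) ∈ B := by rw [hBeq]; exact (e.symm (a 1)).2
    have hj : ((e.symm (xa 0) : ↥T) : X) ∈ B := by rw [hBeq]; exact (e.symm (xa 0)).2
    have hcomm := hBcomm _ hi _ hj
    apply q8_noncomm
    have h2 : e.symm (a 1) * e.symm (xa 0) = e.symm (xa 0) * e.symm (a 1) := Subtype.ext hcomm
    have := congrArg e h2
    simpa using this
  obtain ⟨b, hbB, hbT⟩ := SetLike.not_le_iff_exists.mp hBT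
  -- `|B : B ∩ T| = 2`
  have hrel : T.relIndex B = 2 := by
    have h1 : T.relIndex B ∣ T.index := Subgroup.relIndex_dvd_index_of_normal T B
    have h2 : T.relIndex B ≠ 1 := by
      intro h
      exact hBT (Subgroup.relIndex_eq_one.mp h)
    have h3 := h1.trans hidx
    have hle : T.relIndex B ≤ 2 := Nat.le_of_dvd (by norm_num) h3
    have hpos : T.relIndex B ≠ 0 := by
      intro h0
      rw [h0] at h3
      simp at h3
    omega
  have hcard4 : Nat.card ↥(T.subgroupOf B) = 4 := by
    have := Subgroup.card_mul_index (T.subgroupOf B)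
    have hr : (T.subgroupOf B).index = 2 := hrel
    rw [hr, hB8] at this
    omega
  -- an element of order 4 in `B ∩ T`
  have hex : ∃ w : ↥B, (w : X) ∈ T ∧ (w : X) ^ 2 ≠ 1 := by
    by_contra hcon
    push Not at hcon
    have hmem : ∀ w : ↥(T.subgroupOf B), ((w : ↥B) : X) ∈ T := fun w =>
      Subgroup.mem_subgroupOf.mp w.2
    let f : ↥(T.subgroupOf B) → {x : QuaternionGroup 2 // x ^ 2 = 1} := fun w =>
      ⟨e ⟨((w : ↥B) : X), hmem w⟩, by
        rw [← map_pow]
        have h1 : (⟨((w : ↥B) : X), hmem w⟩ : ↥T) ^ 2 = 1 := by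
          apply Subtype.ext
          simp only [Subgroup.coe_pow, Subgroup.coe_one]
          exact hcon (w : ↥B) (hmem w)
        rw [h1, map_one]⟩
    have hf : Function.Injective f := by
      intro w1 w2 h
      have h1 : e ⟨((w1 : ↥B) : X), hmem w1⟩ = e ⟨((w2 : ↥B) : X), hmem w2⟩ :=
        congrArg Subtype.val h
      have h2 := e.injective h1
      have h3 : ((w1 : ↥B) : X) = ((w2 : ↥B) : X) := Subtype.mk.inj h2
      exact Subtype.ext (Subtype.ext h3)
    have := Nat.card_le_card_of_injective f hf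
    rw [hcard4, q8_card_sq] at this
    omega
  obtain ⟨w, hwT, hw2⟩ := hex
  have hbw : b * (w : X) = (w : X) * b := hBcomm b hbB _ w.2
  rcases q8_key T hTn e hC b (w : X) hwT hw2 hbw with h | h
  · exact hbT h
  · -- `b` has order 8, so `B` is cyclic
    apply hBnc
    have hord : orderOf (⟨b, hbB⟩ : ↥B) ∣ 8 := by
      rw [← hB8]
      exact orderOf_dvd_natCard _
    have hnd : ¬ orderOf (⟨b, hbB⟩ : ↥B) ∣ 4 := by
      intro hd
      apply h
      have := orderOf_dvd_iff_pow_eq_one.mp hd
      have := congrArg Subtype.val this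
      simpa using this
    have h8 : orderOf (⟨b, hbB⟩ : ↥B) = 8 := by
      have hle : orderOf (⟨b, hbB⟩ : ↥B) ≤ 8 := Nat.le_of_dvd (by norm_num) hord
      generalize orderOf (⟨b, hbB⟩ : ↥B) = n at *
      interval_cases n <;> simp_all
    exact isCyclic_of_orderOf_eq_card _ (by rw [h8, hB8])

end Cfsg.Agent.Helper70.N9
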