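import Mathlib
import Cfsg.Prelude.Def_HallClasses
import Cfsg.Agent.Lib.Helper33.Syl

set_option autoImplicit false
set_option linter.style.haveILetI false
set_option linter.unusedSectionVars false

/-!
# Pronormality of overgroups of Sylow subgroups: the extension criterion (internal form)
-/

open Pointwise

namespace Cfsg.Agent.Helper70

open Cfsg.Agent.Helper33

variable {G : Type*} [Group G]

/-- `L` is conjugate to `K` by an element of `K ⊔ L`. -/
def CJ (K L : Subgroup G) : Prop := ∃ x ∈ K ⊔ L, L = MulAut.conj x • K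

/-- `K` is pronormal relative to `M`. -/
def PronIn (K M : Subgroup G) : Prop := ∀ g ∈ M, CJ K (MulAut.conj g • K)

theorem isPronormal_iff_cj (K : Subgroup G) :
    Cfsg.IsPronormal K ↔ ∀ g : G, CJ K (MulAut.conj g • K) := Iff.rfl

theorem pronIn_top_iff (K : Subgroup G) : PronIn K ⊤ ↔ Cfsg.IsPronormal K := by
  rw [isPronormal_iff_cj]
  exact ⟨fun h g => h g (Subgroup.mem_top g), fun h g _ => h g⟩

theorem CJ.of_inv_smul {K L : Subgroup G} {y : G} (hy : y ∈ K ⊔ L)
    (h : CJ K (MulAut.conj y⁻¹ • L)) : CJ K L := by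
  obtain ⟨x', hx', hL⟩ := h
  have hle : K ⊔ MulAut.conj y⁻¹ • L ≤ K ⊔ L := by
    refine sup_le le_sup_left ?_
    calc MulAut.conj y⁻¹ • L ≤ MulAut.conj y⁻¹ • (K ⊔ L) := conj_smul_le_conj_smul le_sup_right
      _ = K ⊔ L := conj_smul_eq_self_of_mem (inv_mem hy)
  refine ⟨y * x', mul_mem hy (hle hx'), ?_⟩
  rw [conj_mul_smul, ← hL, conj_smul_inv_smul]

theorem CJ.conj {K L : Subgroup G} (h : CJ K L) (c : G) :
    CJ (MulAut.conj c • K) (MulAut.conj c • L) := by
  obtain ⟨x, hx, hL⟩ := h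
  refine ⟨c * x * c⁻¹, ?_, ?_⟩
  · rw [← Subgroup.smul_sup]
    exact conj_mem_conj_smul hx
  · rw [hL, ← conj_mul_smul, ← conj_mul_smul]
    congr 2
    group

theorem isPronormal_conj {K : Subgroup G} (h : Cfsg.IsPronormal K) (c : G) :
    Cfsg.IsPronormal (MulAut.conj c • K) := by
  rw [isPronormal_iff_cj] at h ⊢
  intro g
  have := (h (c⁻¹ * g * c)).conj c
  rw [← conj_mul_smul] at this
  have e : c * (c⁻¹ * g * c) = g * c := by group
  rw [e, conj_mul_smul] at this
  exact this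

theorem conj_smul_normal (A : Subgroup G) [A.Normal] (g : G) : MulAut.conj g • A = A :=
  smul_eq_of_mem_normalizer (by rw [Subgroup.normalizer_eq_top_iff.mpr inferInstance]; trivial)

/-- Elements of `J ⊔ A`, `A` normal, are products `a * j`. -/
theorem exists_mul_of_mem_sup_normal {A J : Subgroup G} [A.Normal] {x : G} (hx : x ∈ J ⊔ A) :
    ∃ a ∈ A, ∃ j ∈ J, x = a * j := by
  rw [sup_comm] at hx
  have h1 : x ∈ ((A ⊔ J : Subgroup G) : Set G) := hx
  rw [Subgroup.normal_mul] at h1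
  obtain ⟨a, ha, j, hj, rfl⟩ := Set.mem_mul.mp h1
  exact ⟨a, ha, j, hj, rfl⟩

section fin

variable [Finite G] {p : ℕ} [Fact p.Prime]

/-- Frattini argument: if `K` normalizes `B ≤ K` and `T` is Sylow in `B`, then
`K = B (K ∩ N_G(T))`. -/
theorem le_sup_inf_normalizer_of_isSylIn {K B T : Subgroup G} (hBK : B ≤ K)
    (hKB : K ≤ Subgroup.normalizer (B : Set G)) (hT : IsSylIn p T B) :
    K ≤ B ⊔ (K ⊓ Subgroup.normalizer (T : Set G)) := by
  intro k hk
  have h1 : IsSylIn p (MulAut.conj k • T) B := by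
    have := hT.conj k
    rwa [smul_eq_of_mem_normalizer (hKB hk)] at this
  obtain ⟨b, hb, hbT⟩ := hT.exists_conj_eq h1
  have hbk : b * k ∈ K ⊓ Subgroup.normalizer (T : Set G) := by
    refine Subgroup.mem_inf.mpr ⟨mul_mem (hBK hb) hk, ?_⟩
    rw [mem_normalizer_iff_smul_eq, conj_mul_smul]
    exact hbT
  have : k = b⁻¹ * (b * k) := by group
  rw [this]
  exact mul_mem (Subgroup.mem_sup_left (inv_mem hb)) (Subgroup.mem_sup_right hbk)

end fin

theorem pronIn_of_isPronormal {K : Subgroup G} (h : Cfsg.IsPronormal K) (M : Subgroup G) :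
    PronIn K M := fun g _ => h g

/-- If `K` is pronormal and `A` is normal then `N_G(KA) = N_G(K) A`. -/
theorem normalizer_sup_normal_of_isPronormal {A K : Subgroup G} [A.Normal]
    (hK : Cfsg.IsPronormal K) :
    Subgroup.normalizer ((K ⊔ A : Subgroup G) : Set G) = Subgroup.normalizer (K : Set G) ⊔ A := by
  apply le_antisymm
  · intro g hg
    have hgKA : MulAut.conj g • (K ⊔ A) = K ⊔ A := smul_eq_of_mem_normalizer hg
    have hgK : MulAut.conj g • K ≤ K ⊔ A := by
      rw [← hgKA]; exact conj_smul_le_conj_smul le_sup_left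
    obtain ⟨x, hx, hxeq⟩ := (isPronormal_iff_cj K).mp hK g
    have hx' : x ∈ K ⊔ A := (sup_le le_sup_left hgK) hx
    obtain ⟨a, ha, k, hk, rfl⟩ := exists_mul_of_mem_sup_normal hx'
    rw [conj_mul_smul, conj_smul_eq_self_of_mem hk] at hxeq
    have hn : a⁻¹ * g ∈ Subgroup.normalizer (K : Set G) := by
      rw [mem_normalizer_iff_smul_eq, conj_mul_smul, hxeq, conj_inv_smul_smul]
    have : g = a * (a⁻¹ * g) := by group
    rw [this]
    exact mul_mem (Subgroup.mem_sup_right ha) (Subgroup.mem_sup_left hn)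
  · refine sup_le ?_ (le_sup_right.trans Subgroup.le_normalizer)
    intro n hn
    rw [mem_normalizer_iff_smul_eq, Subgroup.smul_sup, smul_eq_of_mem_normalizer hn,
      conj_smul_normal]

section fin2

variable [Finite G] {p : ℕ} [Fact p.Prime]

theorem exists_sylow_coe_eq_of_isSylIn {S N : Subgroup G} (hS : IsSylIn p S N)
    (S₀ : Sylow p G) (h₀ : (S₀ : Subgroup G) ≤ N) : ∃ S' : Sylow p G, (S' : Subgroup G) = S := by
  have h1 : IsSylIn p (S₀ : Subgroup G) N := (isSylIn_top S₀).of_le h₀ le_top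
  obtain ⟨x, -, hx⟩ := hS.exists_conj_eq h1
  exact ⟨x • S₀, by rw [Sylow.coe_subgroup_smul]; exact hx⟩

/-- A Sylow `p`-subgroup of `G` meeting the normal subgroup `A` in the given Sylow subgroup `T`
of `A`; it normalizes `T`. -/
theorem exists_sylow_inf_eq {A T : Subgroup G} [A.Normal] (hT : IsSylIn p T A) :
    ∃ S₀ : Sylow p G, (S₀ : Subgroup G) ⊓ A = T ∧
      (S₀ : Subgroup G) ≤ Subgroup.normalizer (T : Set G) := by
  obtain ⟨S₀, hTS₀⟩ := hT.isPGroup.exists_le_sylow
  have h1 : (S₀ : Subgroup G) ⊓ A = T :=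
    hT.eq_of_le (S₀.isPGroup'.to_le inf_le_left) inf_le_right (le_inf hTS₀ hT.le)
  refine ⟨S₀, h1, ?_⟩
  intro s hs
  rw [mem_normalizer_iff_smul_eq, ← h1, conj_smul_inf, conj_smul_eq_self_of_mem hs,
    conj_smul_normal]

/-- The core of the extension criterion, for overgroups of the chosen Sylow subgroup. -/
theorem isPronormal_of_extension_core (A : Subgroup G) [A.Normal]
    (hA : ∀ K : Subgroup G, K ≤ A → (∃ T', IsSylIn p T' A ∧ T' ≤ K) → PronIn K A)
    (hQ : ∀ K : Subgroup G, A ≤ K → (∃ S : Sylow p G, (S : Subgroup G) ≤ K) →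
      Cfsg.IsPronormal K)
    (T : Subgroup G) (hT : IsSylIn p T A)
    (h1 : ∀ K : Subgroup G, T ≤ K → K ≤ Subgroup.normalizer (T : Set G) →
      (∃ S, IsSylIn p S (Subgroup.normalizer (T : Set G)) ∧ S ≤ K) →
      PronIn K (Subgroup.normalizer (T : Set G)))
    (h2 : ∀ K : Subgroup G, (∃ S : Sylow p G, (S : Subgroup G) ≤ K) →
      Subgroup.normalizer ((K ⊔ A : Subgroup G) : Set G) =
        Subgroup.normalizer (K : Set G) ⊔ A)
    (S₀ : Sylow p G) (hS₀A : (S₀ : Subgroup G) ⊓ A = T)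
    (hS₀N : (S₀ : Subgroup G) ≤ Subgroup.normalizer (T : Set G))
    (K : Subgroup G) (hS₀K : (S₀ : Subgroup G) ≤ K) : Cfsg.IsPronormal K := by
  obtain ⟨B, hB⟩ : ∃ B : Subgroup G, B = K ⊓ A := ⟨_, rfl⟩
  have hBK : B ≤ K := hB ▸ inf_le_left
  have hBA : B ≤ A := hB ▸ inf_le_right
  have hTS₀ : T ≤ (S₀ : Subgroup G) := hS₀A ▸ inf_le_left
  have hTB : T ≤ B := hB ▸ le_inf (hTS₀.trans hS₀K) hT.le
  have hTB' : IsSylIn p T B := hT.of_le hTB hBA
  have hKB : K ≤ Subgroup.normalizer (B : Set G) := by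
    intro k hk
    rw [mem_normalizer_iff_smul_eq, hB, conj_smul_inf, conj_smul_eq_self_of_mem hk,
      conj_smul_normal]
  obtain ⟨K₀, hK₀⟩ : ∃ K₀ : Subgroup G, K₀ = K ⊓ Subgroup.normalizer (T : Set G) := ⟨_, rfl⟩
  have hK₀K : K₀ ≤ K := hK₀ ▸ inf_le_left
  have hK₀N : K₀ ≤ Subgroup.normalizer (T : Set G) := hK₀ ▸ inf_le_right
  have hKdec : K = B ⊔ K₀ := by
    apply le_antisymm
    · rw [hK₀]; exact le_sup_inf_normalizer_of_isSylIn hBK hKB hTB'
    · exact sup_le hBK hK₀K
  -- Step 3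
  have step3 : ∀ a ∈ A, MulAut.conj a • B = B → a ∈ Subgroup.normalizer (T : Set G) →
      CJ K (MulAut.conj a • K) := by
    intro a _ haB haN
    have hK₀pro : PronIn K₀ (Subgroup.normalizer (T : Set G)) := by
      apply h1 K₀ (hK₀ ▸ le_inf (hTS₀.trans hS₀K) Subgroup.le_normalizer) hK₀N
      exact ⟨S₀, (isSylIn_top S₀).of_le hS₀N le_top, hK₀ ▸ le_inf hS₀K hS₀N⟩
    obtain ⟨c, hc, hceq⟩ := hK₀pro a haN
    have hcNB : c ∈ Subgroup.normalizer (B : Set G) := by
      have : K₀ ⊔ MulAut.conj a • K₀ ≤ Subgroup.normalizer (B : Set G) := by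
        refine sup_le (hK₀K.trans hKB) ?_
        calc MulAut.conj a • K₀ ≤ MulAut.conj a • Subgroup.normalizer (B : Set G) :=
            conj_smul_le_conj_smul (hK₀K.trans hKB)
          _ = Subgroup.normalizer ((MulAut.conj a • B : Subgroup G) : Set G) :=
            (normalizer_conj_smul a B).symm
          _ = Subgroup.normalizer (B : Set G) := by rw [haB]
      exact this hc
    refine ⟨c, ?_, ?_⟩
    · have : K₀ ⊔ MulAut.conj a • K₀ ≤ K ⊔ MulAut.conj a • K :=
        sup_le_sup hK₀K (conj_smul_le_conj_smul hK₀K)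
      exact this hc
    · calc MulAut.conj a • K = MulAut.conj a • (B ⊔ K₀) := by rw [← hKdec]
        _ = MulAut.conj a • B ⊔ MulAut.conj a • K₀ := Subgroup.smul_sup _ _ _
        _ = MulAut.conj c • B ⊔ MulAut.conj c • K₀ := by
          rw [haB, hceq, smul_eq_of_mem_normalizer hcNB]
        _ = MulAut.conj c • (B ⊔ K₀) := (Subgroup.smul_sup _ _ _).symm
        _ = MulAut.conj c • K := by rw [← hKdec]
  -- Step 2b
  have step2b : ∀ a ∈ A, MulAut.conj a • B = B → CJ K (MulAut.conj a • K) := by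
    intro a ha haB
    have h3 : IsSylIn p (MulAut.conj a • T) B := by
      have := hTB'.conj a
      rwa [haB] at this
    obtain ⟨b', hb', hb'T⟩ := hTB'.exists_conj_eq h3
    have hb'aK : MulAut.conj (b' * a) • K = MulAut.conj a • K := by
      rw [conj_mul_smul]
      apply conj_smul_eq_self_of_mem
      have : B ≤ MulAut.conj a • K := by
        rw [← haB]; exact conj_smul_le_conj_smul hBK
      exact this hb'
    rw [← hb'aK]
    apply step3 (b' * a) (mul_mem (hBA hb') ha)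
    · rw [conj_mul_smul, haB, conj_smul_eq_self_of_mem hb']
    · rw [mem_normalizer_iff_smul_eq, conj_mul_smul]
      exact hb'T
  -- Step 2
  have step2 : ∀ a ∈ A, CJ K (MulAut.conj a • K) := by
    intro a ha
    have hBpro : PronIn B A := hA B hBA ⟨T, hT, hTB⟩
    obtain ⟨b, hb, hbeq⟩ := hBpro a ha
    have haBA : MulAut.conj a • B ≤ A := by
      calc MulAut.conj a • B ≤ MulAut.conj a • A := conj_smul_le_conj_smul hBA
        _ = A := conj_smul_normal A a
    have hbA : b ∈ A := (sup_le hBA haBA) hb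
    have hbJ : b ∈ K ⊔ MulAut.conj a • K :=
      (sup_le_sup hBK (conj_smul_le_conj_smul hBK)) hb
    apply CJ.of_inv_smul hbJ
    rw [← conj_mul_smul]
    apply step2b (b⁻¹ * a) (mul_mem (inv_mem hbA) ha)
    rw [conj_mul_smul, hbeq, conj_inv_smul_smul]
  -- Step 1
  rw [isPronormal_iff_cj]
  intro g
  have hKA : Cfsg.IsPronormal (K ⊔ A) :=
    hQ (K ⊔ A) le_sup_right ⟨S₀, hS₀K.trans le_sup_left⟩
  obtain ⟨y₀, hy₀, hy₀eq⟩ := (isPronormal_iff_cj _).mp hKA g
  have hgKA : MulAut.conj g • (K ⊔ A) = MulAut.conj g • K ⊔ A := by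
    rw [Subgroup.smul_sup, conj_smul_normal A g]
  have hsup : (K ⊔ A) ⊔ MulAut.conj g • (K ⊔ A) = (K ⊔ MulAut.conj g • K) ⊔ A := by
    rw [hgKA, sup_sup_sup_comm, sup_idem]
  rw [hsup] at hy₀
  obtain ⟨a, ha, y, hy, rfl⟩ := exists_mul_of_mem_sup_normal hy₀
  have hyKA : MulAut.conj (a * y) • (K ⊔ A) = MulAut.conj y • (K ⊔ A) := by
    rw [conj_mul_smul]
    apply conj_smul_eq_self_of_mem
    rw [Subgroup.smul_sup, conj_smul_normal A y]
    exact Subgroup.mem_sup_right ha
  rw [hyKA] at hy₀eq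
  have hyg : y⁻¹ * g ∈ Subgroup.normalizer ((K ⊔ A : Subgroup G) : Set G) := by
    rw [mem_normalizer_iff_smul_eq, conj_mul_smul, hy₀eq, conj_inv_smul_smul]
  rw [h2 K ⟨S₀, hS₀K⟩] at hyg
  obtain ⟨a', ha', n, hn, hyg'⟩ := exists_mul_of_mem_sup_normal hyg
  apply CJ.of_inv_smul hy
  rw [← conj_mul_smul, hyg', conj_mul_smul, smul_eq_of_mem_normalizer hn]
  exact step2 a' ha'

/-- **Extension criterion** (internal form, `⇐`). -/
theorem isPronormal_of_extension (A : Subgroup G) [A.Normal]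
    (hA : ∀ K : Subgroup G, K ≤ A → (∃ T', IsSylIn p T' A ∧ T' ≤ K) → PronIn K A)
    (hQ : ∀ K : Subgroup G, A ≤ K → (∃ S : Sylow p G, (S : Subgroup G) ≤ K) →
      Cfsg.IsPronormal K)
    (T : Subgroup G) (hT : IsSylIn p T A)
    (h1 : ∀ K : Subgroup G, T ≤ K → K ≤ Subgroup.normalizer (T : Set G) →
      (∃ S, IsSylIn p S (Subgroup.normalizer (T : Set G)) ∧ S ≤ K) →
      PronIn K (Subgroup.normalizer (T : Set G)))
    (h2 : ∀ K : Subgroup G, (∃ S : Sylow p G, (S : Subgroup G) ≤ K) →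
      Subgroup.normalizer ((K ⊔ A : Subgroup G) : Set G) =
        Subgroup.normalizer (K : Set G) ⊔ A)
    (K : Subgroup G) (hK : ∃ S : Sylow p G, (S : Subgroup G) ≤ K) : Cfsg.IsPronormal K := by
  obtain ⟨S₀, hS₀A, hS₀N⟩ := exists_sylow_inf_eq hT
  obtain ⟨S, hSK⟩ := hK
  obtain ⟨c, hc⟩ := MulAction.exists_smul_eq G S₀ S
  have hS₀K' : (S₀ : Subgroup G) ≤ MulAut.conj c⁻¹ • K := by
    rw [← conj_smul_le_iff_le_inv, ← Sylow.coe_subgroup_smul, hc]
    exact hSK
  have := isPronormal_of_extension_core A hA hQ T hT h1 h2 S₀ hS₀A hS₀N _ hS₀K'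
  have h3 := isPronormal_conj this c
  rwa [conj_smul_inv_smul] at h3

/-- **Extension criterion** (internal form, `⇒`, part (i)). -/
theorem pronIn_normalizer_of_forall_isPronormal (A : Subgroup G) [A.Normal]
    (T : Subgroup G) (hT : IsSylIn p T A)
    (h : ∀ K : Subgroup G, (∃ S : Sylow p G, (S : Subgroup G) ≤ K) → Cfsg.IsPronormal K)
    (K : Subgroup G)
    (hK : ∃ S, IsSylIn p S (Subgroup.normalizer (T : Set G)) ∧ S ≤ K) :
    PronIn K (Subgroup.normalizer (T : Set G)) := by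
  obtain ⟨S₀, -, hS₀N⟩ := exists_sylow_inf_eq hT
  obtain ⟨S, hS, hSK⟩ := hK
  obtain ⟨S', hS'⟩ := exists_sylow_coe_eq_of_isSylIn hS S₀ hS₀N
  exact pronIn_of_isPronormal (h K ⟨S', hS' ▸ hSK⟩) _

end fin2

section translate

variable {Q : Type*} [Group Q]

theorem map_conj_smul (f : G →* Q) (g : G) (K : Subgroup G) :
    (MulAut.conj g • K).map f = MulAut.conj (f g) • (K.map f) := by
  change (K.map (MulAut.conj g).toMonoidHom).map f = (K.map f).map (MulAut.conj (f g)).toMonoidHom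
  rw [Subgroup.map_map, Subgroup.map_map]
  congr 1
  ext x
  simp [MulAut.conj_apply]

/-- Pronormality pulls back along a hom whose kernel is contained in the subgroup. -/
theorem isPronormal_of_map (f : G →* Q) {K : Subgroup G} (hker : f.ker ≤ K)
    (h : Cfsg.IsPronormal (K.map f)) : Cfsg.IsPronormal K := by
  rw [isPronormal_iff_cj] at h ⊢
  intro g
  obtain ⟨x', hx', hxeq⟩ := h (f g)
  rw [← map_conj_smul, ← Subgroup.map_sup] at hx'
  obtain ⟨x, hx, rfl⟩ := hx'
  refine ⟨x, hx, ?_⟩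
  rw [← map_conj_smul, ← map_conj_smul, Subgroup.map_eq_map_iff] at hxeq
  have hk : ∀ y : G, f.ker ≤ MulAut.conj y • K := by
    intro y
    calc f.ker = MulAut.conj y • f.ker := (conj_smul_normal f.ker y).symm
      _ ≤ MulAut.conj y • K := conj_smul_le_conj_smul hker
  rwa [sup_eq_left.mpr (hk g), sup_eq_left.mpr (hk x)] at hxeq

/-- Pronormality pushes forward along a surjective hom. -/
theorem isPronormal_map (f : G →* Q) (hf : Function.Surjective f) {K : Subgroup G}
    (h : Cfsg.IsPronormal K) : Cfsg.IsPronormal (K.map f) := by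
  rw [isPronormal_iff_cj] at h ⊢
  intro g'
  obtain ⟨g, rfl⟩ := hf g'
  obtain ⟨x, hx, hxeq⟩ := h g
  refine ⟨f x, ?_, ?_⟩
  · rw [← map_conj_smul, ← Subgroup.map_sup]
    exact Subgroup.mem_map_of_mem f hx
  · rw [← map_conj_smul, ← map_conj_smul, hxeq]

theorem map_subtype_conj_smul (M : Subgroup G) (m : M) (K' : Subgroup M) :
    (MulAut.conj m • K').map M.subtype = MulAut.conj (m : G) • (K'.map M.subtype) :=
  map_conj_smul M.subtype m K'

/-- Pronormality in the group `↥M` versus relative pronormality in `G`. -/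
theorem isPronormal_subtype_iff (M : Subgroup G) (K' : Subgroup M) :
    Cfsg.IsPronormal K' ↔ PronIn (K'.map M.subtype) M := by
  rw [isPronormal_iff_cj]
  constructor
  · intro h g hg
    obtain ⟨x', hx', hxeq⟩ := h ⟨g, hg⟩
    refine ⟨(x' : G), ?_, ?_⟩
    · have h1 : (x' : G) ∈ (K' ⊔ MulAut.conj (⟨g, hg⟩ : M) • K').map M.subtype :=
        Subgroup.mem_map_of_mem M.subtype hx'
      rwa [Subgroup.map_sup, map_subtype_conj_smul] at h1
    · have h2 := congrArg (Subgroup.map M.subtype) hxeq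
      rwa [map_subtype_conj_smul, map_subtype_conj_smul] at h2
  · intro h g'
    obtain ⟨x, hx, hxeq⟩ := h (g' : G) g'.2
    rw [← map_subtype_conj_smul, ← Subgroup.map_sup] at hx
    obtain ⟨x', hx', rfl⟩ := hx
    refine ⟨x', hx', ?_⟩
    apply Subgroup.map_injective M.subtype_injective
    rw [map_subtype_conj_smul, map_subtype_conj_smul]
    exact hxeq

variable [Finite G] {p : ℕ} [Fact p.Prime]

theorem exists_sylow_le_comap (f : G →* Q) (hf : Function.Surjective f) {K' : Subgroup Q}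
    (h : ∃ P' : Sylow p Q, (P' : Subgroup Q) ≤ K') :
    ∃ P : Sylow p G, (P : Subgroup G) ≤ K'.comap f := by
  obtain ⟨P', hP'⟩ := h
  obtain ⟨P, rfl⟩ := Sylow.mapSurjective_surjective hf p P'
  refine ⟨P, ?_⟩
  rw [← Subgroup.map_le_iff_le_comap, ← Sylow.coe_mapSurjective hf]
  exact hP'

theorem exists_sylow_le_map (f : G →* Q) (hf : Function.Surjective f) {K : Subgroup G}
    (h : ∃ P : Sylow p G, (P : Subgroup G) ≤ K) :
    ∃ P' : Sylow p Q, (P' : Subgroup Q) ≤ K.map f := by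
  obtain ⟨P, hP⟩ := h
  refine ⟨P.mapSurjective hf, ?_⟩
  rw [Sylow.coe_mapSurjective]
  exact Subgroup.map_mono hP

end translate

section bridge

variable [Finite G] {p : ℕ} [Fact p.Prime]

/-- "Overgroups of Sylow subgroups of `↥A` are pronormal in `↥A`", internal form. -/
theorem pronIn_of_forall_subtype (A : Subgroup G)
    (hA : ∀ K : Subgroup ↥A, (∃ P : Sylow p ↥A, (P : Subgroup ↥A) ≤ K) → Cfsg.IsPronormal K)
    (K : Subgroup G) (hKA : K ≤ A) (hK : ∃ T', IsSylIn p T' A ∧ T' ≤ K) : PronIn K A := by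
  obtain ⟨T', hT', hT'K⟩ := hK
  have h1 : Cfsg.IsPronormal (K.subgroupOf A) :=
    hA _ ⟨hT'.toSylow, by rw [hT'.coe_toSylow]; exact Subgroup.comap_mono hT'K⟩
  have h2 := (isPronormal_subtype_iff A _).mp h1
  rwa [Subgroup.map_subgroupOf_eq_of_le hKA] at h2

/-- "Overgroups of Sylow subgroups of `G ⧸ A` are pronormal", internal form. -/
theorem isPronormal_of_forall_quotient (A : Subgroup G) [A.Normal]
    (hQ : ∀ K : Subgroup (G ⧸ A), (∃ P : Sylow p (G ⧸ A), (P : Subgroup (G ⧸ A)) ≤ K) →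
      Cfsg.IsPronormal K)
    (K : Subgroup G) (hAK : A ≤ K) (hK : ∃ S : Sylow p G, (S : Subgroup G) ≤ K) :
    Cfsg.IsPronormal K := by
  apply isPronormal_of_map (QuotientGroup.mk' A) (by rw [QuotientGroup.ker_mk']; exact hAK)
  exact hQ _ (exists_sylow_le_map _ (QuotientGroup.mk'_surjective A) hK)

/-- The condition on `M / T` (for `T` normal in `M ≤ G`), internal form. -/
theorem forall_quotient_subgroupOf_iff (M T : Subgroup G) (hTM : T ≤ M)
    [(T.subgroupOf M).Normal] :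
    (∀ K : Subgroup (↥M ⧸ T.subgroupOf M),
      (∃ P : Sylow p (↥M ⧸ T.subgroupOf M), (P : Subgroup (↥M ⧸ T.subgroupOf M)) ≤ K) →
        Cfsg.IsPronormal K) ↔
    (∀ K : Subgroup G, T ≤ K → K ≤ M → (∃ S, IsSylIn p S M ∧ S ≤ K) → PronIn K M) := by
  have hsurj := QuotientGroup.mk'_surjective (T.subgroupOf M)
  constructor
  · intro h K hTK hKM hK
    obtain ⟨S, hS, hSK⟩ := hK
    have h1 : ∃ P : Sylow p ↥M, (P : Subgroup ↥M) ≤ K.subgroupOf M :=
      ⟨hS.toSylow, by rw [hS.coe_toSylow]; exact Subgroup.comap_mono hSK⟩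
    have h2 := h _ (exists_sylow_le_map (QuotientGroup.mk' (T.subgroupOf M)) hsurj h1)
    have h3 : Cfsg.IsPronormal (K.subgroupOf M) := by
      apply isPronormal_of_map (QuotientGroup.mk' (T.subgroupOf M)) _ h2
      rw [QuotientGroup.ker_mk']
      exact Subgroup.comap_mono hTK
    have h4 := (isPronormal_subtype_iff M _).mp h3
    rwa [Subgroup.map_subgroupOf_eq_of_le hKM] at h4
  · intro h K' hK'
    obtain ⟨P', hP'⟩ := exists_sylow_le_comap (QuotientGroup.mk' (T.subgroupOf M)) hsurj hK'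
    have hker : T.subgroupOf M ≤ K'.comap (QuotientGroup.mk' (T.subgroupOf M)) :=
      calc T.subgroupOf M = (QuotientGroup.mk' (T.subgroupOf M)).ker :=
            (QuotientGroup.ker_mk' _).symm
        _ ≤ _ := MonoidHom.ker_le_comap _ _
    have h1 : PronIn ((K'.comap (QuotientGroup.mk' (T.subgroupOf M))).map M.subtype) M := by
      apply h
      · calc T = (T.subgroupOf M).map M.subtype :=
              (Subgroup.map_subgroupOf_eq_of_le hTM).symm
          _ ≤ _ := Subgroup.map_mono hker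
      · exact Subgroup.map_subtype_le _
      · exact ⟨_, isSylIn_of_sylow M P', Subgroup.map_mono hP'⟩
    have h2 := (isPronormal_subtype_iff M _).mpr h1
    have h3 := isPronormal_map (QuotientGroup.mk' (T.subgroupOf M)) hsurj h2
    rwa [Subgroup.map_comap_eq_self_of_surjective hsurj] at h3

/-- The normalizer condition (ii), internal form. -/
theorem map_normalizer_eq_iff (A : Subgroup G) [A.Normal] (K : Subgroup G) :
    (Subgroup.normalizer (K : Set G)).map (QuotientGroup.mk' A) =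
      Subgroup.normalizer ((K.map (QuotientGroup.mk' A) : Subgroup (G ⧸ A)) : Set (G ⧸ A)) ↔
    Subgroup.normalizer ((K ⊔ A : Subgroup G) : Set G) = Subgroup.normalizer (K : Set G) ⊔ A := by
  have hsurj := QuotientGroup.mk'_surjective A
  have e1 : ((Subgroup.normalizer (K : Set G)).map (QuotientGroup.mk' A)).comap
      (QuotientGroup.mk' A) = Subgroup.normalizer (K : Set G) ⊔ A := by
    rw [Subgroup.comap_map_eq, QuotientGroup.ker_mk']
  have e2 : (Subgroup.normalizer ((K.map (QuotientGroup.mk' A) : Subgroup (G ⧸ A)) :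
      Set (G ⧸ A))).comap (QuotientGroup.mk' A) =
      Subgroup.normalizer ((K ⊔ A : Subgroup G) : Set G) := by
    rw [Subgroup.comap_normalizer_eq_of_surjective _ hsurj, Subgroup.comap_map_eq,
      QuotientGroup.ker_mk']
  constructor
  · intro h
    rw [← e1, ← e2, h]
  · intro h
    apply Subgroup.comap_injective hsurj
    rw [e1, e2, h]

end bridge

end Cfsg.Agent.Helper70
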