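import Mathlib
import Cfsg.Agent.Lib.Helper93.RU0
import Cfsg.Agent.Lib.Helper35.RJ0

/-!
# RJ project (S2279), piece CR (helper70): conjugates of regular unipotents are regular unipotent.
-/

set_option autoImplicit false

namespace Cfsg.Agent.Helper70.RJ

open Matrix Cfsg.Agent.Helper93.RU Cfsg.Agent.Helper35.RJ

variable {F : Type*} [Field F] {m : ℕ}

/-- (CR) `(g u g⁻¹).1 - 1 = g.1 (u.1 - 1) g⁻¹.1`, powers conjugate; `g.1 * g⁻¹.1 = 1`. -/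
theorem conj_regular (u g : SLm m F) (h : IsNilpotent (u.1 - 1) ∧ (u.1 - 1) ^ (m + 2) ≠ 0) :
    IsNilpotent ((g * u * g⁻¹).1 - 1) ∧ ((g * u * g⁻¹).1 - 1) ^ (m + 2) ≠ 0 := by
  have hgi : g.1 * (g⁻¹ : SLm m F).1 = 1 := by
    have h1 : (g * g⁻¹ : SLm m F).1 = 1 := by rw [mul_inv_cancel]; rfl
    exact h1
  have hig : (g⁻¹ : SLm m F).1 * g.1 = 1 := by
    have h1 : (g⁻¹ * g : SLm m F).1 = 1 := by rw [inv_mul_cancel]; rfl
    exact h1
  have hval : (g * u * g⁻¹ : SLm m F).1 - 1 = g.1 * (u.1 - 1) * (g⁻¹ : SLm m F).1 := by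
    have h1 : (g * u * g⁻¹ : SLm m F).1 = g.1 * u.1 * (g⁻¹ : SLm m F).1 := rfl
    rw [h1, Matrix.mul_sub, Matrix.sub_mul, Matrix.mul_one, hgi]
  have hpow : ∀ k : ℕ, (g.1 * (u.1 - 1) * (g⁻¹ : SLm m F).1) ^ k =
      g.1 * (u.1 - 1) ^ k * (g⁻¹ : SLm m F).1 := by
    intro k
    induction k with
    | zero => rw [pow_zero, pow_zero, Matrix.mul_one, hgi]
    | succ k ih =>
      rw [pow_succ, ih, pow_succ]
      calc g.1 * (u.1 - 1) ^ k * (g⁻¹ : SLm m F).1 * (g.1 * (u.1 - 1) * (g⁻¹ : SLm m F).1)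
          = g.1 * (u.1 - 1) ^ k * ((g⁻¹ : SLm m F).1 * g.1) * (u.1 - 1) * (g⁻¹ : SLm m F).1 := by
            simp only [Matrix.mul_assoc]
        _ = g.1 * ((u.1 - 1) ^ k * (u.1 - 1)) * (g⁻¹ : SLm m F).1 := by
            rw [hig, Matrix.mul_one]
            simp only [Matrix.mul_assoc]
  rw [hval]
  constructor
  · obtain ⟨k, hk⟩ := h.1
    exact ⟨k, by rw [hpow, hk, Matrix.mul_zero, Matrix.zero_mul]⟩
  · intro h0
    rw [hpow] at h0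
    apply h.2
    have h1 : (g⁻¹ : SLm m F).1 * (g.1 * (u.1 - 1) ^ (m + 2) * (g⁻¹ : SLm m F).1) * g.1 = 0 := by
      rw [h0, Matrix.mul_zero, Matrix.zero_mul]
    have h2 : (g⁻¹ : SLm m F).1 * (g.1 * (u.1 - 1) ^ (m + 2) * (g⁻¹ : SLm m F).1) * g.1 =
        ((g⁻¹ : SLm m F).1 * g.1) * (u.1 - 1) ^ (m + 2) * ((g⁻¹ : SLm m F).1 * g.1) := by
      simp only [Matrix.mul_assoc]
    rw [h2, hig, Matrix.one_mul, Matrix.mul_one] at h1
    exact h1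

end Cfsg.Agent.Helper70.RJ
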