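import Mathlib

/-!
# RJ project (S2279), piece F4 (helper70): the Lucas step
`p ∤ C(p^a n' - 1 + p^a, p^a n' - 1)` for `p ∤ n'`, `n' ≥ 2`.
-/

set_option autoImplicit false

namespace Cfsg.Agent.Helper70.RJ

/-- `p A - 1 + p B = (p - 1) + p (A - 1 + B)` and `p A - 1 = (p - 1) + p (A - 1)` for `A, p ≥ 1`. -/
theorem h70_luc_arith (p A B : ℕ) (hp : 1 ≤ p) (hA : 1 ≤ A) :
    p * A - 1 + p * B = (p - 1) + p * (A - 1 + B) ∧ p * A - 1 = (p - 1) + p * (A - 1) := by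
  obtain ⟨p', rfl⟩ : ∃ p', p = p' + 1 := ⟨p - 1, by omega⟩
  obtain ⟨A', rfl⟩ : ∃ A', A = A' + 1 := ⟨A - 1, by omega⟩
  have e : (p' + 1) * (A' + 1) = (p' * A' + p' + A') + 1 := by ring
  rw [e, Nat.add_sub_cancel, Nat.add_sub_cancel, Nat.add_sub_cancel]
  constructor <;> ring

/-- (F4) Lucas. -/
theorem luc (p : ℕ) (hp : p.Prime) (a n' : ℕ) (hn' : 2 ≤ n') (hpn : ¬ p ∣ n') :
    ¬ p ∣ Nat.choose (p ^ a * n' - 1 + p ^ a) (p ^ a * n' - 1) := by
  haveI : Fact p.Prime := ⟨hp⟩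
  induction a with
  | zero =>
    rw [pow_zero, one_mul]
    have e : n' - 1 + 1 = n' := by omega
    rw [e]
    have e2 : Nat.choose n' (n' - 1) = n' := by
      obtain ⟨k, rfl⟩ : ∃ k, n' = k + 1 := ⟨n' - 1, by omega⟩
      rw [Nat.add_sub_cancel, Nat.choose_succ_self_right]
    rw [e2]
    exact hpn
  | succ a ih =>
    have hA : 1 ≤ p ^ a * n' := Nat.mul_pos (Nat.pos_of_ne_zero (pow_ne_zero _ hp.ne_zero)) (by omega)
    obtain ⟨e1, e2⟩ := h70_luc_arith p (p ^ a * n') (p ^ a) hp.pos hA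
    have f1 : p ^ (a + 1) * n' = p * (p ^ a * n') := by ring
    have f2 : p ^ (a + 1) = p * p ^ a := by ring
    have hlt : p - 1 < p := Nat.sub_lt hp.pos one_pos
    have hluc := Choose.choose_modEq_choose_mod_mul_choose_div_nat
      (n := p ^ (a + 1) * n' - 1 + p ^ (a + 1)) (k := p ^ (a + 1) * n' - 1) (p := p)
    have hNmod : (p ^ (a + 1) * n' - 1 + p ^ (a + 1)) % p = p - 1 := by
      rw [f1, f2, e1, Nat.add_mul_mod_self_left, Nat.mod_eq_of_lt hlt]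
    have hNdiv : (p ^ (a + 1) * n' - 1 + p ^ (a + 1)) / p = p ^ a * n' - 1 + p ^ a := by
      rw [f1, f2, e1, Nat.add_mul_div_left _ _ hp.pos, Nat.div_eq_of_lt hlt, zero_add]
    have hKmod : (p ^ (a + 1) * n' - 1) % p = p - 1 := by
      rw [f1, e2, Nat.add_mul_mod_self_left, Nat.mod_eq_of_lt hlt]
    have hKdiv : (p ^ (a + 1) * n' - 1) / p = p ^ a * n' - 1 := by
      rw [f1, e2, Nat.add_mul_div_left _ _ hp.pos, Nat.div_eq_of_lt hlt, zero_add]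
    rw [hNmod, hNdiv, hKmod, hKdiv, Nat.choose_self, one_mul] at hluc
    intro hdvd
    apply ih
    exact (Nat.modEq_zero_iff_dvd.mp ((hluc.symm.trans (Nat.modEq_zero_iff_dvd.mpr hdvd))))

end Cfsg.Agent.Helper70.RJ
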