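import Mathlib

/-!
# RJ project (S2279), piece F5 core (helper70): `λ ∈ Mult`, with F2 (closure of `Mult`),
F3 (`mult_path`) and F4 (`luc`) as hypotheses.  Pure algebra over a finite field.
-/

set_option autoImplicit false

namespace Cfsg.Agent.Helper70.RJ

variable {F : Type*} [Field F] {m : ℕ}

/-- the multiplier set (verbatim copy of the definition in the sigs file of helper35) -/
def Mult (m : ℕ) (L : ℕ → AddSubgroup F) : Set F :=
  {r | ∀ d, d ≤ m + 1 → ∀ x ∈ L d, r * x ∈ L d}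

theorem h70_pow_le (P n' m : ℕ) (hP : 1 ≤ P) (hn2 : 2 ≤ n') (hm : 1 ≤ m) (h : m + 3 = P * n')
    (h2 : P = 2 → 3 ≤ n') : P ≤ m := by
  rcases Nat.lt_or_ge P 3 with h3 | h3
  · interval_cases P
    · exact hm
    · have := h2 rfl
      omega
  · nlinarith

theorem h70_lam_core [Fintype F] (hm : 1 ≤ m) (lam : F) (hlam : lam ≠ 0) (L : ℕ → AddSubgroup F)
    (h1 : lam ^ 3 ∈ L 2) (h2 : ∀ d, d ≤ m → ∀ x ∈ L d, lam * x ∈ L (d + 1))
    (hcl : (1 : F) ∈ Mult m L ∧ (∀ r s, r ∈ Mult m L → s ∈ Mult m L → r + s ∈ Mult m L) ∧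
      (∀ r s, r ∈ Mult m L → s ∈ Mult m L → r * s ∈ Mult m L) ∧
      (∀ r, r ∈ Mult m L → -r ∈ Mult m L) ∧ (∀ k : ℕ, (k : F) ∈ Mult m L) ∧
      (∀ r, r ∈ Mult m L → r⁻¹ ∈ Mult m L))
    (hpath : ∀ t, t ≤ m → ∀ y₀ ∈ L (m + 1),
      (Nat.choose (m + 2 + t) (m + 2) : F) * lam ^ (t + 1) * y₀ ∈ Mult m L)
    (hluc : ∀ p : ℕ, p.Prime → ∀ a n' : ℕ, 2 ≤ n' → ¬ p ∣ n' →
      ¬ p ∣ Nat.choose (p ^ a * n' - 1 + p ^ a) (p ^ a * n' - 1)) :
    lam ∈ Mult m L := by
  classical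
  obtain ⟨h1M, -, hmul, -, hnat, hinv⟩ := hcl
  have hpow : ∀ r, r ∈ Mult m L → ∀ k : ℕ, r ^ k ∈ Mult m L := by
    intro r hr k
    induction k with
    | zero => rw [pow_zero]; exact h1M
    | succ k ih => rw [pow_succ]; exact hmul _ _ ih hr
  have hF1 : ∀ d, 2 ≤ d → d ≤ m + 1 → lam ^ (d + 1) ∈ L d := by
    intro d hd2
    induction d, hd2 using Nat.le_induction with
    | base => intro _; exact h1
    | succ d hd ih =>
      intro hd'
      have h := h2 d (by omega) _ (ih (by omega))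
      rwa [← pow_succ'] at h
  have hy0 : lam ^ (m + 2) ∈ L (m + 1) := hF1 (m + 1) (by omega) le_rfl
  have hn : lam ^ (m + 3) ∈ Mult m L := by
    have h := hpath 0 (Nat.zero_le _) _ hy0
    rw [add_zero, Nat.choose_self, Nat.cast_one, one_mul, zero_add, pow_one, ← pow_succ'] at h
    exact h
  obtain ⟨p, hp⟩ : ∃ p, CharP F p := ⟨ringChar F, ringChar.charP F⟩
  haveI := hp
  obtain ⟨f, hpprime, hcard⟩ := FiniteField.card F p
  obtain ⟨a, n', hpn, hn'⟩ :=
    Nat.exists_eq_pow_mul_and_not_dvd (n := m + 3) (by omega) p hpprime.ne_one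
  have hPpos : 1 ≤ p ^ a := Nat.one_le_pow _ _ hpprime.pos
  have hkey : lam ^ (p ^ a) ∈ Mult m L := by
    by_cases hn1 : n' = 1
    · rw [hn1, mul_one] at hn'
      rw [← hn']
      exact hn
    · have hn0 : n' ≠ 0 := by
        rintro rfl
        rw [mul_zero] at hn'
        omega
      have hn2 : 2 ≤ n' := by omega
      have ht : p ^ a ≤ m := by
        apply h70_pow_le (p ^ a) n' m hPpos hn2 hm hn'
        intro hP2
        have ha0 : a ≠ 0 := by
          rintro rfl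
          rw [pow_zero] at hP2
          omega
        have hp2 : p ∣ 2 := by
          rw [← hP2]
          exact dvd_pow_self p ha0
        have hpe : p = 2 := (Nat.prime_dvd_prime_iff_eq hpprime Nat.prime_two).mp hp2
        rw [hpe] at hpn
        omega
      have hC : ¬ p ∣ Nat.choose (m + 2 + p ^ a) (m + 2) := by
        have h := hluc p hpprime a n' hn2 hpn
        have e : p ^ a * n' - 1 = m + 2 := by omega
        rwa [e] at h
      have hCF : ((Nat.choose (m + 2 + p ^ a) (m + 2) : ℕ) : F) ≠ 0 := by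
        rw [Ne, CharP.cast_eq_zero_iff F p]
        exact hC
      have hpathT := hpath (p ^ a) ht _ hy0
      have h4 : lam ^ (p ^ a + 1) * lam ^ (m + 2) ∈ Mult m L := by
        have h := hmul _ _ (hinv _ (hnat (Nat.choose (m + 2 + p ^ a) (m + 2)))) hpathT
        rwa [mul_assoc ((Nat.choose (m + 2 + p ^ a) (m + 2) : ℕ) : F), inv_mul_cancel_left₀ hCF] at h
      have hne : lam ^ (m + 3) ≠ 0 := pow_ne_zero _ hlam
      have h5 : lam ^ (p ^ a) = lam ^ (p ^ a + 1) * lam ^ (m + 2) * (lam ^ (m + 3))⁻¹ := by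
        rw [eq_mul_inv_iff_mul_eq₀ hne]
        ring
      rw [h5]
      exact hmul _ _ h4 (hinv _ hn)
  obtain ⟨g, hg⟩ : ∃ g : ℕ, (f : ℕ) = g + 1 := ⟨(f : ℕ) - 1, by have := f.pos; omega⟩
  have h6 := hpow _ hkey (p ^ (a * g))
  rw [← pow_mul, ← pow_add] at h6
  have h7 := FiniteField.pow_card_pow a lam
  rw [hcard, hg, ← pow_mul] at h7
  have e : a + a * g = (g + 1) * a := by ring
  rw [e, h7] at h6
  exact h6

end Cfsg.Agent.Helper70.RJ
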