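import Mathlib
import Cfsg.Agent.Lib.Helper93.RU0
import Cfsg.Agent.Lib.Helper35.RJ0
import Cfsg.Agent.Lib.Helper70.RJF5Core
import Cfsg.Agent.Lib.Helper70.RJF4
import Cfsg.Agent.Lib.Helper4.RJF3

/-!
# RJ project (S2279), piece F5 (helper70): `λ ∈ Mult`.
Wrapper of `h70_lam_core` (RJF5Core) with F2 (proved here), F3 (Helper4.RJF3) and F4 (RJF4).
`Mult` is the verbatim copy of the definition in the sigs file (in `RJF5Core`).
-/

set_option autoImplicit false

namespace Cfsg.Agent.Helper70.RJ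

open Matrix Cfsg.Agent.Helper93.RU Cfsg.Agent.Helper35.RJ

variable {F : Type*} [Field F] {m : ℕ}

/-- (F2) `Mult` is closed under `1, +, *, -`, natural numbers and inverses. -/
theorem h70_Mult_closed [Fintype F] (L : ℕ → AddSubgroup F) :
    (1 : F) ∈ Mult m L ∧ (∀ r s, r ∈ Mult m L → s ∈ Mult m L → r + s ∈ Mult m L) ∧
    (∀ r s, r ∈ Mult m L → s ∈ Mult m L → r * s ∈ Mult m L) ∧
    (∀ r, r ∈ Mult m L → -r ∈ Mult m L) ∧ (∀ k : ℕ, (k : F) ∈ Mult m L) ∧
    (∀ r, r ∈ Mult m L → r⁻¹ ∈ Mult m L) := by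
  have h1 : (1 : F) ∈ Mult m L := by
    intro d _ x hx
    rw [one_mul]; exact hx
  have hmul : ∀ r s, r ∈ Mult m L → s ∈ Mult m L → r * s ∈ Mult m L := by
    intro r s hr hs d hd x hx
    rw [mul_assoc]
    exact hr d hd _ (hs d hd x hx)
  refine ⟨h1, ?_, hmul, ?_, ?_, ?_⟩
  · intro r s hr hs d hd x hx
    rw [add_mul]
    exact (L d).add_mem (hr d hd x hx) (hs d hd x hx)
  · intro r hr d hd x hx
    rw [neg_mul]
    exact (L d).neg_mem (hr d hd x hx)
  · intro k d _ x hx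
    rw [← nsmul_eq_mul]
    exact (L d).nsmul_mem hx k
  · intro r hr
    by_cases h0 : r = 0
    · rw [h0, _root_.inv_zero]
      intro d _ x _
      rw [zero_mul]
      exact (L d).zero_mem
    · have hpow : ∀ k : ℕ, r ^ k ∈ Mult m L := by
        intro k
        induction k with
        | zero => rw [pow_zero]; exact h1
        | succ k ih => rw [pow_succ]; exact hmul _ _ ih hr
      have hq : 2 ≤ Fintype.card F := Fintype.one_lt_card
      have h2 : r ^ (Fintype.card F - 1) = 1 := FiniteField.pow_card_sub_one_eq_one r h0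
      have h3 : r⁻¹ = r ^ (Fintype.card F - 2) := by
        rw [inv_eq_iff_eq_inv, eq_comm, inv_eq_of_mul_eq_one_left]
        rw [← pow_succ']
        have e : Fintype.card F - 2 + 1 = Fintype.card F - 1 := by omega
        rw [e, h2]
      rw [h3]
      exact hpow _

/-- (F5) LONG POLE. -/
theorem lam_mem_Mult [Fintype F] (hm : 1 ≤ m) (lam : F) (hlam : lam ≠ 0) (L : ℕ → AddSubgroup F)
    (h1 : lam ^ 3 ∈ L 2) (h2 : ∀ d, d ≤ m → ∀ x ∈ L d, lam * x ∈ L (d + 1))
    (h3 : ∀ d d' r, d ≤ m + 1 → d' ≤ m + 1 → m + 2 ≤ r → r ≤ d + d' → ∀ x ∈ L d, ∀ y ∈ L d',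
      (Nat.choose r (m + 2) : F) * x * y ∈ L (d + d' - r)) :
    lam ∈ Mult m L :=
  h70_lam_core hm lam hlam L h1 h2 (h70_Mult_closed L)
    (fun t ht y₀ hy₀ => Cfsg.Agent.Helper4.RJ.mult_path lam L h2 h3 t ht y₀ hy₀)
    (fun p hp a n' hn' hpn => luc p hp a n' hn' hpn)

end Cfsg.Agent.Helper70.RJ
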