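import Mathlib
import Cfsg.Agent.Lib.Helper93.RU0
import Cfsg.Agent.Lib.Helper35.RJ0
import Cfsg.Agent.Lib.Helper79.RUB1
import Cfsg.Agent.Lib.Helper12.RUD1
import Cfsg.Agent.Lib.Helper44.RUD2

/-!
# RJ project (S2279), piece W3 (helper70): from `e_last ∈ Wset H` to all `e_k ∈ Wset H`
(`J e_{k+1} = e_{k+1} + e_k`).
-/

set_option autoImplicit false

namespace Cfsg.Agent.Helper70.RJ

open Matrix Cfsg.Agent.Helper93.RU Cfsg.Agent.Helper35.RJ

variable {F : Type*} [Field F] {m : ℕ}

theorem h70_N_mulVec (k k' : Fin (m + 3)) (hk : k.val + 1 = k'.val) :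
    Nmat m F *ᵥ (eV k' : Fin (m + 3) → F) = eV k := by
  funext i
  simp only [Matrix.mulVec, dotProduct, Nmat, Matrix.of_apply, eV]
  rw [Finset.sum_eq_single k']
  · rw [Pi.single_eq_same, mul_one, Pi.single_apply]
    by_cases h : i = k
    · subst h
      rw [if_pos hk, if_pos rfl]
    · have h' : ¬ (i.val + 1 = k'.val) := fun h' => h (Fin.ext (by omega))
      rw [if_neg h', if_neg h]
  · intro j _ hj
    rw [Pi.single_eq_of_ne hj, mul_zero]
  · intro h
    exact absurd (Finset.mem_univ k') h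

/-- (W3) downward induction. -/
theorem all_mem_W (H : Subgroup (SLm m F)) (hu : uEl m F ∈ H) (h : eV (lastI m) ∈ Wset H)
    (k : Fin (m + 3)) : eV k ∈ Wset H := by
  have key : ∀ d : ℕ, ∀ k : Fin (m + 3), k.val + d = m + 2 → (eV k : Fin (m + 3) → F) ∈ Wset H := by
    intro d
    induction d with
    | zero =>
      intro k hk
      have : k = lastI m := Fin.ext (by simp [lastI]; omega)
      rw [this]
      exact h
    | succ d ih =>
      intro k hk
      obtain ⟨k', hk'⟩ : ∃ k' : Fin (m + 3), k.val + 1 = k'.val := ⟨⟨k.val + 1, by omega⟩, rfl⟩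
      have h1 : (eV k' : Fin (m + 3) → F) ∈ Wset H := ih k' (by omega)
      have h2 : (uEl m F).1 *ᵥ (eV k' : Fin (m + 3) → F) ∈ Wset H :=
        Cfsg.Agent.Helper44.RU.W_conj H (uEl m F) hu _ h1
      rw [Cfsg.Agent.Helper79.RU.uEl_val, Matrix.add_mulVec, Matrix.one_mulVec,
        h70_N_mulVec k k' hk'] at h2
      have h3 : ((-1 : F) • (eV k' : Fin (m + 3) → F)) ∈ Wset H :=
        Cfsg.Agent.Helper44.RU.W_smul H (-1) _ h1
      have h4 := Cfsg.Agent.Helper12.RU.W_add H _ _ h2 h3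
      have e : (eV k' : Fin (m + 3) → F) + eV k + (-1 : F) • eV k' = eV k := by
        rw [neg_one_smul]; abel
      rw [e] at h4
      exact h4
  exact key (m + 2 - k.val) k (by have := k.isLt; omega)

end Cfsg.Agent.Helper70.RJ
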