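import Mathlib
import Cfsg.Agent.Lib.Helper31.SCHDefs

set_option autoImplicit false

/-!
SCH server (helper31, S4394), piece (P11): the endgame for `p = 2`.
-/

namespace Cfsg.Agent.Helper70.SCH
open Cfsg Cfsg.Agent.Helper31.SCH

section P
variable {P : Type*} [Group P] [Finite P] {p : ℕ} [Fact p.Prime]

/-- (P11) -/
theorem endgame_two (α : MulAut P) (hα3 : α ^ 3 = 1)
    (hfix : ∀ x : P, α x = x ↔ x ∈ Subgroup.center P)
    (hnf : ∀ x : P, x ∉ Subgroup.center P → x⁻¹ * α x ∉ Subgroup.center P)
    (hna : ∃ a b : P, a * b ≠ b * a)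
    (hidx : (Subgroup.center P).index = 4) (H : Subgroup P) (hZH : Subgroup.center P ≤ H)
    (hHidx : H.index = 2) (hHexp : ∀ x ∈ H, x ^ 2 = 1) : False := by
  classical
  have hα3' : ∀ x, α (α (α x)) = x := by
    intro x
    have h := DFunLike.congr_fun hα3 x
    rw [pow_succ, pow_succ, pow_one, MulAut.mul_apply, MulAut.mul_apply, MulAut.one_apply] at h
    exact h
  have hαZ : ∀ x, x ∉ Subgroup.center P → α x ∉ Subgroup.center P := by
    intro x hx hαx
    apply hx
    have h1 : α (α x) = α x := (hfix _).mpr hαx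
    have h2 : α x = x := α.injective h1
    exact (hfix x).mp h2
  obtain ⟨a, haH, haZ⟩ : ∃ a ∈ H, a ∉ Subgroup.center P := by
    by_contra hcon
    push Not at hcon
    have hHZ : H = Subgroup.center P := le_antisymm hcon hZH
    rw [hHZ, hidx] at hHidx
    omega
  have key : ∀ x, x ∉ Subgroup.center P → x ^ 2 = 1 := by
    intro x hx
    haveI : Fintype (P ⧸ Subgroup.center P) := Fintype.ofFinite _
    have hcardQ : Fintype.card (P ⧸ Subgroup.center P) = 4 := by
      rw [← Nat.card_eq_fintype_card]
      exact hidx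
    have h0 : (QuotientGroup.mk x : P ⧸ Subgroup.center P) ≠ 1 :=
      fun h => hx ((QuotientGroup.eq_one_iff x).mp h)
    have h1 : (QuotientGroup.mk (α x) : P ⧸ Subgroup.center P) ≠ 1 :=
      fun h => hαZ x hx ((QuotientGroup.eq_one_iff _).mp h)
    have h2 : (QuotientGroup.mk (α (α x)) : P ⧸ Subgroup.center P) ≠ 1 :=
      fun h => hαZ _ (hαZ x hx) ((QuotientGroup.eq_one_iff _).mp h)
    have h01 : (QuotientGroup.mk x : P ⧸ Subgroup.center P) ≠ QuotientGroup.mk (α x) :=
      fun h => hnf x hx (QuotientGroup.eq.mp h)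
    have h12 : (QuotientGroup.mk (α x) : P ⧸ Subgroup.center P) ≠ QuotientGroup.mk (α (α x)) :=
      fun h => hnf (α x) (hαZ x hx) (QuotientGroup.eq.mp h)
    have h20 : (QuotientGroup.mk (α (α x)) : P ⧸ Subgroup.center P) ≠ QuotientGroup.mk x := by
      intro h
      have h3 := hnf (α (α x)) (hαZ _ (hαZ x hx))
      rw [hα3'] at h3
      exact h3 (QuotientGroup.eq.mp h)
    have hS : ({1, QuotientGroup.mk x, QuotientGroup.mk (α x), QuotientGroup.mk (α (α x))} :
        Finset (P ⧸ Subgroup.center P)) = Finset.univ := by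
      apply Finset.eq_univ_of_card
      rw [hcardQ, Finset.card_insert_of_notMem, Finset.card_insert_of_notMem,
        Finset.card_insert_of_notMem, Finset.card_singleton]
      · rw [Finset.mem_singleton]
        exact h12
      · rw [Finset.mem_insert, Finset.mem_singleton]
        rintro (h | h)
        · exact h01 h
        · exact h20 h.symm
      · rw [Finset.mem_insert, Finset.mem_insert, Finset.mem_singleton]
        rintro (h | h | h)
        · exact h0 h.symm
        · exact h1 h.symm
        · exact h2 h.symm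
    have ha : (QuotientGroup.mk a : P ⧸ Subgroup.center P) ∈
        ({1, QuotientGroup.mk x, QuotientGroup.mk (α x), QuotientGroup.mk (α (α x))} :
          Finset (P ⧸ Subgroup.center P)) := by
      rw [hS]
      exact Finset.mem_univ _
    rw [Finset.mem_insert, Finset.mem_insert, Finset.mem_insert, Finset.mem_singleton] at ha
    have hstep : ∀ y : P, (QuotientGroup.mk a : P ⧸ Subgroup.center P) = QuotientGroup.mk y →
        y ^ 2 = 1 := by
      intro y hy
      have h3 : a⁻¹ * y ∈ Subgroup.center P := QuotientGroup.eq.mp hy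
      have h4 : y ∈ H := by
        have h5 : y = a * (a⁻¹ * y) := by group
        rw [h5]
        exact H.mul_mem haH (hZH h3)
      exact hHexp y h4
    rcases ha with ha | ha | ha | ha
    · exact absurd ((QuotientGroup.eq_one_iff a).mp ha) haZ
    · exact hstep x ha
    · have h6 := hstep (α x) ha
      rw [← map_pow] at h6
      exact (map_eq_one_iff α α.injective).mp h6
    · have h6 := hstep (α (α x)) ha
      rw [← map_pow, ← map_pow] at h6
      exact (map_eq_one_iff α α.injective).mp ((map_eq_one_iff α α.injective).mp h6)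
  have hexp : ∀ x : P, x ^ 2 = 1 := by
    intro x
    by_cases hx : x ∈ Subgroup.center P
    · exact hHexp x (hZH hx)
    · exact key x hx
  obtain ⟨u, v, huv⟩ := hna
  apply huv
  have h1 := hexp (u * v)
  have h2 := hexp u
  have h3 := hexp v
  calc u * v = u * (u * v) ^ 2 * v := by rw [h1, mul_one]
    _ = u ^ 2 * v * u * v ^ 2 := by simp only [pow_two, mul_assoc]
    _ = v * u := by rw [h2, h3, one_mul, mul_one]

end P

end Cfsg.Agent.Helper70.SCH
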