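import Mathlib
import Cfsg.Agent.Lib.Helper62.SLN0
import Cfsg.Agent.Lib.Helper70.SLN_ORBCore

/-!
# SLN project (S2332), piece G13 (helper70): torus commutator.
The construction does not use `|κ| = 3`: `X = (1 + (α-1) e_j e_jᵀ)(1 + (α⁻¹-1) e_k ψᵀ)` with
`t̃ k ≠ 0`, `ψ = t̃ / t̃ k`.
-/

set_option autoImplicit false

namespace Cfsg.Agent.Helper70.SLN

open Matrix Module Cfsg.Agent.Helper93.U2 Cfsg.Agent.Helper62.SLN

section GRP

variable {F : Type*} [Field F] {κ : Type} [Fintype κ] [DecidableEq κ]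

theorem h70_exists_alpha [Fintype F] (hq : 4 ≤ Fintype.card F) : ∃ α : F, α ≠ 0 ∧ α * α ≠ 1 := by
  classical
  by_contra hcon
  push Not at hcon
  have hsub : (Finset.univ : Finset F) ⊆ {0, 1, -1} := by
    intro a _
    by_cases ha : a = 0
    · simp [ha]
    · have h1 := hcon a ha
      have h2 : (a - 1) * (a + 1) = 0 := by
        rw [show (a - 1) * (a + 1) = a * a - 1 by ring, h1, sub_self]
      rcases mul_eq_zero.mp h2 with h3 | h3
      · have : a = 1 := sub_eq_zero.mp h3
        simp [this]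
      · have : a = -1 := eq_neg_of_add_eq_zero_left h3
        simp [this]
  have h1 := Finset.card_le_card hsub
  rw [Finset.card_univ] at h1
  have h2 := Finset.card_le_three (a := (0 : F)) (b := 1) (c := -1)
  omega

theorem tvEl_comm_fix_vec_three [Fintype F] (hκ : Fintype.card κ = 3) (hq : 4 ≤ Fintype.card F)
    (j : κ) (w t : κ → F) (hwj : w j = 0) (hw : w ≠ 0) (ht : t ⬝ᵥ w = 0) :
    ∃ X Y : SpecialLinearGroup κ F, X.1 *ᵥ w = w ∧ Y.1 *ᵥ w = w ∧ tvEl j t = X * Y * X⁻¹ * Y⁻¹ := by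
  classical
  obtain ⟨tt, htt⟩ : ∃ tt : κ → F, tt = Function.update t j 0 := ⟨_, rfl⟩
  have htj : tt j = 0 := by rw [htt]; exact Function.update_self _ _ _
  have httw : tt ⬝ᵥ w = 0 := by
    rw [← ht]
    simp only [dotProduct]
    apply Finset.sum_congr rfl
    intro i _
    by_cases hi : i = j
    · subst hi
      rw [hwj, mul_zero, mul_zero]
    · rw [htt, Function.update_of_ne hi]
  by_cases h0 : tt = 0
  · refine ⟨1, 1, by simp, by simp, ?_⟩
    have : tvEl j t = 1 := by
      apply Subtype.ext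
      rw [tvEl_val, ← htt, h0]
      simp
    rw [this]
    group
  · obtain ⟨k, hk⟩ : ∃ k, tt k ≠ 0 := by
      by_contra h
      push Not at h
      exact h0 (funext h)
    have hkj : k ≠ j := fun h => hk (h ▸ htj)
    obtain ⟨α, hα0, hα1⟩ := h70_exists_alpha (F := F) hq
    obtain ⟨ψ, hψ⟩ : ∃ ψ : κ → F, ψ = (tt k)⁻¹ • tt := ⟨_, rfl⟩
    have hψk : ψ k = 1 := by rw [hψ, Pi.smul_apply, smul_eq_mul, inv_mul_cancel₀ hk]
    have hψj : ψ j = 0 := by rw [hψ, Pi.smul_apply, htj, smul_zero]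
    have hψw : ψ ⬝ᵥ w = 0 := by rw [hψ, smul_dotProduct, httw, smul_zero]
    obtain ⟨E, hE⟩ : ∃ E : Matrix κ κ F, E = vecMulVec (Pi.single j 1) tt := ⟨_, rfl⟩
    obtain ⟨D1, hD1⟩ : ∃ D1 : Matrix κ κ F,
        D1 = 1 + vecMulVec ((α - 1) • Pi.single j 1) (Pi.single j 1) := ⟨_, rfl⟩
    obtain ⟨D2, hD2⟩ : ∃ D2 : Matrix κ κ F,
        D2 = 1 + vecMulVec ((α⁻¹ - 1) • Pi.single k 1) ψ := ⟨_, rfl⟩
    have hdet1 : D1.det = α := by
      rw [hD1, vecMulVec_eq Unit, det_one_add_replicateCol_mul_replicateRow]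
      simp
    have hdet2 : D2.det = α⁻¹ := by
      rw [hD2, vecMulVec_eq Unit, det_one_add_replicateCol_mul_replicateRow]
      simp [hψk]
    have hdet : (D1 * D2).det = 1 := by
      rw [det_mul, hdet1, hdet2, mul_inv_cancel₀ hα0]
    -- action on w
    have hD2w : D2 *ᵥ w = w := by
      rw [hD2, Matrix.add_mulVec, Matrix.one_mulVec, vecMulVec_mulVec, hψw]
      simp
    have hD1w : D1 *ᵥ w = w := by
      rw [hD1, Matrix.add_mulVec, Matrix.one_mulVec, vecMulVec_mulVec, single_dotProduct, hwj]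
      simp
    -- products with E
    have hEE : E * E = 0 := by
      rw [hE, vecMulVec_mul_vecMulVec, dotProduct_single, htj]
      simp
    have hD2E : D2 * E = E := by
      rw [hD2, hE, Matrix.add_mul, Matrix.one_mul, vecMulVec_mul_vecMulVec, dotProduct_single, hψj]
      simp
    have hD1E : D1 * E = α • E := by
      rw [hD1, hE, Matrix.add_mul, Matrix.one_mul, vecMulVec_mul_vecMulVec, single_dotProduct,
        Pi.single_eq_same, one_mul, one_smul, smul_vecMulVec]
      rw [show α • vecMulVec (Pi.single j 1) tt =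
        (1 : F) • vecMulVec (Pi.single j (1 : F)) tt + (α - 1) • vecMulVec (Pi.single j 1) tt by
          rw [← add_smul]; congr 1; ring]
      rw [one_smul]
    have hED1 : E * D1 = E := by
      rw [hD1, hE, Matrix.mul_add, Matrix.mul_one, vecMulVec_mul_vecMulVec, dotProduct_smul,
        dotProduct_single, htj]
      simp
    have hED2 : E * D2 = α⁻¹ • E := by
      rw [hD2, hE, Matrix.mul_add, Matrix.mul_one, vecMulVec_mul_vecMulVec, dotProduct_smul,
        dotProduct_single, mul_one, hψ, smul_smul, smul_eq_mul, mul_assoc, mul_inv_cancel₀ hk,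
        mul_one, vecMulVec_smul]
      rw [show α⁻¹ • vecMulVec (Pi.single j 1) tt =
        (1 : F) • vecMulVec (Pi.single j (1 : F)) tt + (α⁻¹ - 1) • vecMulVec (Pi.single j 1) tt by
          rw [← add_smul]; congr 1; ring]
      rw [one_smul]
    have hXE : (D1 * D2) * E = α • E := by rw [Matrix.mul_assoc, hD2E, hD1E]
    have hEX : E * (D1 * D2) = α⁻¹ • E := by rw [← Matrix.mul_assoc, hED1, hED2]
    -- the scalar
    have hne : α * α - 1 ≠ 0 := sub_ne_zero.mpr hα1
    obtain ⟨c, hc⟩ : ∃ c : F, c = (α * α - 1)⁻¹ := ⟨_, rfl⟩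
    have hcs : (1 + c) * α⁻¹ = c * α := by
      have h1 : c * (α * α - 1) = 1 := by rw [hc]; exact inv_mul_cancel₀ hne
      have h2 : 1 + c = c * α * α := by linear_combination (-1 : F) * h1
      rw [h2, mul_assoc (c * α), mul_inv_cancel₀ hα0, mul_one]
    have hYval : (tvEl j (c • t) : Matrix κ κ F) = 1 + c • E := by
      rw [tvEl_val, hE, ← vecMulVec_smul]
      congr 2
      ext i
      by_cases hi : i = j
      · subst hi
        simp [htj]
      · rw [Function.update_of_ne hi, Pi.smul_apply, Pi.smul_apply, htt, Function.update_of_ne hi]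
    have hTval : (tvEl j t : Matrix κ κ F) = 1 + E := by rw [tvEl_val, hE, htt]
    obtain ⟨X, hX⟩ : ∃ X : SpecialLinearGroup κ F, (X : Matrix κ κ F) = D1 * D2 :=
      ⟨⟨D1 * D2, hdet⟩, rfl⟩
    refine ⟨X, tvEl j (c • t), ?_, ?_, ?_⟩
    · show (X : Matrix κ κ F) *ᵥ w = w
      rw [hX, ← Matrix.mulVec_mulVec, hD2w, hD1w]
    · rw [h70_tvEl_mulVec j (c • t) w hwj, smul_dotProduct, ht, smul_zero, zero_smul, add_zero]
    · have hmain : tvEl j t * tvEl j (c • t) * X = X * tvEl j (c • t) := by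
        apply Subtype.ext
        show (tvEl j t : Matrix κ κ F) * (tvEl j (c • t) : Matrix κ κ F) * (X : Matrix κ κ F) =
          (X : Matrix κ κ F) * (tvEl j (c • t) : Matrix κ κ F)
        rw [hYval, hTval, hX]
        have e1 : (1 + E) * (1 + c • E) = 1 + (1 + c) • E := by
          rw [Matrix.add_mul, Matrix.one_mul, Matrix.mul_add, Matrix.mul_one, Matrix.mul_smul, hEE,
            smul_zero, add_zero, add_smul, one_smul]
          abel
        rw [e1, Matrix.add_mul, Matrix.one_mul, Matrix.smul_mul, hEX, Matrix.mul_add, Matrix.mul_one,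
          Matrix.mul_smul, hXE, smul_smul, smul_smul, hcs]
      calc tvEl j t = tvEl j t * tvEl j (c • t) * X * X⁻¹ * (tvEl j (c • t))⁻¹ := by group
        _ = _ := by rw [hmain]

end GRP

end Cfsg.Agent.Helper70.SLN
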