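import Mathlib
import Cfsg.Agent.Lib.Helper98.UT0
import Cfsg.Agent.Lib.Helper42.UTD1
import Cfsg.Agent.Lib.Helper70.UTD3

/-! UT server (helper98, S2283), piece (D3c): coordinate matrix of the diagonal element (helper70), from
helper42's (D1). -/

set_option autoImplicit false
set_option quotPrecheck false
set_option linter.unusedSectionVars false
set_option linter.unusedVariables false

namespace Cfsg.Agent.Helper70.UT

open Matrix Cfsg Cfsg.Agent.Helper13 Cfsg.Agent.Helper87.PsuA Cfsg.Agent.Helper87.PsuB0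
  Cfsg.Agent.Helper98.UT

variable {F : Type*} [Field F] [Fintype F] {q : ℕ}

local notation "G" => ↥(Cfsg.SU 3 F q)
local notation "H" => Cfsg.hermForm 3 F q

variable (hF : Fintype.card F = q ^ 2) {b : Fin 3 → Fin 3 → F}

/-- (D3c) matrix of the diagonal element (from (D1)). -/
theorem cm_dEl (hb : HB q b) (d0 d1 d2 : F) (h02 : d0 * d2 ^ q = 1) (h11 : d1 * d1 ^ q = 1)
    (hdet : d0 * d1 * d2 = 1) :
    cm b (dEl hF b d0 d1 d2) = !![d0, 0, 0; 0, d1, 0; 0, 0, d2] :=
  h70_cm_dEl_core hF hb d0 d1 d2 (Cfsg.Agent.Helper42.UT.dEl_act hF hb d0 d1 d2 h02 h11 hdet)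

end Cfsg.Agent.Helper70.UT
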