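import Mathlib
import Cfsg.Agent.Lib.Helper98.WR0

set_option autoImplicit false

/-!
WR server (helper98, S2347), piece W15: the representation on an invariant subspace, in coordinates.
-/

namespace Cfsg.Agent.Helper70.WR

open Matrix Cfsg.Agent.Helper98.SPE Cfsg.Agent.Helper98.WR

universe u v

section GEN

/-- piece W15 -/
theorem exists_rep_of_invariant {G : Type u} [Group G] {V : Type v} [AddCommGroup V] [Module ℂ V]
    [FiniteDimensional ℂ V] (ρ : Representation ℂ G V) (U : Submodule ℂ V)
    (hU : ∀ g : G, ∀ f ∈ U, ρ g f ∈ U) (d : ℕ) (hd : Module.finrank ℂ ↥U = d) :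
    ∃ ρ' : Representation ℂ G (Fin d → ℂ), ∀ g : G, ρ' g = 1 ↔ ∀ f ∈ U, ρ g f = f := by
  classical
  have hfr : Module.finrank ℂ ↥U = Module.finrank ℂ (Fin d → ℂ) := by
    rw [hd, Module.finrank_fin_fun]
  let e : ↥U ≃ₗ[ℂ] (Fin d → ℂ) := LinearEquiv.ofFinrankEq _ _ hfr
  let σ : G → Module.End ℂ ↥U := fun g => (ρ g).restrict (hU g)
  have hσapp : ∀ g (x : ↥U), ((σ g x : ↥U) : V) = ρ g (x : V) := fun g x => rfl
  have hσ1 : σ 1 = 1 := by
    apply LinearMap.ext
    intro x
    apply Subtype.ext
    rw [hσapp, map_one]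
    rfl
  have hσmul : ∀ g h, σ (g * h) = σ g * σ h := by
    intro g h
    apply LinearMap.ext
    intro x
    apply Subtype.ext
    rw [hσapp, map_mul]
    rfl
  have hconj1 : e.conj (1 : Module.End ℂ ↥U) = 1 := by
    apply LinearMap.ext
    intro x
    simp [LinearEquiv.conj_apply]
  have hconjmul : ∀ A B : Module.End ℂ ↥U, e.conj (A * B) = e.conj A * e.conj B := by
    intro A B
    apply LinearMap.ext
    intro x
    simp [LinearEquiv.conj_apply]
  let ρ' : Representation ℂ G (Fin d → ℂ) :=
    { toFun := fun g => e.conj (σ g)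
      map_one' := by rw [hσ1, hconj1]
      map_mul' := fun g h => by rw [hσmul, hconjmul] }
  have hρ' : ∀ g, ρ' g = e.conj (σ g) := fun g => rfl
  refine ⟨ρ', fun g => ?_⟩
  rw [hρ']
  constructor
  · intro h f hf
    have h1 : σ g = 1 := by
      apply e.conj.injective
      rw [h, hconj1]
    have h2 : ((σ g ⟨f, hf⟩ : ↥U) : V) = f := by rw [h1]; rfl
    rw [hσapp] at h2
    exact h2
  · intro h
    have h1 : σ g = 1 := by
      apply LinearMap.ext
      intro x
      apply Subtype.ext
      rw [hσapp]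
      exact h x x.2
    rw [h1, hconj1]

end GEN

end Cfsg.Agent.Helper70.WR
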