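import Mathlib
import Cfsg.Agent.Lib.Helper98.WR0

set_option autoImplicit false

/-!
WR server (helper98, S2347), piece W8: the `[E,E]` trick (a section of `π : E → G` for perfect `G`).
-/

namespace Cfsg.Agent.Helper70.WR

open Matrix Cfsg.Agent.Helper98.SPE Cfsg.Agent.Helper98.WR

universe u v

section GEN

/-- piece W8 -/
theorem exists_section {G : Type u} {E : Type v} [Group G] [Group E] (π : E →* G)
    (hπ : Function.Surjective π) (hperf : commutator G = ⊤) (f₁ f₂ : E →* ℂˣ)
    (hker : ∀ e : E, π e = 1 → f₁ e = 1 → f₂ e = 1 → e = 1) :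
    ∃ s : G →* E, ∀ g : G, π (s g) = g := by
  classical
  have hmap : (commutator E).map π = ⊤ := by
    rw [commutator_def, Subgroup.map_commutator, Subgroup.map_top_of_surjective π hπ,
      ← commutator_def, hperf]
  let φ : ↥(commutator E) →* G := π.comp (commutator E).subtype
  have hφapp : ∀ d : ↥(commutator E), φ d = π (d : E) := fun d => rfl
  have hφs : Function.Surjective φ := by
    intro g
    have hg : g ∈ (commutator E).map π := by rw [hmap]; exact Subgroup.mem_top g
    obtain ⟨d, hd, rfl⟩ := Subgroup.mem_map.mp hg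
    exact ⟨⟨d, hd⟩, rfl⟩
  have hφi : Function.Injective φ := by
    rw [injective_iff_map_eq_one]
    intro d hd
    rw [hφapp] at hd
    have h1 : f₁ (d : E) = 1 := MonoidHom.mem_ker.mp (Abelianization.commutator_subset_ker f₁ d.2)
    have h2 : f₂ (d : E) = 1 := MonoidHom.mem_ker.mp (Abelianization.commutator_subset_ker f₂ d.2)
    exact Subtype.ext (hker (d : E) hd h1 h2)
  refine ⟨(commutator E).subtype.comp (MulEquiv.ofBijective φ ⟨hφi, hφs⟩).symm.toMonoidHom, ?_⟩
  intro g
  show φ ((MulEquiv.ofBijective φ ⟨hφi, hφs⟩).symm g) = g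
  exact (MulEquiv.ofBijective φ ⟨hφi, hφs⟩).apply_symm_apply g

end GEN

end Cfsg.Agent.Helper70.WR
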