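import Mathlib
import Cfsg.Agent.Lib.Helper98.WR0

set_option autoImplicit false

/-!
WR server (helper98, S2347), piece W9: the determinant of the restriction to an invariant subspace.
-/

namespace Cfsg.Agent.Helper70.WR

open Matrix Cfsg.Agent.Helper98.SPE Cfsg.Agent.Helper98.WR

universe u v

section GEN

/-- piece W9 -/
theorem exists_det_restrict {H : Type u} [Group H] {V : Type v} [AddCommGroup V] [Module ℂ V]
    [FiniteDimensional ℂ V] (E : Subgroup (H × (Module.End ℂ V)ˣ)) (U : Submodule ℂ V)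
    (hU : ∀ e ∈ E, ∀ f ∈ U, ((e.2 : (Module.End ℂ V)ˣ) : Module.End ℂ V) f ∈ U) :
    ∃ f₂ : ↥E →* ℂˣ, ∀ (e : ↥E) (c : ℂ),
      (((e : H × (Module.End ℂ V)ˣ).2 : (Module.End ℂ V)ˣ) : Module.End ℂ V) = c • 1 →
        ((f₂ e : ℂˣ) : ℂ) = c ^ Module.finrank ℂ ↥U := by
  classical
  let σ : ↥E →* Module.End ℂ ↥U :=
    { toFun := fun e =>
        (((e : H × (Module.End ℂ V)ˣ).2 : (Module.End ℂ V)ˣ) : Module.End ℂ V).restrict
          (hU e e.2)
      map_one' := by
        apply LinearMap.ext
        intro x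
        apply Subtype.ext
        simp [LinearMap.restrict_apply]
      map_mul' := fun a b => by
        apply LinearMap.ext
        intro x
        apply Subtype.ext
        simp [LinearMap.restrict_apply] }
  have hσapp : ∀ (e : ↥E) (x : ↥U), ((σ e x : ↥U) : V) =
      (((e : H × (Module.End ℂ V)ˣ).2 : (Module.End ℂ V)ˣ) : Module.End ℂ V) (x : V) :=
    fun e x => rfl
  refine ⟨(Units.map (LinearMap.det : Module.End ℂ ↥U →* ℂ)).comp σ.toHomUnits, ?_⟩
  intro e c hc
  have hσ : σ e = c • 1 := by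
    apply LinearMap.ext
    intro x
    apply Subtype.ext
    rw [hσapp, hc]
    rfl
  show LinearMap.det (σ e) = _
  rw [hσ, LinearMap.det_smul, map_one, mul_one]

end GEN

end Cfsg.Agent.Helper70.WR
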